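import Groth.Agent.SphLib.Charts
import Groth.Agent.HenselLib.HullFlat
import Groth.Agent.HenselLib.PairHens
import Mathlib.RingTheory.Flat.EquationalCriterion
import Mathlib.RingTheory.Flat.Localization

/-!
# Flatness of Henselizations on local rings
-/

set_option autoImplicit false
set_option linter.all false
set_option backward.isDefEq.respectTransparency.types false
set_option backward.isDefEq.respectTransparency false

universe u

open CategoryTheory Opposite TopologicalSpace AlgebraicGeometry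

namespace Groth.Agent.SphLib

section Ring

variable {A B : Type u} [CommRing A] [CommRing B]

/-- Henselizations of localizations are flat. -/
theorem IsHensAway.flat {I : Ideal A} {f : A} {φ : A →+* B} (h : HensSch.IsHensAway A I f B φ) :
    φ.Flat := by
  obtain ⟨hu, hH, huniv⟩ := h
  let L := Localization.Away f
  let IL := I.map (algebraMap A L)
  let B' := HenselLib.PairH L IL
  obtain ⟨hH', huniv'⟩ := HenselLib.isPairHull_pairH L IL
  let φ' : A →+* B' := (algebraMap L B').comp (algebraMap A L)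
  have hI' : I.map φ' = IL.map (algebraMap L B') := (Ideal.map_map _ _).symm
  have hu' : IsUnit (φ' f) := (IsLocalization.Away.algebraMap_isUnit (S := L) f).map (algebraMap L B')
  obtain ⟨m, hm, -⟩ := huniv B' _ φ' hH' hI'.le hu'
  let l : L →+* B := IsLocalization.Away.lift f hu
  have hl : l.comp (algebraMap A L) = φ := RingHom.ext fun a => IsLocalization.Away.lift_eq f hu a
  have hlI : IL.map l ≤ I.map φ := le_of_eq (by rw [Ideal.map_map, hl])
  obtain ⟨k, hk, -⟩ := huniv' B (I.map φ) l hH hlI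
  have hkφ : k.comp φ' = φ := by rw [← RingHom.comp_assoc, hk, hl]
  have h1 : k.comp m = RingHom.id B := (huniv B (I.map φ) φ hH le_rfl hu).unique
    (by rw [RingHom.comp_assoc, hm, hkφ]) (RingHom.id_comp _)
  have h2 : m.comp k = RingHom.id B' := (huniv' B' _ (algebraMap L B') hH' le_rfl).unique (by
    refine IsLocalization.ringHom_ext (Submonoid.powers f) ?_
    rw [RingHom.comp_assoc, RingHom.comp_assoc]
    show m.comp (k.comp φ') = φ'
    rw [hkφ, hm]) (RingHom.id_comp _)
  have hbij : Function.Bijective k := (RingEquiv.ofRingHom k m h1 h2).bijective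
  have h3 : φ'.Flat := RingHom.Flat.comp
    (RingHom.flat_algebraMap_iff.2 (IsLocalization.flat L (Submonoid.powers f)))
    (RingHom.flat_algebraMap_iff.2 (inferInstance : Module.Flat L B'))
  rw [← hkφ]
  exact RingHom.Flat.comp h3 (RingHom.Flat.of_bijective hbij)

end Ring

section Stalk

variable {X : Scheme.{u}} {Y : Set X} {Xh : LocallyRingedSpace.{u}} {ι : Xh ⟶ X.toLocallyRingedSpace}

theorem exists_bOpen_le_of_chart (he : Topology.IsEmbedding ι.base) {U : X.Opens} (hU : IsAffineOpen U)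
    (O : Opens Xh) (x : Xh) (hx : x ∈ O) (hxU : ι.base x ∈ U) :
    ∃ g : Γ(X, U), x ∈ bOpen ι g ∧ bOpen ι g ≤ O := by
  obtain ⟨O', hO', hOe⟩ := he.isInducing.isOpen_iff.1 O.2
  obtain ⟨f, hfO, hxf⟩ := hU.exists_basicOpen_le (V := (⟨O', hO'⟩ : X.Opens)) ⟨ι.base x, by
    have : x ∈ ι.base ⁻¹' O' := hOe ▸ hx
    exact this⟩ hxU
  refine ⟨f, hxf, fun y hy => ?_⟩
  have : y ∈ ι.base ⁻¹' O' := hfO hy
  rwa [hOe] at this

/-- Flatness of stalk maps from flatness over sections. -/
theorem flat_stalkMap_of_flat (he : Topology.IsEmbedding ι.base) (z : Xh) {U : X.Opens} (hUa : IsAffineOpen U)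
    (hxU : ι.base z ∈ U) (hflat : ∀ g : Γ(X, U), (chartMap ι U g).Flat) : (ι.stalkMap z).hom.Flat := by
  let R := Γ(X, U)
  letI : Algebra R (X.presheaf.stalk (ι.base z)) := (X.presheaf.germ U (ι.base z) hxU).hom.toAlgebra
  haveI : IsLocalization.AtPrime (X.presheaf.stalk (ι.base z)) (hUa.primeIdealOf ⟨ι.base z, hxU⟩).asIdeal :=
    hUa.isLocalization_stalk ⟨ι.base z, hxU⟩
  letI : Algebra (X.presheaf.stalk (ι.base z)) (Xh.presheaf.stalk z) := (ι.stalkMap z).hom.toAlgebra
  letI : Algebra R (Xh.presheaf.stalk z) :=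
    ((ι.stalkMap z).hom.comp (X.presheaf.germ U (ι.base z) hxU).hom).toAlgebra
  haveI : IsScalarTower R (X.presheaf.stalk (ι.base z)) (Xh.presheaf.stalk z) :=
    IsScalarTower.of_algebraMap_eq fun _ => rfl
  show Module.Flat (X.presheaf.stalk (ι.base z)) (Xh.presheaf.stalk z)
  refine (Module.flat_iff_of_isLocalization (R := R) _ (hUa.primeIdealOf ⟨ι.base z, hxU⟩).asIdeal.primeCompl _).2 ?_
  refine Module.Flat.of_forall_isTrivialRelation fun {n f x} hfx => ?_
  choose W hzW s hs using fun i => TopCat.Presheaf.exists_germ_eq Xh.presheaf (x i)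
  have hWo : ∀ i, IsOpen (W i).1 := fun i => (W i).2
  let W₀ : Opens Xh := ⟨(⋂ i, (W i).1) ∩ ι.base ⁻¹' U,
    (isOpen_iInter_of_finite hWo).inter (U.2.preimage ι.base.hom.continuous)⟩
  have hW₀ : ∀ i, W₀ ≤ W i := fun i y hy => Set.mem_iInter.1 hy.1 i
  have hW₀U : W₀ ≤ (Opens.map ι.base).obj U := fun y hy => hy.2
  have hzW₀ : z ∈ W₀ := ⟨Set.mem_iInter.2 hzW, hxU⟩
  -- the relation holds on some neighbourhood
  let t : Xh.presheaf.obj (op W₀) := ∑ i, pullRes ι U W₀ hW₀U (f i) * Xh.presheaf.map (homOfLE (hW₀ i)).op (s i)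
  have ht : Xh.presheaf.germ W₀ z hzW₀ t = Xh.presheaf.germ W₀ z hzW₀ 0 := by
    rw [map_zero, map_sum, ← hfx]
    refine Finset.sum_congr rfl fun i _ => ?_
    rw [map_mul, TopCat.Presheaf.germ_res_apply, hs, Algebra.smul_def]
    refine congrArg (· * x i) ?_
    refine (TopCat.Presheaf.germ_res_apply Xh.presheaf (homOfLE hW₀U) z hzW₀ _).trans ?_
    exact (LocallyRingedSpace.stalkMap_germ_apply ι U z hxU (f i)).symm
  obtain ⟨V, hzV, i₁, i₂, hV⟩ := TopCat.Presheaf.germ_eq Xh.presheaf z hzW₀ hzW₀ _ _ ht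
  obtain ⟨g, hzg, hg⟩ := exists_bOpen_le_of_chart he hUa V z hzV hxU
  have hgW : bOpen ι g ≤ W₀ := hg.trans (leOfHom i₁)
  letI : Algebra R (Xh.presheaf.obj (op (bOpen ι g))) := (chartMap ι U g).toAlgebra
  haveI : Module.Flat R (Xh.presheaf.obj (op (bOpen ι g))) := hflat g
  let y : Fin n → Xh.presheaf.obj (op (bOpen ι g)) := fun i => Xh.presheaf.map (homOfLE (hgW.trans (hW₀ i))).op (s i)
  have hy : ∑ i, f i • y i = 0 := by
    have h0 : Xh.presheaf.map (homOfLE hgW).op t = 0 := by
      have := congrArg (Xh.presheaf.map (homOfLE hg).op) hV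
      rw [map_zero, map_zero] at this
      rw [← this, ← ConcreteCategory.comp_apply, ← Functor.map_comp]
      rfl
    rw [← h0, map_sum]
    refine Finset.sum_congr rfl fun i _ => ?_
    rw [map_mul, Algebra.smul_def]
    refine congrArg₂ (· * ·) ?_ ?_
    · exact (res_pullRes ι hW₀U hgW (f i)).symm
    · rw [← ConcreteCategory.comp_apply, ← Functor.map_comp]
      rfl
  obtain ⟨k, a, b, hb, ha⟩ := Module.Flat.isTrivialRelation_of_sum_smul_eq_zero (R := R) (M := Xh.presheaf.obj (op (bOpen ι g))) (f := f) (x := y) (by exact hy)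
  refine ⟨k, a, fun j => Xh.presheaf.germ (bOpen ι g) z hzg (b j), fun i => ?_, ha⟩
  rw [← hs i, ← TopCat.Presheaf.germ_res_apply Xh.presheaf (homOfLE (hgW.trans (hW₀ i))) z hzg (s i)]
  show Xh.presheaf.germ (bOpen ι g) z hzg (y i) = _
  rw [hb i, map_sum]
  refine Finset.sum_congr rfl fun j _ => ?_
  rw [Algebra.smul_def, Algebra.smul_def, map_mul]
  refine congrArg (· * _) ?_
  refine (TopCat.Presheaf.germ_res_apply Xh.presheaf (homOfLE (bOpen_le ι g)) z hzg _).trans ?_
  exact (LocallyRingedSpace.stalkMap_germ_apply ι U z hxU (a i j)).symm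

/-- Local rings of Henselizations are flat. -/
theorem HasCharts.flat_stalkMap (hc : HasCharts ι Y) (z : Xh) : (ι.stalkMap z).hom.Flat := by
  obtain ⟨he, hr, hch⟩ := hc
  obtain ⟨U, hxU, hU⟩ := hch (ι.base z) (hr ▸ ⟨z, rfl⟩)
  exact flat_stalkMap_of_flat he z hU.1 hxU fun g => IsHensAway.flat (hU.2 g)

end Stalk

section Sph

variable {A : Type u} [CommRing A] {I : Ideal A} {X : LocallyRingedSpace.{u}} {π : X ⟶ HensSch.specLRS A}

/-- Local rings of affine Henselian spectra are flat. -/
theorem flat_stalkMap_sph (h : HensSch.IsSph A I X π) (z : X) : (π.stalkMap z).hom.Flat := by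
  refine flat_stalkMap_of_flat (X := Spec (CommRingCat.of A)) h.1 z (isAffineOpen_top _) trivial fun g => ?_
  let e : A ≃+* Γ(Spec (CommRingCat.of A), ⊤) :=
    (Scheme.ΓSpecIso (CommRingCat.of A)).symm.commRingCatIsoToRingEquiv
  obtain ⟨a, rfl⟩ := e.surjective g
  have key : ∀ (W : Opens X) (hW : W = HensSch.dOpen π a) (hle : W ≤ (Opens.map π.base).obj ⊤),
      (pullRes π ⊤ W hle).Flat := by
    rintro W rfl hle
    have hf : ((pullRes π ⊤ (HensSch.dOpen π a) hle).comp e.toRingHom).Flat := IsHensAway.flat (h.2.2 a)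
    exact (RingHom.Flat.comp_iff_of_bijective_right (f := pullRes π ⊤ _ hle) (g := e.toRingHom) e.bijective).1 hf
  exact key _ (congrArg (fun O => (Opens.map π.base).obj O) (basicOpen_eq_of_affine (R := CommRingCat.of A) a)) _

end Sph

end Groth.Agent.SphLib
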