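import Groth.Agent.SphLib.Charts
import Groth.Agent.SphLib.Flat
import Groth.Agent.HenselLib.HullNoeth
import Mathlib.AlgebraicGeometry.Noetherian

/-!
# Local rings of Henselizations of schemes
-/

set_option autoImplicit false
set_option linter.all false
set_option backward.isDefEq.respectTransparency false
set_option backward.isDefEq.respectTransparency.types false
set_option backward.defeqAttrib.useBackward true

universe u

open CategoryTheory CategoryTheory.Limits AlgebraicGeometry Opposite TopologicalSpace Polynomial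

namespace Groth.Agent.SphLib

variable {X : Scheme.{u}} {Y : Set X} {Xh : LocallyRingedSpace.{u}} {ι : Xh ⟶ X.toLocallyRingedSpace}

section

variable (he : Topology.IsEmbedding ι.base) {U : X.Opens} (hU : IsChart ι Y U) (z : Xh) (hzU : ι.base z ∈ U)

/-- Germs of chart sections. -/
noncomputable abbrev chartGerm (g : Γ(X, U)) (hg : z ∈ bOpen ι g) :
    Xh.presheaf.obj (op (bOpen ι g)) →+* Xh.presheaf.stalk z :=
  (Xh.presheaf.germ (bOpen ι g) z hg).hom

theorem chartGerm_chartMap (g : Γ(X, U)) (hg : z ∈ bOpen ι g) (a : Γ(X, U)) :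
    chartGerm z g hg (chartMap ι U g a) = ι.stalkMap z (X.presheaf.germ U (ι.base z) hzU a) :=
  (Xh.presheaf.germ_res_apply (homOfLE (bOpen_le ι g)) z hg _).trans
    (LocallyRingedSpace.stalkMap_germ_apply ι U z hzU a).symm

include he hU hzU

theorem exists_chartGerm_eq (e : Xh.presheaf.stalk z) :
    ∃ (g : Γ(X, U)) (hg : z ∈ bOpen ι g) (b : Xh.presheaf.obj (op (bOpen ι g))), chartGerm z g hg b = e := by
  obtain ⟨W, hzW, s, rfl⟩ := Xh.presheaf.exists_germ_eq (x := z) e
  obtain ⟨g, hg, hgW⟩ := exists_bOpen_le_of_chart he hU.1 W z hzW hzU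
  exact ⟨g, hg, Xh.presheaf.map (homOfLE hgW).op s, Xh.presheaf.germ_res_apply (homOfLE hgW) z hg s⟩

theorem chartI_germ_le_maximal (hz : ι.base z ∈ Y) :
    (chartI Y U).map (X.presheaf.germ U (ι.base z) hzU).hom ≤ IsLocalRing.maximalIdeal _ := by
  rw [Ideal.map_le_iff_le_comap]
  intro a ha
  rw [Ideal.mem_comap, IsLocalRing.mem_maximalIdeal, mem_nonunits_iff]
  exact fun hu => mem_chartI.1 ha _ hz ((X.mem_basicOpen a _ hzU).2 hu)

/-- The local ring is a Henselian pair along the chart ideal. -/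
theorem henselianRing_stalk (hz : ι.base z ∈ Y) :
    HenselianRing (Xh.presheaf.stalk z)
      (((chartI Y U).map (X.presheaf.germ U (ι.base z) hzU).hom).map (ι.stalkMap z).hom) := by
  classical
  let φ : Γ(X, U) →+* Xh.presheaf.stalk z := (ι.stalkMap z).hom.comp (X.presheaf.germ U (ι.base z) hzU).hom
  rw [Ideal.map_map]
  show HenselianRing _ ((chartI Y U).map φ)
  have hle : (chartI Y U).map φ ≤ IsLocalRing.maximalIdeal _ := by
    rw [Ideal.map_le_iff_le_comap]
    intro a ha
    rw [Ideal.mem_comap]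
    haveI : IsLocalHom (ι.stalkMap z).hom := ι.prop z
    refine (IsLocalRing.mem_maximalIdeal _).2 fun hu => ?_
    exact (IsLocalRing.mem_maximalIdeal _).1 (chartI_germ_le_maximal he hU z hzU hz (Ideal.mem_map_of_mem _ ha))
      (IsLocalHom.map_nonunit (f := (ι.stalkMap z).hom) _ hu)
  refine ⟨fun x hx => ?_, fun F hF a₀ h0 h1 => ?_⟩
  · rw [IsLocalRing.jacobson_eq_maximalIdeal ⊥ bot_ne_top]
    exact hle hx
  -- a common stage
  have hrepr : ∀ (s : Finset (Xh.presheaf.stalk z)), ∃ (g : Γ(X, U)) (hg : z ∈ bOpen ι g),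
      ∀ e ∈ s, ∃ b, chartGerm z g hg b = e := by
    intro s
    induction s using Finset.induction_on with
    | empty => exact ⟨1, by
        show ι.base z ∈ X.basicOpen (1 : Γ(X, U))
        rw [X.basicOpen_of_isUnit isUnit_one]; exact hzU, by simp⟩
    | insert e s _ ih =>
      obtain ⟨g, hg, hs⟩ := ih
      obtain ⟨g', hg', b', hb'⟩ := exists_chartGerm_eq he hU z hzU e
      have hgg : z ∈ bOpen ι (g * g') := by
        show ι.base z ∈ X.basicOpen (g * g')
        rw [Scheme.basicOpen_mul]; exact ⟨hg, hg'⟩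
      have h₁ : bOpen ι (g * g') ≤ bOpen ι g := fun y hy => by
        have : ι.base y ∈ X.basicOpen (g * g') := hy
        rw [Scheme.basicOpen_mul] at this; exact this.1
      have h₂ : bOpen ι (g * g') ≤ bOpen ι g' := fun y hy => by
        have : ι.base y ∈ X.basicOpen (g * g') := hy
        rw [Scheme.basicOpen_mul] at this; exact this.2
      refine ⟨g * g', hgg, fun x hx => ?_⟩
      rcases Finset.mem_insert.1 hx with rfl | hx
      · exact ⟨Xh.presheaf.map (homOfLE h₂).op b', (Xh.presheaf.germ_res_apply _ z hgg b').trans hb'⟩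
      · obtain ⟨b, hb⟩ := hs x hx
        exact ⟨Xh.presheaf.map (homOfLE h₁).op b, (Xh.presheaf.germ_res_apply _ z hgg b).trans hb⟩
  obtain ⟨c, hc, hcv⟩ : ∃ (T : Γ(X, U) →₀ Xh.presheaf.stalk z), (∀ i ∈ T.support, i ∈ chartI Y U) ∧
      F.eval a₀ = T.sum fun i r => r * φ i := by
    obtain ⟨T, hT, hTsum⟩ := (Finsupp.mem_span_image_iff_linearCombination (R := Xh.presheaf.stalk z)
      (v := φ)).1 h0
    refine ⟨T, fun i hi => hT hi, hTsum.symm.trans ?_⟩
    simp [Finsupp.linearCombination_apply, smul_eq_mul]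
  obtain ⟨g₀, hg₀, hall⟩ := hrepr ((F.support.image F.coeff) ∪ {a₀} ∪ (c.support.image c))
  choose! b hb using hall
  let σ := chartGerm z g₀ hg₀
  have hlift : F ∈ lifts σ := by
    rw [lifts_iff_coeff_lifts]
    intro n
    by_cases hn : n ∈ F.support
    · exact ⟨b (F.coeff n), hb _ (Finset.mem_union_left _ (Finset.mem_union_left _ (Finset.mem_image_of_mem _ hn)))⟩
    · exact ⟨0, by rw [map_zero, notMem_support_iff.1 hn]⟩
  obtain ⟨G, hGF, -, hGm⟩ := lifts_and_natDegree_eq_and_monic hlift hF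
  let α := b a₀
  have hα : σ α = a₀ := hb _ (Finset.mem_union_left _ (Finset.mem_union_right _ (Finset.mem_singleton_self _)))
  let T' : Xh.presheaf.obj (op (bOpen ι g₀)) := ∑ i ∈ c.support, b (c i) * chartMap ι U g₀ i
  have hT' : σ (G.eval α - T') = 0 := by
    rw [map_sub, ← eval₂_hom, ← Polynomial.eval_map, hGF, hα, hcv, map_sum, Finsupp.sum, sub_eq_zero]
    refine Finset.sum_congr rfl fun i hi => ?_
    rw [map_mul, chartGerm_chartMap z hzU g₀ hg₀ i,
      hb _ (Finset.mem_union_right _ (Finset.mem_image_of_mem _ hi))]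
    rfl
  obtain ⟨W, hzW, iW, iW', hW⟩ := Xh.presheaf.germ_eq z hg₀ hg₀ (G.eval α - T') 0 (hT'.trans (map_zero σ).symm)
  have hderiv : IsUnit (σ (G.derivative.eval α)) := by
    rw [← eval₂_hom, ← Polynomial.eval_map, ← derivative_map, hGF, hα]
    by_contra hnu
    have hm : F.derivative.eval a₀ ∈ IsLocalRing.maximalIdeal (Xh.presheaf.stalk z) := hnu
    obtain ⟨y, hy⟩ := h1.exists_left_inv
    obtain ⟨y, rfl⟩ := Ideal.Quotient.mk_surjective y
    rw [← map_mul, ← map_one (Ideal.Quotient.mk _), Ideal.Quotient.eq] at hy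
    exact (IsLocalRing.maximalIdeal.isMaximal _).ne_top ((Ideal.eq_top_iff_one _).2 (by
      have := sub_mem (Ideal.mul_mem_left _ y hm) (hle hy)
      rwa [sub_sub_cancel] at this))
  have hzD : z ∈ W ⊓ Xh.toRingedSpace.basicOpen (G.derivative.eval α) :=
    ⟨hzW, (Xh.toRingedSpace.mem_basicOpen _ z hg₀).2 hderiv⟩
  obtain ⟨g₁, hg₁, hg₁le⟩ := exists_bOpen_le_of_chart he hU.1 _ z hzD hzU
  have hle₁ : bOpen ι g₁ ≤ bOpen ι g₀ := (hg₁le.trans inf_le_left).trans iW.le
  let r : Xh.presheaf.obj (op (bOpen ι g₀)) →+* Xh.presheaf.obj (op (bOpen ι g₁)) :=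
    (Xh.presheaf.map (homOfLE hle₁).op).hom
  have hrI : ∀ i ∈ chartI Y U, r (chartMap ι U g₀ i) ∈ (chartI Y U).map (chartMap ι U g₁) := fun i hi => by
    rw [show r (chartMap ι U g₀ i) = chartMap ι U g₁ i from res_pullRes ι (bOpen_le ι g₀) hle₁ i]
    exact Ideal.mem_map_of_mem _ hi
  have hG0 : (G.map r).eval (r α) ∈ (chartI Y U).map (chartMap ι U g₁) := by
    rw [Polynomial.eval_map, eval₂_hom]
    have : r (G.eval α) = r T' := by
      have h := congrArg (Xh.presheaf.map (homOfLE (hg₁le.trans inf_le_left)).op) hW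
      rw [map_zero, map_zero, ← ConcreteCategory.comp_apply, ← Functor.map_comp] at h
      rw [← sub_eq_zero, ← map_sub]
      exact h
    rw [this, map_sum]
    exact Ideal.sum_mem _ fun i hi => by rw [map_mul]; exact Ideal.mul_mem_left _ _ (hrI i (hc i hi))
  have hG1 : IsUnit ((G.map r).derivative.eval (r α)) := by
    rw [derivative_map, Polynomial.eval_map, eval₂_hom]
    refine Xh.toRingedSpace.isUnit_of_isUnit_germ _ _ fun x hx => ?_
    have h := (Xh.toRingedSpace.mem_basicOpen (G.derivative.eval α) x (hle₁ hx)).1 (hg₁le hx).2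
    rwa [show Xh.presheaf.germ (bOpen ι g₁) x hx (r (G.derivative.eval α)) =
      Xh.presheaf.germ (bOpen ι g₀) x (hle₁ hx) (G.derivative.eval α) from
        Xh.presheaf.germ_res_apply _ x hx _]
  obtain ⟨a, ha, hmem⟩ := ((hU.2 g₁).2.1).is_henselian (G.map r) (hGm.map r) (r α) hG0
    (hG1.map (Ideal.Quotient.mk _))
  have hσr : ∀ x, chartGerm z g₁ hg₁ (r x) = σ x := fun x => Xh.presheaf.germ_res_apply _ z hg₁ x
  refine ⟨chartGerm z g₁ hg₁ a, ?_, ?_⟩
  · rw [IsRoot.def] at ha ⊢
    rw [show F = (G.map r).map (chartGerm z g₁ hg₁) by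
      rw [Polynomial.map_map, show (chartGerm z g₁ hg₁).comp r = σ from RingHom.ext hσr, hGF],
      Polynomial.eval_map, eval₂_hom, ha, map_zero]
  · rw [← hα, ← hσr α, ← map_sub]
    have hcomp : (chartGerm z g₁ hg₁).comp (chartMap ι U g₁) = φ :=
      RingHom.ext (chartGerm_chartMap z hzU g₁ hg₁)
    rw [← hcomp, ← Ideal.map_map]
    exact Ideal.mem_map_of_mem _ hmem

/-- The local ring is a quotient of the Henselization of the local ring downstairs. -/
theorem exists_surjection (hz : ι.base z ∈ Y) :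
    letI : Algebra (X.presheaf.stalk (ι.base z)) (Xh.presheaf.stalk z) := (ι.stalkMap z).hom.toAlgebra
    ∃ k : HenselLib.PairH (X.presheaf.stalk (ι.base z)) ((chartI Y U).map (X.presheaf.germ U (ι.base z) hzU).hom)
      →ₐ[X.presheaf.stalk (ι.base z)] Xh.presheaf.stalk z, Function.Surjective k := by
  letI : Algebra (X.presheaf.stalk (ι.base z)) (Xh.presheaf.stalk z) := (ι.stalkMap z).hom.toAlgebra
  let J := (chartI Y U).map (X.presheaf.germ U (ι.base z) hzU).hom
  let H := HenselLib.PairH (X.presheaf.stalk (ι.base z)) J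
  obtain ⟨hHh, hHu⟩ := HenselLib.isPairHull_pairH (X.presheaf.stalk (ι.base z)) J
  have hst : HenselianRing (Xh.presheaf.stalk z) (J.map (ι.stalkMap z).hom) := henselianRing_stalk he hU z hzU hz
  obtain ⟨k, hk, -⟩ := hHu (Xh.presheaf.stalk z) _ (ι.stalkMap z).hom hst le_rfl
  refine ⟨AlgHom.mk k fun a => RingHom.congr_fun hk a, fun e => ?_⟩
  obtain ⟨g, hg, b, rfl⟩ := exists_chartGerm_eq he hU z hzU e
  let u : Γ(X, U) →+* H := (algebraMap _ H).comp (X.presheaf.germ U (ι.base z) hzU).hom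
  have hgu : IsUnit (u g) := ((X.mem_basicOpen g _ hzU).1 hg).map (algebraMap (X.presheaf.stalk (ι.base z)) H)
  obtain ⟨hg', hgH, huniv⟩ := hU.2 g
  obtain ⟨h, hh, -⟩ := huniv H (J.map (algebraMap _ H)) u hHh (by rw [← Ideal.map_map]) hgu
  have h1 : k.comp h = chartGerm z g hg :=
    (huniv (Xh.presheaf.stalk z) _ ((ι.stalkMap z).hom.comp (X.presheaf.germ U (ι.base z) hzU).hom) hst
      (by rw [← Ideal.map_map]) (((X.mem_basicOpen g _ hzU).1 hg).map (ι.stalkMap z).hom)).unique
      (by rw [RingHom.comp_assoc, hh]; show k.comp ((algebraMap _ H).comp _) = _; rw [← RingHom.comp_assoc, hk])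
      (RingHom.ext (chartGerm_chartMap z hzU g hg))
  exact ⟨h b, RingHom.congr_fun h1 b⟩

theorem exists_sub_mem_pow (hz : ι.base z ∈ Y) (n : ℕ) (e : Xh.presheaf.stalk z) :
    ∃ r : X.presheaf.stalk (ι.base z), e - ι.stalkMap z r ∈
      (((chartI Y U).map (X.presheaf.germ U (ι.base z) hzU).hom) ^ n).map (ι.stalkMap z).hom := by
  let φ := (ι.stalkMap z).hom
  let J := (chartI Y U).map (X.presheaf.germ U (ι.base z) hzU).hom
  letI : Algebra (X.presheaf.stalk (ι.base z)) (Xh.presheaf.stalk z) := φ.toAlgebra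
  have h1 : ∀ e : Xh.presheaf.stalk z, ∃ r, e - φ r ∈ J.map φ := fun e => by
    obtain ⟨k, hk⟩ := exists_surjection he hU z hzU hz
    obtain ⟨h, rfl⟩ := hk e
    obtain ⟨r, hr⟩ := HenselLib.exists_sub_algebraMap_mem _ _ h
    refine ⟨r, ?_⟩
    have := HenselLib.mem_map_algHom k J hr
    rwa [map_sub, AlgHom.commutes] at this
  induction n generalizing e with
  | zero => exact ⟨0, by rw [pow_zero, Ideal.one_eq_top, Ideal.map_top]; exact Submodule.mem_top⟩
  | succ n ih =>
    have key : ∀ x ∈ (J ^ n).map φ, ∃ r, x - φ r ∈ (J ^ (n + 1)).map φ := by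
      intro x hx
      induction hx using Submodule.span_induction with
      | mem x hx =>
        obtain ⟨a, -, rfl⟩ := hx
        exact ⟨a, by rw [sub_self]; exact zero_mem _⟩
      | zero => exact ⟨0, by rw [map_zero, sub_zero]; exact zero_mem _⟩
      | add x y _ _ hx hy =>
        obtain ⟨r, hr⟩ := hx
        obtain ⟨s, hs⟩ := hy
        exact ⟨r + s, by rw [map_add, add_sub_add_comm]; exact add_mem hr hs⟩
      | smul c x hxm hx =>
        obtain ⟨r, hr⟩ := hx
        obtain ⟨s, hs⟩ := h1 c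
        refine ⟨s * r, ?_⟩
        have : c • x - φ (s * r) = (c - φ s) * x + φ s * (x - φ r) := by
          rw [smul_eq_mul, map_mul]; ring
        rw [this, pow_succ', Ideal.map_mul]
        exact add_mem (Ideal.mul_mem_mul hs hxm) (by rw [← Ideal.map_mul, ← pow_succ']; exact Ideal.mul_mem_left _ _ hr)
    obtain ⟨r, hr⟩ := ih e
    obtain ⟨r', hr'⟩ := key _ hr
    exact ⟨r + r', by rw [map_add, ← sub_sub]; exact hr'⟩

theorem isNoetherianRing_stalk [IsLocallyNoetherian X] (hz : ι.base z ∈ Y) :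
    IsNoetherianRing (Xh.presheaf.stalk z) := by
  letI : Algebra (X.presheaf.stalk (ι.base z)) (Xh.presheaf.stalk z) := (ι.stalkMap z).hom.toAlgebra
  obtain ⟨k, hk⟩ := exists_surjection he hU z hzU hz
  haveI := HenselLib.isNoetherianRing_pairH ((chartI Y U).map (X.presheaf.germ U (ι.base z) hzU).hom)
  exact isNoetherianRing_of_surjective _ _ k.toRingHom hk

end

end Groth.Agent.SphLib
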