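import Groth.Agent.SphLib.PullStalk
import Groth.Agent.SphLib.HensStalk
import Groth.Agent.Coherent.Existence.FullFaithful
import Groth.Agent.Coherent.Existence.Completion
import Mathlib.RingTheory.Flat.FaithfullyFlat.Algebra

/-!
# Inverse images of modules on a Henselization: behaviour on stalks
-/

set_option autoImplicit false
set_option linter.all false
set_option backward.isDefEq.respectTransparency false
set_option backward.isDefEq.respectTransparency.types false
set_option backward.defeqAttrib.useBackward true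

universe u

open CategoryTheory CategoryTheory.Limits AlgebraicGeometry Opposite TopologicalSpace
open scoped TensorProduct

namespace Groth.Agent.SphLib.FormalCompare

open ModSky PullStalk Groth.Agent.Coherent Groth.Agent.Coherent.Existence

variable {A : Type u} [CommRing A] {X : Scheme.{u}} [X.Over (Spec (CommRingCat.of A))] (I : Ideal A)

/-- The closed set cut out by `I`. -/
def cutY : Set X := (X ↘ Spec (CommRingCat.of A)).base ⁻¹' PrimeSpectrum.zeroLocus (I : Set A)

theorem mem_basicOpen_baseHom (x : X) (a : A) :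
    x ∈ X.basicOpen (baseHom A X a) ↔ (X ↘ Spec (CommRingCat.of A)).base x ∈ PrimeSpectrum.basicOpen a := by
  have e := Scheme.preimage_basicOpen_top (X ↘ Spec (CommRingCat.of A))
    ((Scheme.ΓSpecIso (CommRingCat.of A)).inv a)
  have h : X.basicOpen (baseHom A X a) =
      (X ↘ Spec (CommRingCat.of A)) ⁻¹ᵁ (Spec (CommRingCat.of A)).basicOpen ((Scheme.ΓSpecIso _).inv a) := e.symm
  rw [h]
  exact SetLike.ext_iff.1 (basicOpen_eq_of_affine (R := CommRingCat.of A) a) _

theorem mem_cutY (x : X) : x ∈ cutY I ↔ ∀ a ∈ I, x ∉ X.basicOpen (baseHom A X a) := by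
  simp only [mem_basicOpen_baseHom]
  constructor
  · intro h a ha hn
    exact hn (h ha)
  · intro h a ha
    exact not_not.1 (h a ha)

theorem isClosed_cutY : IsClosed (cutY (X := X) I) :=
  (PrimeSpectrum.isClosed_zeroLocus _).preimage (X ↘ Spec (CommRingCat.of A)).base.hom.continuous

/-- The scalars in the local ring. -/
noncomputable def toStalk (x : X) : A →+* X.presheaf.stalk x :=
  (X.presheaf.germ (⊤ : X.Opens) x trivial).hom.comp (baseHom A X)

theorem germ_baseHom (U : X.Opens) (x : X) (hx : x ∈ U) (a : A) :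
    X.presheaf.germ U x hx (rmap (le_top : U ≤ ⊤) (baseHom A X a)) = toStalk x a :=
  X.presheaf.germ_res_apply (homOfLE le_top) x hx _

/-- The ideal in the local ring generated by `I`. -/
noncomputable def stalkI (x : X) : Ideal (X.presheaf.stalk x) := I.map (toStalk x)

theorem map_openIdeal (U : X.Opens) (x : X) (hx : x ∈ U) :
    (openIdeal I U).map (X.presheaf.germ U x hx).hom = stalkI I x := by
  rw [openIdeal, Ideal.map_map, stalkI]
  exact congrArg (fun f => Ideal.map f I) (RingHom.ext fun a => germ_baseHom U x hx a)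

theorem stalkI_le_maximal {x : X} (hx : x ∈ cutY I) : stalkI I x ≤ IsLocalRing.maximalIdeal _ := by
  rw [stalkI, Ideal.map_le_iff_le_comap]
  intro a ha
  rw [Ideal.mem_comap, IsLocalRing.mem_maximalIdeal]
  exact fun hu => (mem_cutY I x).1 hx a ha ((X.mem_basicOpen _ x (show x ∈ (⊤ : X.Opens) from trivial)).2 hu)

theorem exists_isUnit_toStalk {x : X} (hx : x ∉ cutY I) : ∃ a ∈ I, IsUnit (toStalk x a) := by
  rw [mem_cutY] at hx
  push Not at hx
  obtain ⟨a, ha, h⟩ := hx
  exact ⟨a, ha, (X.mem_basicOpen _ x (show x ∈ (⊤ : X.Opens) from trivial)).1 h⟩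

theorem chartI_le_radical {U : X.Opens} (hU : IsAffineOpen U) :
    chartI (cutY I) U ≤ (openIdeal I U).radical := by
  intro a ha
  rw [Ideal.radical_eq_sInf, Ideal.mem_sInf]
  rintro p ⟨hp, hpp⟩
  by_contra hap
  have hxa : hU.fromSpec ⟨p, hpp⟩ ∈ X.basicOpen a := (SetLike.ext_iff.1 (hU.fromSpec_preimage_basicOpen a) ⟨p, hpp⟩).2 hap
  refine mem_chartI.1 ha _ ((mem_cutY I _).2 fun c hc hxc => ?_) hxa
  have hc' : hU.fromSpec ⟨p, hpp⟩ ∈ X.basicOpen (rmap (le_top : U ≤ ⊤) (baseHom A X c)) := by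
    rw [show X.basicOpen (rmap (le_top : U ≤ ⊤) (baseHom A X c)) = U ⊓ X.basicOpen (baseHom A X c) from
      X.basicOpen_res _ _]
    exact ⟨X.basicOpen_le a hxa, hxc⟩
  exact ((SetLike.ext_iff.1 (hU.fromSpec_preimage_basicOpen _) ⟨p, hpp⟩).1 hc') (hp (Ideal.mem_map_of_mem _ hc))

theorem exists_pow_chartI_le [IsLocallyNoetherian X] {U : X.Opens} (hU : IsAffineOpen U) (x : X) (hx : x ∈ U) :
    ∃ N : ℕ, ((chartI (cutY I) U).map (X.presheaf.germ U x hx).hom) ^ N ≤ stalkI I x := by
  have : IsNoetherianRing Γ(X, U) := IsLocallyNoetherian.component_noetherian ⟨U, hU⟩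
  obtain ⟨N, hN⟩ := Ideal.exists_pow_le_of_le_radical_of_fg (chartI_le_radical I hU)
    (IsNoetherian.noetherian _)
  refine ⟨N, ?_⟩
  rw [← Ideal.map_pow, ← map_openIdeal I U x hx]
  exact Ideal.map_mono hN

section Local

variable {Xh : LocallyRingedSpace.{u}} {ι : Xh ⟶ X.toLocallyRingedSpace} (hc : HasCharts ι (cutY I))
  [IsLocallyNoetherian X]

include hc

theorem base_mem (z : Xh) : ι.base z ∈ cutY I := hc.2.1 ▸ ⟨z, rfl⟩

theorem exists_sub_mem (z : Xh) (n : ℕ) (e : Xh.presheaf.stalk z) :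
    ∃ r : X.presheaf.stalk (ι.base z),
      e - ι.stalkMap z r ∈ ((stalkI I (ι.base z)) ^ n).map (ι.stalkMap z).hom := by
  obtain ⟨he, -, hch⟩ := id hc
  obtain ⟨U, hzU, hU⟩ := hch _ (base_mem I hc z)
  obtain ⟨N, hN⟩ := exists_pow_chartI_le I hU.1 _ hzU
  obtain ⟨r, hr⟩ := exists_sub_mem_pow he hU z hzU (base_mem I hc z) (N * n) e
  refine ⟨r, Ideal.map_mono ?_ hr⟩
  rw [pow_mul]
  exact Ideal.pow_right_mono hN n

theorem isNoetherianRing_stalk' (z : Xh) : IsNoetherianRing (Xh.presheaf.stalk z) := by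
  obtain ⟨he, -, hch⟩ := id hc
  obtain ⟨U, hzU, hU⟩ := hch _ (base_mem I hc z)
  exact isNoetherianRing_stalk he hU z hzU (base_mem I hc z)

omit [IsLocallyNoetherian X] in
theorem faithfullyFlat (z : Xh) : Module.FaithfullyFlat (X.presheaf.stalk (ι.base z)) (StR ι z) := by
  haveI : Module.Flat (X.presheaf.stalk (ι.base z)) (StR ι z) := hc.flat_stalkMap z
  haveI : IsLocalRing (StR ι z) := inferInstanceAs (IsLocalRing (Xh.presheaf.stalk z))
  haveI : IsLocalHom (algebraMap (X.presheaf.stalk (ι.base z)) (StR ι z)) := ι.prop z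
  exact Module.FaithfullyFlat.of_flat_of_isLocalHom

/-- On a module killed by a power of `I`, nothing happens. -/
theorem bijective_gamma_of_killed (z : Xh) (G : X.Modules) (n : ℕ)
    (hk : ∀ r ∈ stalkI I (ι.base z) ^ n, ∀ x : GStk ι z G, r • x = 0) : Function.Bijective (gamma ι z G) := by
  haveI := faithfullyFlat I hc z
  have e : ∀ x, gamma ι z G x = beta ι z G (1 ⊗ₜ x) := fun x => ((beta_tmul ι z G 1 x).trans (one_smul _ _)).symm
  refine ⟨fun a b hab => ?_, fun y => ?_⟩
  · rw [e, e] at hab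
    exact Module.FaithfullyFlat.tensorProduct_mk_injective (A := X.presheaf.stalk (ι.base z))
      (B := StR ι z) (GStk ι z G) ((bijective_beta ι z G).1 hab)
  · obtain ⟨t, rfl⟩ := (bijective_beta ι z G).2 y
    suffices ∃ x, (1 : StR ι z) ⊗ₜ[X.presheaf.stalk (ι.base z)] x = t by
      obtain ⟨x, hx⟩ := this
      exact ⟨x, (e x).trans (congrArg _ hx)⟩
    induction t using TensorProduct.induction_on with
    | zero => exact ⟨0, TensorProduct.tmul_zero _ _⟩
    | add a b ha hb =>
      obtain ⟨x, rfl⟩ := ha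
      obtain ⟨y, rfl⟩ := hb
      exact ⟨x + y, TensorProduct.tmul_add _ _ _⟩
    | tmul o x =>
      have hw : ∀ w ∈ (stalkI I (ι.base z) ^ n).map (algebraMap (X.presheaf.stalk (ι.base z)) (StR ι z)),
          w ⊗ₜ[X.presheaf.stalk (ι.base z)] x = 0 := by
        intro w hw
        induction hw using Submodule.span_induction with
        | mem v hv =>
          obtain ⟨a, ha, rfl⟩ := hv
          rw [Algebra.algebraMap_eq_smul_one, TensorProduct.smul_tmul, hk a ha x, TensorProduct.tmul_zero]
        | zero => exact TensorProduct.zero_tmul _ _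
        | add v w _ _ hv hw => rw [TensorProduct.add_tmul, hv, hw, add_zero]
        | smul c v _ hv =>
          have h2 : (c • v) ⊗ₜ[X.presheaf.stalk (ι.base z)] x = c • (v ⊗ₜ[X.presheaf.stalk (ι.base z)] x) :=
            (TensorProduct.smul_tmul' c v x).symm
          rw [h2, hv, smul_zero]
      obtain ⟨r, hr⟩ := exists_sub_mem I hc z n o
      refine ⟨r • x, ?_⟩
      rw [← TensorProduct.smul_tmul, ← Algebra.algebraMap_eq_smul_one, eq_comm, ← sub_eq_zero,
        ← TensorProduct.sub_tmul]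
      exact hw _ hr

end Local

end Groth.Agent.SphLib.FormalCompare
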