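import Groth.Agent.SphLib.ModSky
import Mathlib.RingTheory.Flat.Basic
import Mathlib.RingTheory.RingHom.Flat

/-!
# Inverse images of modules along morphisms with flat stalk maps
-/

set_option autoImplicit false
set_option linter.all false
set_option backward.isDefEq.respectTransparency false
set_option backward.isDefEq.respectTransparency.types false
set_option backward.defeqAttrib.useBackward true

universe u

open CategoryTheory CategoryTheory.Limits AlgebraicGeometry Opposite TopologicalSpace

namespace Groth.Agent.SphLib.ModSky

variable {Z X : LocallyRingedSpace.{u}} (g : Z ⟶ X) (z : Z)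

theorem germ_app (U : Opens X.toTopCat) (h : g.base z ∈ U) (r : X.presheaf.obj (op U)) :
    Z.presheaf.germ ((Opens.map g.base).obj U) z h (g.c.app (op U) r) = g.stalkMap z (X.presheaf.germ U (g.base z) h r) :=
  (LocallyRingedSpace.stalkMap_germ_apply g U z h r).symm

/-- Sections of a pushed forward skyscraper. -/
noncomputable def skyPushSec (A : ModuleCat.{u} (Z.presheaf.stalk z)) (U : Opens X.toTopCat) :
    ((HensSch.pushMod g).obj ((sky z).obj A)).val.obj (op U) ≅
      ((skyP (g.base z)).obj ((ModuleCat.restrictScalars (g.stalkMap z).hom).obj A)).obj (op U) where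
  hom := ModuleCat.ofHom
    (X := ((HensSch.pushMod g).obj ((sky z).obj A)).val.obj (op U))
    (Y := ((skyP (g.base z)).obj ((ModuleCat.restrictScalars (g.stalkMap z).hom).obj A)).obj (op U))
    { toFun := fun s => smk (x := g.base z) (A := (ModuleCat.restrictScalars (g.stalkMap z).hom).obj A)
        fun h => sval (A := A) (U := (Opens.map g.base).obj U) s h
      map_add' := fun _ _ => rfl
      map_smul' := fun r s => sval_ext (A := (ModuleCat.restrictScalars (g.stalkMap z).hom).obj A) (U := U) fun h => by
        change Z.presheaf.germ ((Opens.map g.base).obj U) z h (g.c.app (op U) r) • sval (A := A) (U := (Opens.map g.base).obj U) s h =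
          g.stalkMap z (X.presheaf.germ U (g.base z) h r) • sval (A := A) (U := (Opens.map g.base).obj U) s h
        erw [germ_app] }
  inv := ModuleCat.ofHom
    (X := ((skyP (g.base z)).obj ((ModuleCat.restrictScalars (g.stalkMap z).hom).obj A)).obj (op U))
    (Y := ((HensSch.pushMod g).obj ((sky z).obj A)).val.obj (op U))
    { toFun := fun s => smk (x := z) (A := A) (U := (Opens.map g.base).obj U)
        fun h => sval (A := (ModuleCat.restrictScalars (g.stalkMap z).hom).obj A) (U := U) s h
      map_add' := fun _ _ => rfl
      map_smul' := fun r s => sval_ext (A := A) (U := (Opens.map g.base).obj U) fun h => by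
        change g.stalkMap z (X.presheaf.germ U (g.base z) h r) • sval (A := A) (U := (Opens.map g.base).obj U) _ h =
          Z.presheaf.germ ((Opens.map g.base).obj U) z h (g.c.app (op U) r) • sval (A := A) (U := (Opens.map g.base).obj U) _ h
        erw [germ_app] }
  hom_inv_id := rfl
  inv_hom_id := rfl

/-- Pushforward of a skyscraper is a skyscraper. -/
noncomputable def skyPushIso :
    sky z ⋙ HensSch.pushMod g ≅ ModuleCat.restrictScalars (g.stalkMap z).hom ⋙ sky (g.base z) :=
  NatIso.ofComponents
    (fun A => (SheafOfModules.fullyFaithfulForget (ModSite.ringSh X.sheaf)).preimageIso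
      (PresheafOfModules.isoMk (fun U => skyPushSec g z A U.unop)
        (fun U V i => ModuleCat.hom_ext (LinearMap.ext fun _ => rfl)) :))
    (fun {A B} φ => (SheafOfModules.fullyFaithfulForget (ModSite.ringSh X.sheaf)).map_injective (by
      simp only [Functor.map_comp, Functor.FullyFaithful.map_preimage, Functor.FullyFaithful.preimageIso_hom]
      rfl))

/-- The stalk of an inverse image is the extension of scalars of the stalk. -/
noncomputable def pullbackStalkIso :
    HensSch.pullMod g ⋙ stalkM z ≅ stalkM (g.base z) ⋙ ModuleCat.extendScalars (g.stalkMap z).hom :=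
  (((HensSch.pullPushAdj g).comp (stalkAdj z)).ofNatIsoRight (skyPushIso g z)).leftAdjointUniq
    ((stalkAdj (g.base z)).comp (ModuleCat.extendRestrictScalarsAdj (g.stalkMap z).hom))

instance : (HensSch.pullMod g).Additive :=
  haveI : PreservesColimitsOfSize.{0, 0} (HensSch.pullMod g) := (HensSch.pullPushAdj g).leftAdjoint_preservesColimits
  haveI : PreservesFiniteColimits (HensSch.pullMod g) := PreservesColimitsOfSize.preservesFiniteColimits _
  haveI : PreservesBinaryBiproducts (HensSch.pullMod g) := preservesBinaryBiproducts_of_preservesBinaryCoproducts _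
  Functor.additive_of_preservesBinaryBiproducts _

theorem mono_extendScalars {R S : Type u} [CommRing R] [CommRing S] (φ : R →+* S) (hφ : φ.Flat)
    {M N : ModuleCat.{u} R} (f : M ⟶ N) [Mono f] : Mono ((ModuleCat.extendScalars φ).map f) := by
  letI := φ.toAlgebra
  haveI : Module.Flat R S := hφ
  rw [ModuleCat.mono_iff_injective]
  exact Module.Flat.lTensor_preserves_injective_linearMap f.hom ((ModuleCat.mono_iff_injective f).1 inferInstance)

/-- Inverse image along a morphism with flat stalk maps is exact. -/
theorem preservesFiniteLimits_pullMod (hflat : ∀ z, (g.stalkMap z).hom.Flat) :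
    PreservesFiniteLimits (HensSch.pullMod g) := by
  haveI : ∀ z, PreservesColimitsOfSize.{0, 0} (stalkM (X := Z) z) := fun z => (stalkAdj z).leftAdjoint_preservesColimits
  haveI : PreservesColimitsOfSize.{0, 0} (HensSch.pullMod g) := (HensSch.pullPushAdj g).leftAdjoint_preservesColimits
  haveI : PreservesFiniteColimits (HensSch.pullMod g) := PreservesColimitsOfSize.preservesFiniteColimits _
  haveI : (HensSch.pullMod g).PreservesMonomorphisms := ⟨fun {A B} f _ => by
    refine Preadditive.mono_of_isZero_kernel _ (isZero_of_stalks fun z => ?_)
    haveI := mono_extendScalars (g.stalkMap z).hom (hflat z) ((stalkM (g.base z)).map f)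
    haveI : Mono ((stalkM z).map ((HensSch.pullMod g).map f)) :=
      (MorphismProperty.monomorphisms (ModuleCat (Z.presheaf.stalk z))).arrow_mk_iso_iff
        (Arrow.isoMk (f := Arrow.mk ((stalkM z).map ((HensSch.pullMod g).map f)))
          (g := Arrow.mk ((ModuleCat.extendScalars (g.stalkMap z).hom).map ((stalkM (g.base z)).map f)))
          ((pullbackStalkIso g z).app A) ((pullbackStalkIso g z).app B)
          ((pullbackStalkIso g z).hom.naturality f).symm) |>.2 ‹_›
    haveI : PreservesFiniteColimits (stalkM (X := Z) z) := PreservesColimitsOfSize.preservesFiniteColimits _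
    haveI : PreservesBinaryBiproducts (stalkM (X := Z) z) := preservesBinaryBiproducts_of_preservesBinaryCoproducts _
    haveI : (stalkM (X := Z) z).Additive := Functor.additive_of_preservesBinaryBiproducts _
    haveI : PreservesFiniteLimits (stalkM (X := Z) z) := by
      have e := (Functor.preservesFiniteLimits_tfae (stalkM (X := Z) z)).out 0 3
      refine e.1 fun S hS => ⟨?_, ?_⟩
      · have e' := (Functor.preservesFiniteColimits_tfae (stalkM (X := Z) z)).out 3 0
        exact (e'.1 inferInstance S hS).1
      · haveI := hS.mono_f
        infer_instance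
    exact IsZero.of_iso (isZero_kernel_of_mono _) (PreservesKernel.iso (stalkM z) ((HensSch.pullMod g).map f))⟩
  have e := (Functor.preservesFiniteLimits_tfae (HensSch.pullMod g)).out 0 3
  refine e.1 fun S hS => ⟨?_, ?_⟩
  · have e' := (Functor.preservesFiniteColimits_tfae (HensSch.pullMod g)).out 3 0
    exact (e'.1 inferInstance S hS).1
  · haveI := hS.mono_f
    infer_instance

end Groth.Agent.SphLib.ModSky
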