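import Groth.Agent.SphLib.Flat
import Groth.Agent.SphLib.ModPull
import Groth.Agent.QCohLoc.Basic

/-!
# Faithfulness of Henselization on quasi-coherent modules
-/

set_option autoImplicit false
set_option linter.all false
set_option backward.isDefEq.respectTransparency.types false
set_option backward.isDefEq.respectTransparency false
set_option backward.defeqAttrib.useBackward true

universe u

open CategoryTheory CategoryTheory.Limits Opposite TopologicalSpace AlgebraicGeometry

namespace Groth.Agent.SphLib

open ModSky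

section LRS

variable {Z X : LocallyRingedSpace.{u}} (g : Z ⟶ X)

/-- Inverse images detect vanishing on stalks along faithfully flat stalk maps. -/
theorem stalkM_map_eq_zero {M N : ModSite.Mod X.sheaf} (d : M ⟶ N) (hd : (HensSch.pullMod g).map d = 0)
    (z : Z) (hflat : (g.stalkMap z).hom.Flat) : (stalkM (g.base z)).map d = 0 := by
  letI := (g.stalkMap z).hom.toAlgebra
  haveI : Module.Flat (X.presheaf.stalk (g.base z)) (Z.presheaf.stalk z) := hflat
  haveI : IsLocalHom (algebraMap (X.presheaf.stalk (g.base z)) (Z.presheaf.stalk z)) := g.prop z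
  haveI := Module.FaithfullyFlat.of_flat_of_isLocalHom (A := X.presheaf.stalk (g.base z)) (B := Z.presheaf.stalk z)
  have h0 : (ModuleCat.extendScalars (g.stalkMap z).hom).map ((stalkM (g.base z)).map d) = 0 := by
    rw [← cancel_epi ((pullbackStalkIso g z).hom.app M)]
    refine ((pullbackStalkIso g z).hom.naturality d).symm.trans ?_
    show (stalkM z).map ((HensSch.pullMod g).map d) ≫ _ = _
    rw [hd]
    haveI : PreservesBinaryBiproducts (stalkM (X := Z) z) := by
      haveI : PreservesColimitsOfSize.{0, 0} (stalkM (X := Z) z) := (stalkAdj z).leftAdjoint_preservesColimits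
      haveI : PreservesFiniteColimits (stalkM (X := Z) z) := PreservesColimitsOfSize.preservesFiniteColimits _
      exact preservesBinaryBiproducts_of_preservesBinaryCoproducts _
    haveI : (stalkM (X := Z) z).Additive := Functor.additive_of_preservesBinaryBiproducts _
    rw [Functor.map_zero]
    exact zero_comp.trans comp_zero.symm
  refine ModuleCat.hom_ext (LinearMap.ext fun m => ?_)
  refine Module.FaithfullyFlat.tensorProduct_mk_injective (A := X.presheaf.stalk (g.base z)) (B := Z.presheaf.stalk z) ((stalkM (g.base z)).obj N : Type u) ?_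
  refine (congrArg (fun f => f.hom ((1 : Z.presheaf.stalk z) ⊗ₜ[(X.presheaf.stalk (g.base z))] m)) h0).trans ?_
  exact (map_zero (TensorProduct.mk (X.presheaf.stalk (g.base z)) (Z.presheaf.stalk z) ((stalkM (g.base z)).obj N : Type u) 1)).symm

end LRS

section Scheme

variable {X : Scheme.{u}} {Y : Set X} {Xh : LocallyRingedSpace.{u}} {ι : Xh ⟶ X.toLocallyRingedSpace}

theorem hom_eq_zero_of_closed [CompactSpace X] {F G : X.Modules} [F.IsQuasicoherent] (d : F ⟶ G)
    (h : ∀ y : X, IsClosed ({y} : Set X) → (stalkM (X := X.toLocallyRingedSpace) y).map d = 0) : d = 0 := by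
  refine SheafOfModules.hom_ext (PresheafOfModules.hom_ext fun U => ModuleCat.hom_ext (LinearMap.ext fun s => ?_))
  show d.val.app U s = 0
  refine TopCat.Presheaf.section_ext ⟨G.presheaf, G.isSheaf⟩ U.unop (d.val.app U s) 0 fun x hx => ?_
  obtain ⟨y, hy, hyc⟩ := IsClosed.exists_closed_singleton (isClosed_closure (s := ({x} : Set X)))
    (Set.singleton_nonempty x).closure
  obtain ⟨V, hV, hyV, -⟩ := exists_isAffineOpen_mem_and_subset (show y ∈ (⊤ : X.Opens) from trivial)
  have hxV : x ∈ V := (specializes_iff_mem_closure.2 hy).mem_open V.2 hyV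
  obtain ⟨f, m, hxf, hfm⟩ := QCohLoc.exists_smul_stalk_eq_germ F hV hxV (F.presheaf.germ U.unop x hx s)
  -- `d m` vanishes near `y`
  have h1 : (stalkM (X := X.toLocallyRingedSpace) y).map d (germP y F.val V hyV m) = 0 := by
    rw [h y hyc]; rfl
  rw [show (stalkM (X := X.toLocallyRingedSpace) y).map d (germP y F.val V hyV m) = germP y G.val V hyV (d.val.app (op V) m)
    from stalkP_map_germP d.val V hyV m] at h1
  obtain ⟨W, hyW, iU, iV, hW⟩ := germP_eq_iff (x := y) G.val hyV hyV (d.val.app (op V) m) 0
    (h1.trans (germP_zero (x := y) G.val V hyV).symm)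
  have hxW : x ∈ W := (specializes_iff_mem_closure.2 hy).mem_open W.2 hyW
  have h2 : germP x G.val V hxV (d.val.app (op V) m) = 0 := by
    rw [← germP_res G.val iU hxW, hW, map_zero, germP_zero]
  have h3 : (stalkM (X := X.toLocallyRingedSpace) x).map d (X.presheaf.germ V x hxV f • germP x F.val U.unop hx s) = 0 := by
    rw [show X.presheaf.germ V x hxV f • germP x F.val U.unop hx s = germP x F.val V hxV m from hfm]
    exact (stalkP_map_germP d.val V hxV m).trans h2
  rw [map_smul] at h3
  have h4 : IsUnit (X.presheaf.germ V x hxV f) := (X.mem_basicOpen _ _ hxV).1 hxf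
  refine ((h4.smul_eq_zero).1 ?_).trans (map_zero _).symm
  refine Eq.trans ?_ h3
  exact congrArg _ (stalkP_map_germP d.val U.unop hx s).symm

/-- Faithfulness of `F ↦ F^h`. -/
theorem pullMod_map_injective [CompactSpace X] (hY : ∀ x : X, IsClosed ({x} : Set X) → x ∈ Y)
    (hh : HensSch.IsHenselizationAlong X Y Xh ι) (F G : X.Modules) [F.IsQuasicoherent] :
    Function.Injective ((HensSch.pullMod ι).map : (F ⟶ G) → ((HensSch.pullMod ι).obj F ⟶ (HensSch.pullMod ι).obj G)) := by
  intro a b hab
  rw [← sub_eq_zero]
  refine hom_eq_zero_of_closed (a - b) fun y hy => ?_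
  obtain ⟨z, rfl⟩ : y ∈ Set.range ι.base := hh.2.2.1.symm ▸ hY y hy
  exact stalkM_map_eq_zero ι (a - b) (by rw [Functor.map_sub, sub_eq_zero]; exact hab) z
    ((hasCharts hh).flat_stalkMap z)

end Scheme

end Groth.Agent.SphLib
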