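import Groth.Agent.SphLib.SheafAlg
import Groth.Agent.Et18.H0Lift.ProperStalk
import Groth.Prelude.Def_EtGm
import Mathlib.RingTheory.Flat.EquationalCriterion

/-!
# Gluing functions over an affine henselian couple

Functions on etale algebras over `H` agreeing near the closed part glue, up to annihilators, to an element
of `H`: this is bijectivity of sections of the sheaf of functions on the small etale site.
-/

set_option autoImplicit false
set_option backward.isDefEq.respectTransparency.types false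
set_option backward.isDefEq.respectTransparency false
set_option linter.unusedSectionVars false

universe u

open CategoryTheory CategoryTheory.Limits AlgebraicGeometry Opposite

namespace Groth.Agent.SphSheaf

open Et18 Et18.H0Lift

variable {H : Type u} [CommRing H]

/-- An etale algebra as an object of the small etale site. -/
noncomputable def vobj (C : Type u) [CommRing C] [Algebra H C] [Algebra.Etale H C] :
    (Spec (CommRingCat.of H)).Etale :=
  haveI : AlgebraicGeometry.Etale (Spec.map (CommRingCat.ofHom (algebraMap H C))) :=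
    (HasRingHomProperty.Spec_iff (P := @AlgebraicGeometry.Etale)).mpr (RingHom.etale_algebraMap.mpr ‹_›)
  Scheme.Etale.mk (Spec.map (CommRingCat.ofHom (algebraMap H C)))

/-- An element as a section of the additive group. -/
noncomputable def toSect (C : Type u) [CommRing C] [Algebra H C] [Algebra.Etale H C] (t : C) :
    EtCoh.sect (EtCoh.Ga (Spec (CommRingCat.of H))) (vobj (H := H) C) :=
  ULift.up ((Scheme.ΓSpecIso (CommRingCat.of C)).inv.hom t)

theorem toSect_sub (C : Type u) [CommRing C] [Algebra H C] [Algebra.Etale H C] (a b : C) :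
    toSect (H := H) C (a - b) = toSect (H := H) C a - toSect (H := H) C b :=
  ULift.ext _ _ (map_sub (Scheme.ΓSpecIso (CommRingCat.of C)).inv.hom a b)

/-- A map of etale algebras as a map of objects. -/
noncomputable def vmap {C D : Type u} [CommRing C] [Algebra H C] [Algebra.Etale H C] [CommRing D]
    [Algebra H D] [Algebra.Etale H D] (χ : C →ₐ[H] D) : vobj (H := H) D ⟶ vobj (H := H) C :=
  MorphismProperty.Over.homMk (Spec.map (CommRingCat.ofHom χ.toRingHom)) (by
    show Spec.map (CommRingCat.ofHom χ.toRingHom) ≫ Spec.map (CommRingCat.ofHom (algebraMap H C)) = _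
    rw [← Spec.map_comp, ← CommRingCat.ofHom_comp]
    congr 2
    exact RingHom.ext χ.commutes) trivial

theorem toSect_map {C D : Type u} [CommRing C] [Algebra H C] [Algebra.Etale H C] [CommRing D]
    [Algebra H D] [Algebra.Etale H D] (χ : C →ₐ[H] D) (t : C) :
    (EtCoh.Ga (Spec (CommRingCat.of H))).obj.map (vmap χ).op (toSect C t) = toSect D (χ t) := by
  refine ULift.ext _ _ ?_
  exact (ConcreteCategory.congr_hom
    (Scheme.ΓSpecIso_inv_naturality (CommRingCat.ofHom χ.toRingHom)) t).symm

/-- Near a point outside the support a function is killed by a function which does not vanish there. -/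
theorem exists_annihilator_of_notMem_supp (C : Type u) [CommRing C] [Algebra H C] [Algebra.Etale H C]
    (d : C) (p : Spec (CommRingCat.of C))
    (hp : p ∉ EtShriek.sectSupp (EtCoh.Ga (Spec (CommRingCat.of H))) (vobj (H := H) C) (toSect C d)) :
    ∃ a : C, a * d = 0 ∧ a ∉ p.asIdeal := by
  replace hp : ¬ ∀ (W : (Spec (CommRingCat.of H)).Etale) (g : W ⟶ vobj (H := H) C),
      (∃ w : W.left, g.left.base w = p) →
        (EtCoh.Ga (Spec (CommRingCat.of H))).obj.map g.op (toSect C d) ≠ 0 := hp
  simp only [not_forall, not_not] at hp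
  obtain ⟨W, g, ⟨w, hw⟩, hzero⟩ := hp
  obtain ⟨U, hU, hwU⟩ : ∃ U : W.left.Opens, IsAffineOpen U ∧ w ∈ U := by
    obtain ⟨U, hU, hwU, -⟩ := W.left.isBasis_affineOpens.exists_subset_of_mem_open (Set.mem_univ w) isOpen_univ
    obtain ⟨V, hV, rfl⟩ := hU
    exact ⟨V, hV, hwU⟩
  have : AlgebraicGeometry.Etale g.left := etale_map_left g
  let k : Spec Γ(W.left, U) ⟶ Spec (CommRingCat.of C) := hU.fromSpec ≫ g.left
  obtain ⟨η, hη⟩ := Spec.map_surjective k
  have hflat : η.hom.Flat := by
    have : AlgebraicGeometry.Flat (Spec.map η) := by rw [hη]; exact inferInstance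
    exact (HasRingHomProperty.Spec_iff (P := @AlgebraicGeometry.Flat)).mp this
  have hd : η.hom d = 0 := by
    have h0 : g.left.appTop.hom ((Scheme.ΓSpecIso (CommRingCat.of C)).inv.hom d) = 0 := congrArg ULift.down hzero
    have h1 : (Scheme.ΓSpecIso Γ(W.left, U)).inv.hom (η.hom d) = 0 := by
      refine (ConcreteCategory.congr_hom (Scheme.ΓSpecIso_inv_naturality η) d).trans ?_
      show (Spec.map η).appTop.hom ((Scheme.ΓSpecIso (CommRingCat.of C)).inv.hom d) = 0
      rw [hη]
      show hU.fromSpec.appTop.hom (g.left.appTop.hom _) = 0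
      exact (congrArg hU.fromSpec.appTop.hom h0).trans (map_zero _)
    exact ((Scheme.ΓSpecIso Γ(W.left, U)).symm.commRingCatIsoToRingEquiv.injective (h1.trans (map_zero _).symm))
  obtain ⟨q, hq⟩ : w ∈ Set.range hU.fromSpec := by rw [hU.range_fromSpec]; exact hwU
  have hqp : q.asIdeal.comap η.hom = p.asIdeal := by
    have : k q = p := (congrArg g.left hq).trans hw
    rw [← hη] at this
    exact congrArg PrimeSpectrum.asIdeal this
  let : Algebra C Γ(W.left, U) := η.hom.toAlgebra
  have : Module.Flat C Γ(W.left, U) := hflat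
  obtain ⟨n, a, y, hay, ha⟩ := Module.Flat.isTrivialRelation_of_sum_smul_eq_zero
    (R := C) (M := Γ(W.left, U)) (f := fun _ : Fin 1 => d) (x := fun _ => 1) (by
      simpa [Algebra.smul_def, RingHom.algebraMap_toAlgebra] using hd)
  obtain ⟨j, hj⟩ : ∃ j, a 0 j ∉ p.asIdeal := by
    by_contra! hall
    refine q.2.ne_top ((Ideal.eq_top_iff_one _).2 ?_)
    rw [show (1 : Γ(W.left, U)) = _ from hay 0]
    refine Ideal.sum_mem _ fun j _ => ?_
    rw [Algebra.smul_def]
    exact Ideal.mul_mem_right _ _ (show a 0 j ∈ q.asIdeal.comap η.hom from hqp.symm ▸ hall j)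
  refine ⟨a 0 j, ?_, hj⟩
  have h := ha j
  simp only [Fin.sum_univ_one] at h
  rw [mul_comm]; exact h

section

variable {A : Type u} [CommRing A] {I : Ideal A}

/-- The reduced basic open as an object over the closed part. -/
noncomputable def qobj (g : A) : (Spec (CommRingCat.of (A ⧸ I))).Etale :=
  haveI : IsOpenImmersion (Spec.map (CommRingCat.ofHom (algebraMap (A ⧸ I) (Qg I g)))) :=
    IsOpenImmersion.of_isLocalization (Ideal.Quotient.mk I g)
  Scheme.Etale.mk (Spec.map (CommRingCat.ofHom (algebraMap (A ⧸ I) (Qg I g))))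

theorem range_qobj_hom (g : A) :
    Set.range (qobj (I := I) g).hom =
      ((PrimeSpectrum.basicOpen (Ideal.Quotient.mk I g) : TopologicalSpace.Opens (PrimeSpectrum (A ⧸ I))) :
        Set (PrimeSpectrum (A ⧸ I))) :=
  PrimeSpectrum.localization_away_comap_range (Qg I g) (Ideal.Quotient.mk I g)

instance isOpenImmersion_qobj_hom (g : A) : IsOpenImmersion (qobj (I := I) g).hom :=
  IsOpenImmersion.of_isLocalization (Ideal.Quotient.mk I g)

variable [Algebra A H] (π : H →ₐ[A] A ⧸ I)

/-- The closed part. -/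
noncomputable abbrev ci : Spec (CommRingCat.of (A ⧸ I)) ⟶ Spec (CommRingCat.of H) :=
  Spec.map (CommRingCat.ofHom π.toRingHom)

/-- A ring map from an etale algebra to a reduced basic open as a map into the base change. -/
noncomputable def secMor {g : A} (C : Type u) [CommRing C] [Algebra H C] [Algebra.Etale H C]
    (ψ : C →+* Qg I g) (hψ : ψ.comp (algebraMap H C) = (algebraMap (A ⧸ I) (Qg I g)).comp π.toRingHom) :
    qobj (I := I) g ⟶ (EtCoh.bc (ci π)).obj (vobj (H := H) C) :=
  MorphismProperty.Over.homMk (pullback.lift (Spec.map (CommRingCat.ofHom ψ)) (qobj (I := I) g).hom (by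
    show Spec.map (CommRingCat.ofHom ψ) ≫ Spec.map (CommRingCat.ofHom (algebraMap H C)) =
      Spec.map (CommRingCat.ofHom (algebraMap (A ⧸ I) (Qg I g))) ≫ Spec.map (CommRingCat.ofHom π.toRingHom)
    rw [← Spec.map_comp, ← Spec.map_comp, ← CommRingCat.ofHom_comp, ← CommRingCat.ofHom_comp, hψ]))
    (pullback.lift_snd _ _ _) trivial

theorem secMor_prV {g : A} (C : Type u) [CommRing C] [Algebra H C] [Algebra.Etale H C]
    (ψ : C →+* Qg I g) (hψ : ψ.comp (algebraMap H C) = (algebraMap (A ⧸ I) (Qg I g)).comp π.toRingHom) :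
    (secMor π C ψ hψ).left ≫ EtShriek.prV (ci π) (vobj (H := H) C) = Spec.map (CommRingCat.ofHom ψ) :=
  pullback.lift_fst _ _ _

set_option maxHeartbeats 1600000 in
/-- Compatible functions near the closed part come from an element. -/
theorem exists_glue [HenselianRing H (I.map (algebraMap A H))] (hπ : Function.Surjective π)
    (hker : RingHom.ker π = I.map (algebraMap A H))
    {ι : Type u} (g : ι → A) (hcov : Ideal.span (Set.range fun a => Ideal.Quotient.mk I (g a)) = ⊤)
    (C : ι → Type u) [∀ a, CommRing (C a)] [∀ a, Algebra H (C a)] [∀ a, Algebra.Etale H (C a)]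
    (ψ : ∀ a, C a →+* Qg I (g a))
    (hψ : ∀ a, (ψ a).comp (algebraMap H (C a)) = (algebraMap (A ⧸ I) (Qg I (g a))).comp π.toRingHom)
    (hsurj : ∀ a, Function.Surjective (ψ a)) (t : ∀ a, C a)
    (hcompat : ∀ a b, ∃ (D : Type u) (_ : CommRing D) (_ : Algebra H D) (_ : Algebra.Etale H D)
      (χa : C a →ₐ[H] D) (χb : C b →ₐ[H] D) (θ : D →+* Qg I (g a * g b))
      (ra : Qg I (g a) →+* Qg I (g a * g b)) (rb : Qg I (g b) →+* Qg I (g a * g b)),
      θ.comp (algebraMap H D) = (algebraMap (A ⧸ I) _).comp π.toRingHom ∧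
      ra.comp (algebraMap (A ⧸ I) _) = algebraMap (A ⧸ I) _ ∧
      rb.comp (algebraMap (A ⧸ I) _) = algebraMap (A ⧸ I) _ ∧
      θ.comp χa.toRingHom = ra.comp (ψ a) ∧ θ.comp χb.toRingHom = rb.comp (ψ b) ∧ χa (t a) = χb (t b)) :
    ∃ x : H, ∀ a, ∃ c : C a, c * (algebraMap H (C a) x - t a) = 0 ∧ ψ a c = 1 := by
  classical
  let i := ci π
  have : IsClosedImmersion i := IsClosedImmersion.spec_of_surjective _ hπ
  have hrange : Set.range i = PrimeSpectrum.zeroLocus ((I.map (algebraMap A H) : Ideal H) : Set H) := by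
    rw [← hker]
    exact range_comap_of_surjective (A ⧸ I) π.toRingHom hπ
  have hcouple : IsConnectedCouple (Spec (CommRingCat.of H)) (Set.range i) := by
    rw [hrange]
    exact isConnectedCouple_of_proper (I.map (algebraMap A H)) (𝟙 (Spec (CommRingCat.of H)))
  let F := EtCoh.Ga (Spec (CommRingCat.of H))
  let M := (EtCoh.pull i).obj F
  let B := (EtCoh.bc i).obj (EtCoh.top (Spec (CommRingCat.of H)))
  have hB : IsIso B.hom := inferInstanceAs (IsIso (pullback.snd (𝟙 _) i))
  let o : ∀ a, qobj (I := I) (g a) ⟶ B := fun a => secMor π (C a) (ψ a) (hψ a) ≫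
    (EtCoh.bc i).map ((EtCore.topIsTerminal _).from (vobj (H := H) (C a)))
  let d : ∀ a, EtCoh.sect M (qobj (I := I) (g a)) := fun a =>
    M.obj.map (secMor π (C a) (ψ a) (hψ a)).op (uAt i F _ (toSect (C a) (t a)))
  have hcov' : Sieve.ofArrows _ o ∈ (Spec (CommRingCat.of (A ⧸ I))).smallEtaleTopology B := by
    rw [Scheme.ofArrows_mem_smallEtaleTopology_iff, Set.eq_univ_iff_forall]
    intro p
    obtain ⟨a, ha⟩ : ∃ a, B.hom p ∈ PrimeSpectrum.basicOpen (Ideal.Quotient.mk I (g a)) := by
      by_contra! h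
      exact (B.hom p).2.ne_top (top_le_iff.1 (hcov ▸ Ideal.span_le.2
        (Set.range_subset_iff.2 fun a => not_not.1 (h a))))
    obtain ⟨w, hw⟩ : B.hom p ∈ Set.range (qobj (I := I) (g a)).hom := by rw [range_qobj_hom]; exact ha
    refine Set.mem_iUnion.2 ⟨a, w, B.hom.isOpenEmbedding.injective ?_⟩
    exact (congrArg (fun k : (qobj (I := I) (g a)).left ⟶ Spec (CommRingCat.of (A ⧸ I)) => k w)
      (Over.w (o a).hom)).trans hw
  have hsheaf : Presieve.IsSheaf (Spec (CommRingCat.of (A ⧸ I))).smallEtaleTopology (M.obj ⋙ forget _) :=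
    (CategoryTheory.isSheaf_iff_isSheaf_of_type _ _).1
      ((sheafCompose _ (forget AddCommGrpCat.{u + 1})).obj M).property
  have hfor : (Presieve.ofArrows _ o).IsSheafFor (M.obj ⋙ forget _) := by
    rw [Presieve.isSheafFor_iff_generate]; exact hsheaf _ hcov'
  obtain ⟨σ, hσ, -⟩ := (Presieve.isSheafFor_arrows_iff _ _).mp hfor d (fun a b W ga gb _ => by
    obtain ⟨D, _, _, _, χa, χb, θ, ra, rb, hθ, hra, hrb, ha, hb, ht⟩ := hcompat a b
    let q := qobj (I := I) (g a * g b)
    have hr : Set.range W.hom ⊆ Set.range q.hom := by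
      rintro _ ⟨w, rfl⟩
      rw [range_qobj_hom, map_mul, PrimeSpectrum.basicOpen_mul]
      refine ⟨?_, ?_⟩
      · rw [← range_qobj_hom]
        exact ⟨ga.left w, congrArg (fun k : W.left ⟶ Spec (CommRingCat.of (A ⧸ I)) => k w) (Over.w ga.hom)⟩
      · rw [← range_qobj_hom]
        exact ⟨gb.left w, congrArg (fun k : W.left ⟶ Spec (CommRingCat.of (A ⧸ I)) => k w) (Over.w gb.hom)⟩
    let f : W ⟶ q := MorphismProperty.Over.homMk (IsOpenImmersion.lift q.hom W.hom hr)
      (IsOpenImmersion.lift_fac _ _ _) trivial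
    have key : ∀ (c : ι) (gc : W ⟶ qobj (I := I) (g c)) (χc : C c →ₐ[H] D) (rc : Qg I (g c) →+* Qg I (g a * g b)),
        rc.comp (algebraMap (A ⧸ I) _) = algebraMap (A ⧸ I) _ → θ.comp χc.toRingHom = rc.comp (ψ c) →
        M.obj.map gc.op (d c) = M.obj.map (f ≫ secMor π D θ hθ).op (uAt i F _ (toSect D (χc (t c)))) := by
      intro c gc χc rc hrc hc
      have e1 : uAt i F _ (toSect D (χc (t c))) =
          M.obj.map ((EtCoh.bc i).map (vmap χc)).op (uAt i F _ (toSect (C c) (t c))) :=
        (congrArg (uAt i F _) (toSect_map χc (t c)).symm).trans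
          (ConcreteCategory.congr_hom (((EtCoh.pullPushAdj i).unit.app F).hom.naturality (vmap χc).op) _)
      have e2 : gc ≫ secMor π (C c) (ψ c) (hψ c) = (f ≫ secMor π D θ hθ) ≫ (EtCoh.bc i).map (vmap χc) := by
        have egc : gc.left = f.left ≫ Spec.map (CommRingCat.ofHom rc) := by
          rw [← cancel_mono (qobj (I := I) (g c)).hom, Category.assoc]
          refine (Over.w gc.hom).trans (Eq.trans (Over.w f.hom).symm (congrArg (f.left ≫ ·) ?_))
          show Spec.map _ = Spec.map _ ≫ Spec.map _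
          rw [← Spec.map_comp, ← CommRingCat.ofHom_comp, hrc]
        refine etaleHom_ext (pullback.hom_ext ?_ ((Over.w (gc ≫ secMor π (C c) (ψ c) (hψ c)).hom).trans
          (Over.w ((f ≫ secMor π D θ hθ) ≫ (EtCoh.bc i).map (vmap χc)).hom).symm))
        change (gc.left ≫ (secMor π (C c) (ψ c) (hψ c)).left) ≫ EtShriek.prV i (vobj (H := H) (C c)) =
          ((f.left ≫ (secMor π D θ hθ).left) ≫ ((EtCoh.bc i).map (vmap χc)).left) ≫
            EtShriek.prV i (vobj (H := H) (C c))
        simp only [Category.assoc]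
        rw [(EtCoh.isPullback_bc_map i (vmap χc)).w, secMor_prV, reassoc_of% (secMor_prV π D θ hθ), egc,
          Category.assoc]
        congr 1
        show _ = Spec.map _ ≫ Spec.map _
        rw [← Spec.map_comp, ← Spec.map_comp, ← CommRingCat.ofHom_comp, ← CommRingCat.ofHom_comp, hc]
      refine ((ConcreteCategory.congr_hom (M.obj.map_comp _ _) _).symm.trans ?_)
      rw [e1, ← ConcreteCategory.comp_apply, ← Functor.map_comp, ← op_comp, ← op_comp, e2]
    exact (key a ga χa ra hra ha).trans ((congrArg (fun z => M.obj.map (f ≫ secMor π D θ hθ).op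
      (uAt i F _ (toSect D z))) ht).trans (key b gb χb rb hrb hb).symm))
  obtain ⟨s, hs⟩ := (bijective_unit i F hcouple).2 σ
  refine ⟨(Scheme.ΓSpecIso (CommRingCat.of H)).hom.hom (ULift.down s), fun a => ?_⟩
  let r := (EtCore.topIsTerminal (Spec (CommRingCat.of H))).from (vobj (H := H) (C a))
  have e : F.obj.map r.op s = toSect (C a) (algebraMap H (C a)
      ((Scheme.ΓSpecIso (CommRingCat.of H)).hom.hom (ULift.down s))) := by
    refine ULift.ext _ _ ?_
    show r.left.appTop.hom (ULift.down s) = _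
    rw [show r.left = Spec.map (CommRingCat.ofHom (algebraMap H (C a))) from
      (Category.comp_id _).symm.trans (Over.w r.hom)]
    refine Eq.trans ?_ (ConcreteCategory.congr_hom (Scheme.ΓSpecIso_inv_naturality
      (CommRingCat.ofHom (algebraMap H (C a)))) _).symm
    exact congrArg _ (ConcreteCategory.congr_hom (Scheme.ΓSpecIso (CommRingCat.of H)).hom_inv_id _).symm
  let x' : C a := algebraMap H (C a) ((Scheme.ΓSpecIso (CommRingCat.of H)).hom.hom (ULift.down s)) - t a
  have hz : M.obj.map (secMor π (C a) (ψ a) (hψ a)).op (uAt i F _ (toSect (C a) x')) = 0 := by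
    rw [toSect_sub, ← e]
    refine (congrArg _ (map_sub _ _ _)).trans ((map_sub _ _ _).trans (sub_eq_zero.2 ?_))
    refine Eq.trans ?_ (hσ a)
    show _ = M.obj.map (o a).op σ
    rw [← hs]
    refine (congrArg _ (ConcreteCategory.congr_hom
      (((EtCoh.pullPushAdj i).unit.app F).hom.naturality r.op) s)).trans ?_
    exact (ConcreteCategory.congr_hom (M.obj.map_comp _ _) _).symm
  let K : Ideal (C a) := LinearMap.ker (LinearMap.mulRight (C a) x')
  let J : Ideal (Qg I (g a)) := K.map (ψ a)
  have hJ : J = ⊤ := by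
    by_contra hne
    obtain ⟨P, hP, hJP⟩ := Ideal.exists_le_maximal J hne
    let w : (qobj (I := I) (g a)).left := (⟨P, hP.isPrime⟩ : PrimeSpectrum (Qg I (g a)))
    have h := (mem_sectSupp_map M (secMor π (C a) (ψ a) (hψ a)) (uAt i F _ (toSect (C a) x')) w).not.1
      (by rw [hz]; exact notMem_sectSupp_zero _ _ _)
    rw [mem_sectSupp_unit] at h
    rw [show EtShriek.prV i (vobj (H := H) (C a)) ((secMor π (C a) (ψ a) (hψ a)).left w) =
      Spec.map (CommRingCat.ofHom (ψ a)) w from
        congrArg (fun k : (qobj (I := I) (g a)).left ⟶ Spec (CommRingCat.of (C a)) => k w)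
          (secMor_prV π (C a) (ψ a) (hψ a))] at h
    obtain ⟨c, hc, hcp⟩ := exists_annihilator_of_notMem_supp (C a) x' _ h
    exact hcp (hJP (Ideal.mem_map_of_mem (ψ a) (show c ∈ K from hc)))
  obtain ⟨c, hc, hc1⟩ := (Ideal.mem_map_iff_of_surjective _ (hsurj a)).1
    (show (1 : Qg I (g a)) ∈ J from hJ ▸ Submodule.mem_top)
  exact ⟨c, hc, hc1⟩

end

end Groth.Agent.SphSheaf
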