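import Groth.Agent.SphLib.Universal

/-!
# Henselian schemes have Henselian rings of sections
-/

set_option autoImplicit false
set_option linter.all false
set_option backward.isDefEq.respectTransparency.types false
set_option backward.isDefEq.respectTransparency false

universe u

open CategoryTheory Opposite TopologicalSpace AlgebraicGeometry

namespace Groth.Agent.SphLib

variable {Z U : LocallyRingedSpace.{u}}

/-- The image of an open under an open immersion. -/
noncomputable abbrev img (i : U ⟶ Z) [LocallyRingedSpace.IsOpenImmersion i] (D : Opens U) : Opens Z :=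
  (PresheafedSpace.IsOpenImmersion.base_open (f := i.toHom)).functor.obj D

theorem preimage_img (i : U ⟶ Z) [LocallyRingedSpace.IsOpenImmersion i] (D : Opens U) :
    (Opens.map i.base).obj (img i D) = D :=
  Opens.ext ((Set.preimage_image_eq _ (PresheafedSpace.IsOpenImmersion.base_open (f := i.toHom)).injective))

/-- Restriction along an open immersion is bijective. -/
theorem bijective_pullRes (i : U ⟶ Z) [LocallyRingedSpace.IsOpenImmersion i] {P : Opens Z} {D : Opens U}
    (hP : P = img i D) (h : D ≤ (Opens.map i.base).obj P) : Function.Bijective (pullRes i P D h) := by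
  subst hP
  haveI : IsIso (homOfLE h) := ⟨homOfLE (preimage_img i D).le, Subsingleton.elim _ _, Subsingleton.elim _ _⟩
  haveI : IsIso (i.c.app (op (img i D))) := PresheafedSpace.IsOpenImmersion.c_iso (f := i.toHom) D
  exact ((ConcreteCategory.isIso_iff_bijective (U.presheaf.map (homOfLE h).op)).1 inferInstance).comp
    ((ConcreteCategory.isIso_iff_bijective (i.c.app (op (img i D)))).1 inferInstance)

theorem henselianRing_img (i : U ⟶ Z) [LocallyRingedSpace.IsOpenImmersion i] (D : Opens U)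
    [HenselianRing (U.presheaf.obj (op D)) (vanI U D)] :
    HenselianRing (Z.presheaf.obj (op (img i D))) (vanI Z (img i D)) := by
  let e := RingEquiv.ofBijective _ (bijective_pullRes i rfl (preimage_img i D).ge)
  refine henselianRing_congr e.symm (J := vanI U D) fun s => ?_
  obtain ⟨t, rfl⟩ := e.surjective s
  rw [e.symm_apply_apply, mem_vanI, mem_vanI]
  have key : U.toRingedSpace.basicOpen (e t) = D ⊓ (Opens.map i.base).obj (Z.toRingedSpace.basicOpen t) :=
    basicOpen_pullRes i _ D _ t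
  refine ⟨fun h => key.trans (by rw [h]; exact inf_bot_eq D), fun h => ?_⟩
  rw [eq_bot_iff]
  intro z hz
  obtain ⟨x, hx, rfl⟩ := Z.toRingedSpace.basicOpen_le t hz
  have : x ∈ U.toRingedSpace.basicOpen (e t) := key.symm.le ⟨hx, hz⟩
  rw [h] at this
  exact this.elim

section Sph

variable {A : Type u} [CommRing A] (π : U ⟶ HensSch.specLRS A)

theorem secMap_eq (f : A) : HensSch.secMap π (PrimeSpectrum.basicOpen f) =
    (pullRes π ⊤ (HensSch.dOpen π f) (fun x hx => trivial)).comp (Scheme.ΓSpecIso (CommRingCat.of A)).inv.hom :=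
  rfl

theorem basicOpen_secMap (f a : A) :
    U.toRingedSpace.basicOpen (HensSch.secMap π (PrimeSpectrum.basicOpen f) a) =
      HensSch.dOpen π f ⊓ HensSch.dOpen π a := by
  rw [secMap_eq]
  refine (basicOpen_pullRes π ⊤ _ _ _).trans ?_
  exact congrArg (fun O => HensSch.dOpen π f ⊓ (Opens.map π.base).obj O) (basicOpen_eq_of_affine (R := CommRingCat.of A) a)

theorem exists_dOpen_le (he : Topology.IsEmbedding π.base) (O : Opens U) (x : U) (hx : x ∈ O) :
    ∃ f : A, x ∈ HensSch.dOpen π f ∧ HensSch.dOpen π f ≤ O := by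
  obtain ⟨O', hO', hOe⟩ := he.isInducing.isOpen_iff.1 O.2
  have hx' : π.base x ∈ O' := by
    have : x ∈ π.base ⁻¹' O' := hOe ▸ hx
    exact this
  obtain ⟨_, ⟨f, rfl⟩, hxf, hf⟩ := PrimeSpectrum.isTopologicalBasis_basic_opens.exists_subset_of_mem_open hx' hO'
  refine ⟨f, hxf, fun y hy => ?_⟩
  have : y ∈ π.base ⁻¹' O' := hf hy
  rwa [hOe] at this

theorem henselianRing_dOpen {I : Ideal A} (h : HensSch.IsSph A I U π) (f : A) :
    HenselianRing (U.presheaf.obj (op (HensSch.dOpen π f))) (vanI U (HensSch.dOpen π f)) := by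
  refine henselianRing_vanI (h.2.2 f) (fun a ha => ?_) fun a ha => ?_
  · rw [basicOpen_secMap, eq_bot_iff]
    rintro x ⟨-, hx⟩
    have : π.base x ∈ PrimeSpectrum.zeroLocus (I : Set A) := h.2.1 ▸ ⟨x, rfl⟩
    exact (hx (this ha)).elim
  · rw [Ideal.radical_eq_sInf, Ideal.mem_sInf]
    rintro P ⟨hIP, hP⟩
    obtain ⟨x, hx⟩ : (⟨P, hP⟩ : PrimeSpectrum A) ∈ Set.range π.base := h.2.1.symm ▸ hIP
    by_contra hc
    have : x ∈ HensSch.dOpen π f ⊓ HensSch.dOpen π a := by
      have hx' : x ∈ HensSch.dOpen π (f * a) := by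
        show π.base x ∈ PrimeSpectrum.basicOpen (f * a)
        rw [hx]
        exact hc
      rw [HensSch.dOpen, PrimeSpectrum.basicOpen_mul] at hx'
      exact hx'
    rw [← basicOpen_secMap, ha] at this
    exact this.elim

end Sph

/-- Henselian schemes. -/
theorem hensOpens_of_isHensScheme (hZ : HensSch.IsHensScheme Z) : HensOpens Z := by
  refine hensOpens_of_basis Z fun O z hz => ?_
  obtain ⟨U, i, hi, ⟨u, rfl⟩, A, _, I, π, -, -, hπ⟩ := hZ z
  obtain ⟨f, huf, hf⟩ := exists_dOpen_le π hπ.1 ((Opens.map i.base).obj O) u hz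
  haveI := henselianRing_dOpen π hπ f
  exact ⟨img i (HensSch.dOpen π f), ⟨u, huf, rfl⟩, fun y ⟨x, hx, hy⟩ => hy ▸ hf hx, henselianRing_img i _⟩

section Along

variable {X : Scheme.{u}} {Y : Set X} {Xh : LocallyRingedSpace.{u}} {ι : Xh ⟶ X.toLocallyRingedSpace}

/-- Henselizations have charts. -/
theorem hasCharts (hh : HensSch.IsHenselizationAlong X Y Xh ι) : HasCharts ι Y := by
  obtain ⟨-, he, hr, hch⟩ := hh
  refine ⟨he, hr, fun x hx => ?_⟩
  obtain ⟨A, _, j, _, hxj, V, v, _, π, hvr, hv, -, -, hsph⟩ := hch x hx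
  obtain ⟨p, rfl⟩ := hxj
  refine ⟨j ''ᵁ ⊤, ⟨p, trivial, rfl⟩, (isAffineOpen_top _).image_of_isOpenImmersion j, fun f => ?_⟩
  let eA : A ≃+* Γ(X, j ''ᵁ ⊤) :=
    ((Scheme.ΓSpecIso (CommRingCat.of A)).symm ≪≫ (j.appIso ⊤).symm).commRingCatIsoToRingEquiv
  obtain ⟨a₀, rfl⟩ := eA.surjective f
  have hbo : ∀ a, X.basicOpen (eA a) = j ''ᵁ PrimeSpectrum.basicOpen a := fun a =>
    (Scheme.image_basicOpen j _).symm.trans (congrArg (j ''ᵁ ·) (basicOpen_eq_of_affine (R := CommRingCat.of A) a))
  let B := bOpen ι (eA a₀)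
  let D := HensSch.dOpen π a₀
  have hbase : ∀ y, ι.base (v.base y) = j.base (π.base y) := fun y =>
    congrArg (fun m : V ⟶ X.toLocallyRingedSpace => m.base y) hv
  have hD : D ≤ (Opens.map v.base).obj B := fun y hy => by
    show ι.base (v.base y) ∈ X.basicOpen (eA a₀)
    rw [hbase, hbo]
    exact ⟨π.base y, hy, rfl⟩
  have hB : B = img v D := by
    refine le_antisymm (fun y hy => ?_) fun y ⟨w, hw, hy⟩ => hy ▸ hD hw
    have hy' : ι.base y ∈ j ''ᵁ PrimeSpectrum.basicOpen a₀ := hbo a₀ ▸ hy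
    obtain ⟨q, hq, hqy⟩ := hy'
    obtain ⟨w, hw⟩ : y ∈ Set.range v.base := hvr ▸ ⟨q, hqy⟩
    refine ⟨w, ?_, hw⟩
    show π.base w ∈ PrimeSpectrum.basicOpen a₀
    have : j.base (π.base w) = j.base q := by
      rw [← hbase, hw]; exact hqy.symm
    rw [j.isOpenEmbedding.injective this]
    exact hq
  let E := RingEquiv.ofBijective _ (bijective_pullRes v hB hD)
  refine isHensAway_congr (hsph a₀) eA E.symm (chartI Y _) (fun a => ?_) _ fun a => ?_
  · rw [mem_chartI, PrimeSpectrum.mem_vanishingIdeal, hbo]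
    constructor
    · intro h q hq
      by_contra hc
      exact h _ hq ⟨q, hc, rfl⟩
    · rintro h y hy ⟨q, hq, rfl⟩
      exact hq (h q hy)
  · refine E.injective (Eq.trans ?_ (E.apply_symm_apply _).symm)
    show pullRes v B D hD (pullRes ι _ B _ (eA a)) = _
    rw [← pullRes_comp v ι hD (bOpen_le ι (eA a₀)) (fun y hy => X.basicOpen_le _ (hD hy)),
      pullRes_congr hv, pullRes_comp π j.toLRSHom (P := j ''ᵁ ⊤) (Q := (⊤ : (Spec (CommRingCat.of A)).Opens))
        (fun y _ => trivial) (fun q _ => ⟨q, trivial, rfl⟩)]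
    show _ = pullRes π ⊤ D _ ((Scheme.ΓSpecIso (CommRingCat.of A)).inv a)
    refine congrArg (pullRes π ⊤ D _) ?_
    let y := (Scheme.ΓSpecIso (CommRingCat.of A)).inv a
    show (Spec (CommRingCat.of A)).presheaf.map (homOfLE _).op (j.app (j ''ᵁ ⊤) ((j.appIso ⊤).inv y)) = y
    rw [show j.app (j ''ᵁ ⊤) ((j.appIso ⊤).inv y) = ((j.appIso ⊤).inv ≫ j.app (j ''ᵁ ⊤)) y from rfl,
      Scheme.Hom.appIso_inv_app]
    refine (ConcreteCategory.congr_hom ((Spec (CommRingCat.of A)).presheaf.map_comp _ _).symm y).trans ?_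
    exact (congrArg (fun m => (Spec (CommRingCat.of A)).presheaf.map m y) (Subsingleton.elim _ (𝟙 _))).trans
      (ConcreteCategory.congr_hom ((Spec (CommRingCat.of A)).presheaf.map_id _) y)

end Along

end Groth.Agent.SphLib
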