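import Groth.Agent.SphLib.TildeSec

/-!
# Global sections of `M~` on the spectrum of a henselian pair
-/

set_option autoImplicit false
set_option linter.all false
set_option backward.isDefEq.respectTransparency false
set_option backward.isDefEq.respectTransparency.types false
set_option backward.defeqAttrib.useBackward true

universe u

open CategoryTheory CategoryTheory.Limits AlgebraicGeometry Opposite TopologicalSpace
open scoped TensorProduct

namespace Groth.Agent.SphLib.SphT

variable {A : Type u} [CommRing A] {I : Ideal A} {X : LocallyRingedSpace.{u}} {π : X ⟶ HensSch.specLRS A}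

theorem bijective_algebraMap_top [HenselianRing A I] (hX : HensSch.IsSph A I X π) :
    Function.Bijective (algebraMap A (Sec π (PrimeSpectrum.basicOpen (1 : A)))) := by
  let φ := algebraMap A (Sec π (PrimeSpectrum.basicOpen (1 : A)))
  obtain ⟨hu, hH, huniv⟩ : HensSch.IsHensAway A I 1 (Sec π (PrimeSpectrum.basicOpen (1 : A))) φ := hX.2.2 1
  obtain ⟨k, hk, -⟩ := huniv A I (RingHom.id A) inferInstance (Ideal.map_id I).le isUnit_one
  have h : φ.comp k = RingHom.id _ := (huniv _ (I.map φ) φ hH le_rfl hu).unique
    (by rw [RingHom.comp_assoc, hk, RingHom.comp_id]) (RingHom.id_comp _)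
  exact Function.bijective_iff_has_inverse.2 ⟨k, fun a => RingHom.congr_fun hk a, fun b => RingHom.congr_fun h b⟩

theorem bijective_eta [HenselianRing A I] (hX : HensSch.IsSph A I X π) (M : ModuleCat.{u} A) :
    Function.Bijective (eta π M) := by
  have key : ∀ U : Opens (PrimeSpectrum A), U = ⊤ → Function.Bijective (thetaM π M U) →
      Function.Bijective (eta π M) := by
    rintro U rfl h
    have e : (thetaM π M ⊤ : M → NSec π M ⊤) = eta π M := funext fun m => by
      show ((N π M).val.map ((Opens.map π.base).map (homOfLE le_top)).op).hom (eta π M m) = eta π M m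
      rw [show ((Opens.map π.base).map (homOfLE (le_top : (⊤ : Opens (PrimeSpectrum A)) ≤ ⊤))).op = 𝟙 _ from rfl,
        (N π M).val.map_id]
      rfl
    rwa [e] at h
  refine key _ PrimeSpectrum.basicOpen_one ?_
  let a : M →ₗ[A] Sec π (PrimeSpectrum.basicOpen (1 : A)) ⊗[A] M := (TensorProduct.mk A _ M) 1
  have ha : Function.Bijective a := by
    have h := (LinearEquiv.rTensor (M : Type u) (LinearEquiv.ofBijective (Algebra.linearMap A
      (Sec π (PrimeSpectrum.basicOpen (1 : A)))) (bijective_algebraMap_top hX))).bijective.comp
      (TensorProduct.lid A (M : Type u)).symm.bijective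
    convert h using 1
    funext m
    simp [a]
  convert (bijective_theta hX M 1).comp ha using 1
  funext m
  exact ((theta_tmul π M _ 1 m).trans (one_smul _ _)).symm

end Groth.Agent.SphLib.SphT
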