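import Groth.Agent.SphLib.FormalCompareUnit
import Groth.Agent.Coherent.Existence.NoSep

/-!
# Sections and homomorphisms on a Henselization over a complete base
-/

set_option autoImplicit false
set_option linter.all false
set_option backward.isDefEq.respectTransparency false
set_option backward.isDefEq.respectTransparency.types false
set_option backward.defeqAttrib.useBackward true

universe u

open CategoryTheory CategoryTheory.Limits AlgebraicGeometry Opposite TopologicalSpace

namespace Groth.Agent.SphLib.FormalCompare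

open ModSky Groth.Agent.Coherent Groth.Agent.Coherent.Existence Groth.Agent.AmpleLib

variable {A : Type u} [CommRing A] [IsNoetherianRing A] (I : Ideal A) [IsAdicComplete I A]
  {X : Scheme.{u}} [X.Over (Spec (CommRingCat.of A))] [IsProper (X ↘ Spec (CommRingCat.of A))]
  {Xh : LocallyRingedSpace.{u}} {ι : Xh ⟶ X.toLocallyRingedSpace} (hc : HasCharts ι (cutY I))

/-- The direct image of the inverse image of a morphism. -/
noncomputable abbrev pp (ι : Xh ⟶ X.toLocallyRingedSpace) {M N : ModSite.Mod X.toLocallyRingedSpace.sheaf}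
    (f : M ⟶ N) :
    (HensSch.pushMod ι).obj ((HensSch.pullMod ι).obj M) ⟶ (HensSch.pushMod ι).obj ((HensSch.pullMod ι).obj N) :=
  (HensSch.pushMod ι).map ((HensSch.pullMod ι).map f)

theorem unit_nat (ι : Xh ⟶ X.toLocallyRingedSpace) {M N : X.Modules} (f : M ⟶ N) (U : X.Opens) (m : Γ(M, U)) :
    ((HensSch.pullPushAdj ι).unit.app N).val.app (op U) (f.app U m) =
      ((HensSch.pullMod ι).map f).val.app (op ((Opens.map ι.base).obj U))
        (((HensSch.pullPushAdj ι).unit.app M).val.app (op U) m) :=
  congrArg (fun g : (M : ModSite.Mod X.toLocallyRingedSpace.sheaf) ⟶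
      (HensSch.pushMod ι).obj ((HensSch.pullMod ι).obj N) => g.val.app (op U) m)
    ((HensSch.pullPushAdj ι).unit.naturality f)

theorem pull_comp_app (ι : Xh ⟶ X.toLocallyRingedSpace) {M N P : X.Modules} (f : M ⟶ N) (g : N ⟶ P) (h : M ⟶ P)
    (e : f ≫ g = h) (V : Opens Xh.toTopCat) (x : ((HensSch.pullMod ι).obj M).val.obj (op V)) :
    ((HensSch.pullMod ι).map g).val.app (op V) (((HensSch.pullMod ι).map f).val.app (op V) x) =
      ((HensSch.pullMod ι).map h).val.app (op V) x := by
  subst e
  exact (congrArg (fun k : (HensSch.pullMod ι).obj M ⟶ (HensSch.pullMod ι).obj P => k.val.app (op V) x)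
    ((HensSch.pullMod ι).map_comp f g)).symm

include hc

/-- Global sections of a coherent module are those of its inverse image. -/
theorem bijective_unit_app_top (F : X.Modules) (hF : Coh.IsCoh F) :
    Function.Bijective (((HensSch.pullPushAdj ι).unit.app F).val.app (op ⊤)) := by
  haveI : IsLocallyNoetherian X := LocallyOfFiniteType.isLocallyNoetherian (X ↘ Spec (CommRingCat.of A))
  let η := fun M : X.Modules => ((HensSch.pullPushAdj ι).unit.app M).val.app (op (⊤ : X.Opens))
  have hb : ∀ n, Function.Bijective (η (Formal.modPow I (n + 1) F)) := fun n =>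
    bijective_unit I hc _ (n + 1) (killedBy_modPow I (n + 1) F) ⊤
  have hff := toHHlim_bijective I hF 0
  refine ⟨?_, fun e => ?_⟩
  · refine (injective_iff_map_eq_zero _).2 fun t ht => ?_
    have h0 : ∀ n, (Formal.modPowπ I (n + 1) F).app ⊤ t = 0 := fun n => by
      refine (hb n).1 ?_
      refine (unit_nat ι (Formal.modPowπ I (n + 1) F) ⊤ t).trans ?_
      exact (congrArg _ ht).trans ((map_zero _).trans (map_zero _).symm)
    have h1 : Formal.toHHlim I F 0 ((hSec F).symm t) = 0 := by
      refine Subtype.ext (funext fun n => (hSec _).injective ?_)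
      refine (hSec_map (Formal.modPowπ I (n + 1) F) _).trans ?_
      rw [AddEquiv.apply_symm_apply, h0]
      exact (map_zero (hSec (Formal.modPow I (n + 1) F))).symm
    have h2 := hff.1 (h1.trans (map_zero _).symm)
    exact (hSec F).symm.injective (h2.trans (map_zero _).symm)
  · let e' : ((HensSch.pullMod ι).obj F).val.obj (op ((Opens.map ι.base).obj ⊤)) := e
    let en := fun n => ((HensSch.pullMod ι).map (Formal.modPowπ I (n + 1) F)).val.app (op ((Opens.map ι.base).obj ⊤)) e'
    choose t ht using fun n => (hb n).2 (en n)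
    have hcompat : ∀ n, (Formal.modPowTrans I (n + 1) F).app ⊤ (t (n + 1)) = t n := fun n => by
      refine (hb n).1 ?_
      refine (unit_nat ι (Formal.modPowTrans I (n + 1) F) ⊤ _).trans ?_
      refine (congrArg _ (ht (n + 1))).trans ?_
      refine Eq.trans ?_ (ht n).symm
      exact pull_comp_app ι _ _ _ (Formal.modPowπ_trans I (n + 1) F) _ e'
    let ξ : Formal.HHlim I F 0 := ⟨fun n => (hSec _).symm (t n), fun n => (hSec _).injective (by
      refine (hSec_map (Formal.modPowTrans I (n + 1) F) _).trans ?_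
      rw [AddEquiv.apply_symm_apply, AddEquiv.apply_symm_apply]
      exact hcompat n)⟩
    obtain ⟨x, hx⟩ := hff.2 ξ
    refine ⟨hSec F x, ?_⟩
    have h1 : ∀ n, (Formal.modPowπ I (n + 1) F).app ⊤ (hSec F x) = t n := fun n => by
      refine (hSec_map (Formal.modPowπ I (n + 1) F) x).symm.trans ?_
      exact (congrArg (fun ζ : Formal.HHlim I F 0 => hSec _ (ζ.1 n)) hx).trans (AddEquiv.apply_symm_apply _ _)
    rw [← sub_eq_zero]
    refine eq_zero_of_forall_map_eq_zero I hc hF ((Opens.map ι.base).obj ⊤) _ fun n => ?_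
    refine (map_sub _ _ _).trans ?_
    rw [sub_eq_zero]
    refine (unit_nat ι (Formal.modPowπ I (n + 1) F) ⊤ _).symm.trans ?_
    exact (congrArg (η (Formal.modPow I (n + 1) F)) (h1 n)).trans (ht n)

/-- Morphisms between coherent modules are those between their inverse images. -/
theorem bijective_map (F G : X.Modules) (hF : Coh.IsCoh F) (hG : Coh.IsCoh G) :
    Function.Bijective ((HensSch.pullMod ι).map :
      (F ⟶ G) → ((HensSch.pullMod ι).obj F ⟶ (HensSch.pullMod ι).obj G)) := by
  haveI : IsLocallyNoetherian X := LocallyOfFiniteType.isLocallyNoetherian (X ↘ Spec (CommRingCat.of A))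
  haveI : CompactSpace X := QuasiCompact.compactSpace_of_compactSpace (X ↘ Spec (CommRingCat.of A))
  have hbij := toHHlim_bijective I (isCoh_internalHom hF hG) 0
  let F' : ModSite.Mod X.toLocallyRingedSpace.sheaf := F
  let G' : ModSite.Mod X.toLocallyRingedSpace.sheaf := G
  let η := (HensSch.pullPushAdj ι).unit
  have hiso : ∀ n, IsIso (η.app (Formal.modPow I (n + 1) G : ModSite.Mod X.toLocallyRingedSpace.sheaf)) :=
    fun n => isIso_of_bijective_basis _ (fun _ => True) (fun O x hx => ⟨O, trivial, hx, le_rfl⟩)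
      fun U _ => bijective_unit I hc _ (n + 1) (killedBy_modPow I (n + 1) G) U
  let adj := (HensSch.pullPushAdj ι).homEquiv F' ((HensSch.pullMod ι).obj G')
  -- the reductions of a morphism upstairs
  let red : ((HensSch.pullMod ι).obj F' ⟶ (HensSch.pullMod ι).obj G') →
      ∀ n, F ⟶ Formal.modPow I (n + 1) G := fun ψ n =>
    haveI := hiso n
    adj ψ ≫ pp ι (Formal.modPowπ I (n + 1) G : G' ⟶ _) ≫
      inv (η.app (Formal.modPow I (n + 1) G : ModSite.Mod X.toLocallyRingedSpace.sheaf))
  have hredη : ∀ ψ n, (red ψ n : F' ⟶ _) ≫ η.app _ = adj ψ ≫ pp ι (Formal.modPowπ I (n + 1) G : G' ⟶ _) :=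
    fun ψ n => by
      haveI := hiso n
      refine (Category.assoc _ _ _).trans (congrArg (adj ψ ≫ ·) ?_)
      exact (Category.assoc _ _ _).trans ((congrArg (_ ≫ ·) (IsIso.inv_hom_id _)).trans (Category.comp_id _))
  have hred_map : ∀ (φ : F ⟶ G) n, red ((HensSch.pullMod ι).map φ) n = φ ≫ Formal.modPowπ I (n + 1) G := by
    intro φ n
    haveI := hiso n
    refine (cancel_mono (η.app (Formal.modPow I (n + 1) G : ModSite.Mod X.toLocallyRingedSpace.sheaf))).1 ?_
    refine (hredη _ n).trans ?_
    have h1 : adj ((HensSch.pullMod ι).map φ) = (φ : F' ⟶ G') ≫ η.app G' :=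
      (Adjunction.homEquiv_unit _ _ _ _).trans (η.naturality (φ : F' ⟶ G')).symm
    rw [h1]
    refine (Category.assoc _ _ _).trans ?_
    refine (congrArg ((φ : F' ⟶ G') ≫ ·) (η.naturality (Formal.modPowπ I (n + 1) G : G' ⟶ _)).symm).trans ?_
    exact (Category.assoc _ _ _).symm
  let τ : ∀ ψ, Formal.completion I F ⟶ Formal.completion I G := fun ψ =>
    NatTrans.ofOpSequence (fun n => modPowDesc I (red ψ n) (killedBy_modPow I (n + 1) G)) (fun n => by
      erw [completion_map_succ, completion_map_succ]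
      refine (cancel_epi (Formal.modPowπ I (n + 2) F)).1 ?_
      rw [← Category.assoc, ← Category.assoc, Formal.modPowπ_trans, π_modPowDesc, π_modPowDesc]
      haveI := hiso n
      refine (cancel_mono (η.app (Formal.modPow I (n + 1) G : ModSite.Mod X.toLocallyRingedSpace.sheaf))).1 ?_
      refine (hredη ψ n).trans ?_
      refine Eq.trans ?_ (Category.assoc _ _ _).symm
      refine Eq.trans ?_ (congrArg ((red ψ (n + 1) : F' ⟶ _) ≫ ·)
        (η.naturality (Formal.modPowTrans I (n + 1) G : (Formal.modPow I (n + 1 + 1) G : ModSite.Mod X.toLocallyRingedSpace.sheaf) ⟶ _)).symm)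
      refine Eq.trans ?_ (Category.assoc _ _ _)
      refine Eq.trans ?_ (congrArg (· ≫ _) (hredη ψ (n + 1))).symm
      refine Eq.trans ?_ (Category.assoc _ _ _).symm
      refine congrArg (adj ψ ≫ ·) ?_
      refine Eq.trans ?_ ((Functor.map_comp _ _ _).trans rfl)
      refine congrArg (HensSch.pushMod ι).map ?_
      exact (congrArg (HensSch.pullMod ι).map (Formal.modPowπ_trans I (n + 1) G)).symm.trans
        ((HensSch.pullMod ι).map_comp _ _))
  have hτ : ∀ ψ n, Formal.modPowπ I (n + 1) F ≫ (τ ψ).app (op n) = red ψ n := fun ψ n =>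
    π_modPowDesc I (red ψ n) (killedBy_modPow I (n + 1) G)
  have hu := fun ψ => Groth.Agent.Coherent.NoSep.existsUnique_hom_of_bijective I hF hG hbij (τ ψ)
  refine ⟨fun φ φ' h => ?_, fun ψ => ?_⟩
  · refine (hu ((HensSch.pullMod ι).map φ)).unique (fun n => ?_) (fun n => ?_)
    · rw [hτ, hred_map]
    · rw [hτ, h, hred_map]
  · obtain ⟨φ, hφ, -⟩ := hu ψ
    refine ⟨φ, adj.injective ?_⟩
    refine SheafOfModules.Hom.ext (PresheafOfModules.hom_ext fun U => ?_)
    refine ModuleCat.hom_ext (LinearMap.ext fun m => ?_)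
    obtain ⟨U⟩ := U
    let a : ((HensSch.pullMod ι).obj G').val.obj (op ((Opens.map ι.base).obj U)) :=
      (adj ((HensSch.pullMod ι).map φ)).val.app (op U) m
    let b : ((HensSch.pullMod ι).obj G').val.obj (op ((Opens.map ι.base).obj U)) :=
      (adj ψ).val.app (op U) m
    show a = b
    rw [← sub_eq_zero]
    refine eq_zero_of_forall_map_eq_zero I hc hG _ _ fun n => ?_
    refine (map_sub _ _ _).trans ?_
    rw [sub_eq_zero]
    have h2 : adj ((HensSch.pullMod ι).map φ) ≫ pp ι (Formal.modPowπ I (n + 1) G : G' ⟶ _) =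
        adj ψ ≫ pp ι (Formal.modPowπ I (n + 1) G : G' ⟶ _) := by
      rw [← hredη, ← hredη]
      refine congrArg (fun r : F ⟶ Formal.modPow I (n + 1) G => (r : F' ⟶ _) ≫ η.app _) ?_
      rw [hred_map, ← hφ n, hτ]
    exact congrArg (fun g : F' ⟶ _ => g.val.app (op U) m) h2

end Groth.Agent.SphLib.FormalCompare
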