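import Groth.Agent.SphLib.Basic
import Groth.Agent.HenselLib.Perm
import Mathlib.Algebra.TrivSqZeroExt.Basic
import Mathlib.RingTheory.TensorProduct.Basic
import Mathlib.LinearAlgebra.TensorProduct.Tower

/-!
# Henselization of a trivial square-zero extension

If `S` is the henselization of `(A_f, I A_f)` then `S ⋉ (S ⊗ M)` is the henselization of the
corresponding localization of `A ⋉ M`.  This reduces statements on modules to statements on rings.
-/

set_option autoImplicit false
set_option linter.unusedSectionVars false

universe u

open TrivSqZeroExt TensorProduct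

namespace Groth.Agent.SphLib

variable {A : Type u} [CommRing A] (M : Type u) [AddCommGroup M] [Module A M] [Module Aᵐᵒᵖ M]
  [IsCentralScalar A M] (S : Type u) [CommRing S] [Algebra A S]

instance isCentralScalar_tensor : IsCentralScalar S (S ⊗[A] M) :=
  ⟨fun s x => by
    induction x using TensorProduct.induction_on with
    | zero => simp
    | tmul a m => rw [smul_tmul', smul_tmul', op_smul_eq_smul]
    | add x y hx hy => rw [smul_add, smul_add, hx, hy]⟩

/-- The map of trivial extensions. -/
noncomputable def trivMap : TrivSqZeroExt A M →+* TrivSqZeroExt S (S ⊗[A] M) where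
  toFun x := inl (algebraMap A S x.fst) + inr ((1 : S) ⊗ₜ[A] x.snd)
  map_one' := by ext <;> simp
  map_mul' x y := by
    ext
    · simp
    · simp [op_smul_eq_smul, tmul_add, ← TensorProduct.tmul_smul, algebraMap_smul]
  map_zero' := by ext <;> simp
  map_add' x y := by ext <;> simp [tmul_add]

@[simp] theorem trivMap_inl (a : A) : trivMap M S (inl a) = inl (algebraMap A S a) := by
  ext <;> simp [trivMap]

@[simp] theorem trivMap_inr (m : M) : trivMap M S (inr m) = inr ((1 : S) ⊗ₜ[A] m) := by
  ext <;> simp [trivMap]

theorem isHensAway_trivMap {I : Ideal A} {f : A}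
    (h : HensSch.IsHensAway A I f S (algebraMap A S)) :
    HensSch.IsHensAway (TrivSqZeroExt A M) (I.map (inlHom A M)) (inl f)
      (TrivSqZeroExt S (S ⊗[A] M)) (trivMap M S) := by
  obtain ⟨hu, hH, huniv⟩ := h
  refine ⟨by rw [trivMap_inl]; exact hu.map (inlHom S (S ⊗[A] M)), ?_, fun C _ J g hJ hgI hgu => ?_⟩
  · let T := TrivSqZeroExt S (S ⊗[A] M)
    let J₀ : Ideal T := (I.map (algebraMap A S)).map (inlHom S (S ⊗[A] M))
    rw [Ideal.map_map, show (trivMap M S).comp (inlHom A M) = (inlHom S (S ⊗[A] M)).comp (algebraMap A S)
      from RingHom.ext fun a => trivMap_inl M S a, ← Ideal.map_map]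
    let φ : T →+* S := (fstHom S S (S ⊗[A] M)).toRingHom
    have hφ : Function.Surjective φ := fun s => ⟨(inl s : TrivSqZeroExt S (S ⊗[A] M)), rfl⟩
    let K : Ideal T := RingHom.ker φ
    have : HenselianRing T K := HenselLib.henselianRing_of_nilpotent K fun x hx => ⟨2, by
      obtain ⟨n, rfl⟩ : ∃ n, x = inr n := ⟨x.snd, TrivSqZeroExt.ext (show x.fst = 0 from hx) rfl⟩
      rw [pow_two, inr_mul_inr]⟩
    have hmap : J₀.map φ = I.map (algebraMap A S) := by
      rw [Ideal.map_map, show φ.comp (inlHom S (S ⊗[A] M)) = RingHom.id S from rfl, Ideal.map_id]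
    have hq : HenselianRing (T ⧸ K) ((J₀ ⊔ K).map (Ideal.Quotient.mk K)) := by
      refine henselianRing_congr (RingHom.quotientKerEquivOfSurjective hφ).symm (J := I.map (algebraMap A S))
        (fun s => ?_)
      obtain ⟨t, rfl⟩ := hφ s
      rw [show (RingHom.quotientKerEquivOfSurjective hφ).symm (φ t) = Ideal.Quotient.mk K t from
        (RingEquiv.symm_apply_eq _).2 rfl, ← hmap, ← Ideal.mem_comap, ← Ideal.mem_comap,
        Ideal.comap_map_of_surjective _ Ideal.Quotient.mk_surjective, Ideal.comap_map_of_surjective _ hφ,
        ← RingHom.ker_eq_comap_bot, ← RingHom.ker_eq_comap_bot, Ideal.mk_ker, sup_assoc, sup_idem]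
    have : HenselianRing T (J₀ ⊔ K) := HenselLib.henselianRing_trans (I := K) le_sup_right (hQ := hq)
    exact HenselLib.henselianRing_of_le (J := J₀ ⊔ K) le_sup_left
  · obtain ⟨k, hk, hkuniq⟩ := huniv C J (g.comp (inlHom A M)) hJ
      (by rw [← Ideal.map_map]; exact hgI) hgu
    let : Algebra S C := k.toAlgebra
    let : Algebra A C := (g.comp (inlHom A M)).toAlgebra
    have : IsScalarTower A S C := .of_algebraMap_eq fun a => (RingHom.congr_fun hk a).symm
    let μ : M →ₗ[A] C :=
      { toFun := fun m => g (inr m)
        map_add' := fun x y => by rw [inr_add, map_add]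
        map_smul' := fun a m => by
          rw [Algebra.smul_def, RingHom.id_apply]
          exact (congrArg g (inl_mul_inr a m).symm).trans (map_mul g _ _) }
    let ν : S ⊗[A] M →ₗ[S] C := μ.liftBaseChange S
    have hν : ∀ x y, ν x * ν y = 0 := by
      intro x y
      induction x using TensorProduct.induction_on with
      | zero => simp
      | add a b ha hb => rw [map_add, add_mul, ha, hb, add_zero]
      | tmul s m =>
        induction y using TensorProduct.induction_on with
        | zero => simp
        | add a b ha hb => rw [map_add, mul_add, ha, hb, add_zero]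
        | tmul t n =>
          simp only [ν, LinearMap.liftBaseChange_tmul, smul_mul_smul_comm]
          rw [show μ m * μ n = g (inr m * inr n) from (map_mul g _ _).symm, inr_mul_inr, map_zero, smul_zero]
    let G : TrivSqZeroExt S (S ⊗[A] M) →+* C :=
      { toFun := fun x => k x.fst + ν x.snd
        map_one' := by simp
        map_mul' := fun x y => by
          simp only [fst_mul, snd_mul, op_smul_eq_smul, map_add, map_mul, map_smul, Algebra.smul_def,
            RingHom.algebraMap_toAlgebra]
          linear_combination -(hν x.snd y.snd)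
        map_zero' := by simp
        map_add' := fun x y => by simp only [fst_add, snd_add, map_add]; abel }
    refine ⟨G, RingHom.ext fun x => ?_, fun G' hG' => RingHom.ext fun x => ?_⟩
    · show k ((trivMap M S x).fst) + ν ((trivMap M S x).snd) = g x
      simp only [trivMap, RingHom.coe_mk, MonoidHom.coe_mk, OneHom.coe_mk, fst_add, snd_add, fst_inl, fst_inr,
        snd_inl, snd_inr, add_zero, zero_add, ν, LinearMap.liftBaseChange_tmul, one_smul]
      rw [show k (algebraMap A S x.fst) = g (inl x.fst) from RingHom.congr_fun hk x.fst]
      conv_rhs => rw [← inl_fst_add_inr_snd_eq x, map_add]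
      rfl
    · have h1 : G'.comp (inlHom S (S ⊗[A] M)) = k := hkuniq _ (RingHom.ext fun a => by
        show G' (inl (algebraMap A S a)) = g (inl a)
        rw [← trivMap_inl M S a]; exact RingHom.congr_fun hG' (inl a))
      conv_lhs => rw [← inl_fst_add_inr_snd_eq x, map_add]
      show _ = k x.fst + ν x.snd
      congr 1
      · exact RingHom.congr_fun h1 x.fst
      · induction x.snd using TensorProduct.induction_on with
        | zero => simp
        | add a b ha hb => rw [inr_add, map_add, map_add, ha, hb]
        | tmul s m =>
          have : (inr (s ⊗ₜ[A] m) : TrivSqZeroExt S (S ⊗[A] M)) = inl s * trivMap M S (inr m) := by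
            rw [trivMap_inr, inl_mul_inr, smul_tmul', smul_eq_mul, mul_one]
          rw [this, map_mul, show G' (inl s) = k s from RingHom.congr_fun h1 s,
            show G' (trivMap M S (inr m)) = g (inr m) from RingHom.congr_fun hG' (inr m)]
          simp only [ν, LinearMap.liftBaseChange_tmul, Algebra.smul_def, RingHom.algebraMap_toAlgebra]
          rfl

end Groth.Agent.SphLib
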