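import Groth.Agent.SphLib.SheafCond
import Groth.Agent.SphLib.TrivExt

/-!
# The sheaf condition for tensor products with henselizations along basic opens
-/

set_option autoImplicit false
set_option linter.unusedSectionVars false

universe u

open TrivSqZeroExt TensorProduct

namespace Groth.Agent.SphLib

variable {A : Type u} [CommRing A] (M : Type u) [AddCommGroup M] [Module A M]

section

variable [Module Aᵐᵒᵖ M] [IsCentralScalar A M]

/-- Functoriality of the trivial extensions. -/
noncomputable def mapT {S S' : Type u} [CommRing S] [Algebra A S] [CommRing S'] [Algebra A S'] (χ : S →ₐ[A] S') :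
    TrivSqZeroExt S (S ⊗[A] M) →+* TrivSqZeroExt S' (S' ⊗[A] M) where
  toFun x := inl (χ x.fst) + inr (χ.toLinearMap.rTensor M x.snd)
  map_one' := by ext <;> simp
  map_mul' x y := by
    ext
    · simp
    · have key : ∀ (s : S) (z : S ⊗[A] M), χ.toLinearMap.rTensor M (s • z) = χ s • χ.toLinearMap.rTensor M z := by
        intro s z
        induction z using TensorProduct.induction_on with
        | zero => simp
        | tmul a m => simp [TensorProduct.smul_tmul']
        | add a b ha hb => rw [smul_add, map_add, map_add, ha, hb, smul_add]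
      simp [op_smul_eq_smul, key]
  map_zero' := by ext <;> simp
  map_add' x y := by ext <;> simp

theorem mapT_comp_trivMap {S S' : Type u} [CommRing S] [Algebra A S] [CommRing S'] [Algebra A S'] (χ : S →ₐ[A] S') :
    (mapT M χ).comp (trivMap M S) = trivMap M S' := by
  refine RingHom.ext fun x => ?_
  ext <;> simp [mapT, trivMap]

theorem tensor_sheaf_condition_aux (I : Ideal A) (f : A) {ι : Type u} (g : ι → A)
    (hcov : ∀ p : Ideal A, p.IsPrime → I ≤ p → f ∉ p → ∃ a, g a ∉ p)
    (S : Type u) [CommRing S] [Algebra A S] (h : HensSch.IsHensAway A I f S (algebraMap A S))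
    (Si : ι → Type u) [∀ a, CommRing (Si a)] [∀ a, Algebra A (Si a)]
    (hi : ∀ a, HensSch.IsHensAway A I (f * g a) (Si a) (algebraMap A (Si a)))
    (Sij : ι → ι → Type u) [∀ a b, CommRing (Sij a b)] [∀ a b, Algebra A (Sij a b)]
    (hij : ∀ a b, HensSch.IsHensAway A I (f * (g a * g b)) (Sij a b) (algebraMap A (Sij a b)))
    (ρ : ∀ a, S →ₐ[A] Si a) (σ : ∀ a b, Si a →ₐ[A] Sij a b) (τ : ∀ a b, Si b →ₐ[A] Sij a b) :
    (∀ x : S ⊗[A] M, (∀ a, (ρ a).toLinearMap.rTensor M x = 0) → x = 0) ∧
    ∀ y : ∀ a, Si a ⊗[A] M,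
      (∀ a b, (σ a b).toLinearMap.rTensor M (y a) = (τ a b).toLinearMap.rTensor M (y b)) →
        ∃ x : S ⊗[A] M, ∀ a, (ρ a).toLinearMap.rTensor M x = y a := by
  have H := sheaf_condition (A := TrivSqZeroExt A M) (I.map (inlHom A M)) (inl f) (fun a => inl (g a))
    (fun p hp hIp hf => hcov (p.comap (inlHom A M)) inferInstance (Ideal.map_le_iff_le_comap.1 hIp) hf)
    (isHensAway_trivMap M S h)
    (Bi := fun a => TrivSqZeroExt (Si a) (Si a ⊗[A] M)) (φi := fun a => trivMap M (Si a))
    (fun a => by rw [← inl_mul]; exact isHensAway_trivMap M (Si a) (hi a))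
    (Bij := fun a b => TrivSqZeroExt (Sij a b) (Sij a b ⊗[A] M)) (φij := fun a b => trivMap M (Sij a b))
    (fun a b => by rw [← inl_mul, ← inl_mul]; exact isHensAway_trivMap M (Sij a b) (hij a b))
    (fun a => mapT M (ρ a)) (fun a => mapT_comp_trivMap M (ρ a))
    (fun a b => mapT M (σ a b)) (fun a b => mapT_comp_trivMap M (σ a b))
    (fun a b => mapT M (τ a b)) (fun a b => mapT_comp_trivMap M (τ a b))
  refine ⟨fun x hx => ?_, fun y hy => ?_⟩
  · have := H.1 (inr x) 0 fun a => by
      rw [map_zero]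
      ext
      · simp [mapT]
      · simpa [mapT] using hx a
    simpa using congrArg TrivSqZeroExt.snd this
  · obtain ⟨x, hx⟩ := H.2 (fun a => inr (y a)) fun a b => by
      ext
      · simp [mapT]
      · simpa [mapT] using hy a b
    exact ⟨x.snd, fun a => by simpa [mapT] using congrArg TrivSqZeroExt.snd (hx a)⟩

end

/-- Tensoring with a module keeps the sheaf condition. -/
theorem tensor_sheaf_condition (I : Ideal A) (f : A) {ι : Type u} (g : ι → A)
    (hcov : ∀ p : Ideal A, p.IsPrime → I ≤ p → f ∉ p → ∃ a, g a ∉ p)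
    (S : Type u) [CommRing S] [Algebra A S] (h : HensSch.IsHensAway A I f S (algebraMap A S))
    (Si : ι → Type u) [∀ a, CommRing (Si a)] [∀ a, Algebra A (Si a)]
    (hi : ∀ a, HensSch.IsHensAway A I (f * g a) (Si a) (algebraMap A (Si a)))
    (Sij : ι → ι → Type u) [∀ a b, CommRing (Sij a b)] [∀ a b, Algebra A (Sij a b)]
    (hij : ∀ a b, HensSch.IsHensAway A I (f * (g a * g b)) (Sij a b) (algebraMap A (Sij a b)))
    (ρ : ∀ a, S →ₐ[A] Si a) (σ : ∀ a b, Si a →ₐ[A] Sij a b) (τ : ∀ a b, Si b →ₐ[A] Sij a b) :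
    (∀ x : S ⊗[A] M, (∀ a, (ρ a).toLinearMap.rTensor M x = 0) → x = 0) ∧
    ∀ y : ∀ a, Si a ⊗[A] M,
      (∀ a b, (σ a b).toLinearMap.rTensor M (y a) = (τ a b).toLinearMap.rTensor M (y b)) →
        ∃ x : S ⊗[A] M, ∀ a, (ρ a).toLinearMap.rTensor M x = y a :=
  letI : Module Aᵐᵒᵖ M := Module.compHom M ((RingHom.id A).fromOpposite fun _ _ => mul_comm _ _)
  haveI : IsCentralScalar A M := ⟨fun _ _ => rfl⟩
  tensor_sheaf_condition_aux M I f g hcov S h Si hi Sij hij ρ σ τ

end Groth.Agent.SphLib
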