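import Groth.Agent.SphLib.TildeStalk
import Groth.Agent.SphLib.TensorSheaf
import Mathlib.LinearAlgebra.DirectSum.Finsupp

/-!
# Sections of `M~` over distinguished opens of an affine henselian spectrum
-/

set_option autoImplicit false
set_option linter.all false
set_option backward.isDefEq.respectTransparency false
set_option backward.isDefEq.respectTransparency.types false
set_option backward.defeqAttrib.useBackward true

universe u

open CategoryTheory CategoryTheory.Limits AlgebraicGeometry Opposite TopologicalSpace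
open scoped TensorProduct

namespace Groth.Agent.SphLib.SphT

open ModSky

variable {A : Type u} [CommRing A] {I : Ideal A} {X : LocallyRingedSpace.{u}} {π : X ⟶ HensSch.specLRS A}

local notation "D" => PrimeSpectrum.basicOpen

theorem bo_mul_le_left (a b : A) : D (a * b) ≤ D a := PrimeSpectrum.basicOpen_mul_le_left a b

theorem bo_mul_le_right (a b : A) : D (a * b) ≤ D b := PrimeSpectrum.basicOpen_mul_le_right a b

theorem mem_bo_mul {a b : A} {p : PrimeSpectrum A} (ha : p ∈ D a) (hb : p ∈ D b) : p ∈ D (a * b) := by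
  rw [PrimeSpectrum.basicOpen_mul]; exact ⟨ha, hb⟩

theorem rTensor_resR (M : Type u) [AddCommGroup M] [Module A M] {U V W : Opens (PrimeSpectrum A)}
    (h : V ≤ U) (h' : W ≤ V) (x : Sec π U ⊗[A] M) :
    (resR π h').toLinearMap.rTensor M ((resR π h).toLinearMap.rTensor M x) =
      (resR π (h'.trans h)).toLinearMap.rTensor M x := by
  rw [← LinearMap.comp_apply, ← LinearMap.rTensor_comp]
  exact congrArg (fun k => LinearMap.rTensor M k x) (LinearMap.ext fun r => resR_resR π h h' r)

theorem rTensor_germR (M : Type u) [AddCommGroup M] [Module A M] {U V : Opens (PrimeSpectrum A)}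
    (h : V ≤ U) (z : X) (hz : π.base z ∈ V) (x : Sec π U ⊗[A] M) :
    (germR π V z hz).toLinearMap.rTensor M ((resR π h).toLinearMap.rTensor M x) =
      (germR π U z (h hz)).toLinearMap.rTensor M x := by
  rw [← LinearMap.comp_apply, ← LinearMap.rTensor_comp]
  exact congrArg (fun k => LinearMap.rTensor M k x) (LinearMap.ext fun r => germR_resR π h z hz r)

variable (hX : HensSch.IsSph A I X π)

include hX

theorem exists_lift_stage (R : Type u) [AddCommGroup R] [Module A R] (z : X) (f : A) (hz : π.base z ∈ D f)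
    (w : St π z ⊗[A] R) :
    ∃ (g : A) (hg : π.base z ∈ D (f * g)) (v : Sec π (D (f * g)) ⊗[A] R),
      (germR π _ z hg).toLinearMap.rTensor R v = w := by
  induction w using TensorProduct.induction_on with
  | zero => exact ⟨1, by rw [mul_one]; exact hz, 0, map_zero _⟩
  | tmul o r =>
    obtain ⟨O, hzO, o', rfl⟩ := X.presheaf.exists_germ_eq (x := z) o
    obtain ⟨g, hzg, hgO⟩ := SphLib.exists_dOpen_le π hX.1 O z hzO
    have hle : pre π (D (f * g)) ≤ O := fun y hy => hgO (bo_mul_le_right f g hy)
    refine ⟨g, mem_bo_mul hz hzg, (show Sec π (D (f * g)) from X.presheaf.map (homOfLE hle).op o') ⊗ₜ r, ?_⟩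
    rw [LinearMap.rTensor_tmul]
    congr 1
    exact X.presheaf.germ_res_apply (homOfLE hle) z (mem_bo_mul hz hzg) o'
  | add x y hx hy =>
    obtain ⟨g, hg, v, rfl⟩ := hx
    obtain ⟨g', hg', v', rfl⟩ := hy
    have h1 : D (f * (g * g')) ≤ D (f * g) := by rw [← mul_assoc]; exact bo_mul_le_left _ _
    have h2 : D (f * (g * g')) ≤ D (f * g') := by
      rw [show f * (g * g') = f * g' * g from by ring]; exact bo_mul_le_left _ _
    refine ⟨g * g', mem_bo_mul hz (mem_bo_mul (bo_mul_le_right f g hg) (bo_mul_le_right f g' hg')),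
      (resR π h1).toLinearMap.rTensor R v + (resR π h2).toLinearMap.rTensor R v', ?_⟩
    rw [map_add, rTensor_germR, rTensor_germR]

theorem exists_coord_zero (z : X) (ι : Type u) (f : A) (hz : π.base z ∈ D f) (c : ι → Sec π (D f)) (s : Finset ι)
    (h : ∀ i, germR π _ z hz (c i) = 0) :
    ∃ (g : A) (hg : π.base z ∈ D (f * g)), ∀ i ∈ s, resR π (bo_mul_le_left f g) (c i) = 0 := by
  classical
  induction s using Finset.induction_on with
  | empty => exact ⟨1, by rw [mul_one]; exact hz, by simp⟩
  | insert i s _ ih =>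
    obtain ⟨g, hg, hs⟩ := ih
    obtain ⟨W, hzW, iU, iV, hW⟩ := X.presheaf.germ_eq z (U := pre π (D f)) (V := pre π (D f)) hz hz
      (c i) (0 : Sec π (D f)) ((h i).trans (map_zero (germR π _ z hz)).symm)
    obtain ⟨g', hzg', hg'W⟩ := SphLib.exists_dOpen_le π hX.1 W z hzW
    refine ⟨g * g', mem_bo_mul hz (mem_bo_mul (bo_mul_le_right f g hg) hzg'), fun j hj => ?_⟩
    have h1 : D (f * (g * g')) ≤ D (f * g) := by rw [← mul_assoc]; exact bo_mul_le_left _ _
    rcases Finset.mem_insert.1 hj with rfl | hj
    · have hle : pre π (D (f * (g * g'))) ≤ W := fun y hy => hg'W (bo_mul_le_right g g' (bo_mul_le_right f _ hy))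
      refine Eq.trans ?_ ((congrArg (X.presheaf.map (homOfLE hle).op) (hW.trans (map_zero _))).trans (map_zero _))
      show _ = (X.presheaf.map iU.op ≫ X.presheaf.map (homOfLE hle).op) (c j)
      rw [← Functor.map_comp]
      rfl
    · rw [← resR_resR π (bo_mul_le_left f g) h1, hs j hj, map_zero]

theorem exists_vanish_stage (M : Type u) [AddCommGroup M] [Module A M] (z : X) (f : A) (hz : π.base z ∈ D f)
    (x : Sec π (D f) ⊗[A] M) (hx : (germR π _ z hz).toLinearMap.rTensor M x = 0) :
    ∃ (g : A) (hg : π.base z ∈ D (f * g)), (resR π (bo_mul_le_left f g)).toLinearMap.rTensor M x = 0 := by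
  classical
  let p : (M →₀ A) →ₗ[A] M := Finsupp.linearCombination A id
  have hp : Function.Surjective p := Finsupp.linearCombination_id_surjective A M
  obtain ⟨y, rfl⟩ := LinearMap.lTensor_surjective (Sec π (D f)) hp x
  have hcomm : ∀ {U : Opens (PrimeSpectrum A)} {T : Type u} [CommRing T] [Algebra A T] (φ : Sec π U →ₐ[A] T)
      (u : Sec π U ⊗[A] (M →₀ A)),
      φ.toLinearMap.rTensor M (p.lTensor _ u) = p.lTensor _ (φ.toLinearMap.rTensor _ u) := fun φ u => by
    rw [← LinearMap.comp_apply, ← LinearMap.comp_apply, LinearMap.rTensor_comp_lTensor, LinearMap.lTensor_comp_rTensor]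
  rw [hcomm] at hx
  have hex : Function.Exact (⇑(LinearMap.ker p).subtype) (⇑p) := LinearMap.exact_subtype_ker_map p
  obtain ⟨w, hw⟩ := (@lTensor_exact A (LinearMap.ker p) (M →₀ A) M _ _ _ _ _ _ _ (LinearMap.ker p).subtype p
    (St π z) _ _ hex hp _).1 hx
  obtain ⟨g, hg, v, hv⟩ := exists_lift_stage hX (LinearMap.ker p) z f hz w
  let d : Sec π (D (f * g)) ⊗[A] (M →₀ A) :=
    (resR π (bo_mul_le_left f g)).toLinearMap.rTensor _ y - (LinearMap.ker p).subtype.lTensor _ v
  have hsub : ∀ u, (germR π _ z hg).toLinearMap.rTensor _ ((LinearMap.ker p).subtype.lTensor _ u) =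
      (LinearMap.ker p).subtype.lTensor _ ((germR π _ z hg).toLinearMap.rTensor _ u) := fun u => by
    induction u using TensorProduct.induction_on with
    | zero => simp
    | tmul r m => rfl
    | add a b ha hb => rw [map_add, map_add, ha, hb, map_add, map_add]
  have hd : (germR π _ z hg).toLinearMap.rTensor _ d = 0 := by
    rw [map_sub, rTensor_germR, hsub, hv, hw, sub_self]
  have key : ∀ {U : Opens (PrimeSpectrum A)} {T : Type u} [CommRing T] [Algebra A T] (φ : Sec π U →ₐ[A] T)
      (u : Sec π U ⊗[A] (M →₀ A)) (i : M),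
      TensorProduct.finsuppScalarRight A A T M (φ.toLinearMap.rTensor _ u) i =
        φ (TensorProduct.finsuppScalarRight A A (Sec π U) M u i) := by
    intro U T _ _ φ u i
    induction u using TensorProduct.induction_on with
    | zero => simp
    | tmul r m => simp
    | add a b ha hb => simp [ha, hb]
  obtain ⟨g', hg', hzero⟩ := exists_coord_zero hX z M (f * g) hg
    (fun i => TensorProduct.finsuppScalarRight A A _ M d i)
    (TensorProduct.finsuppScalarRight A A _ M d).support
    (fun i => by rw [← key, hd]; simp)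
  have h1 : D (f * (g * g')) ≤ D (f * g * g') := by rw [mul_assoc]
  have hd0 : (resR π (h1.trans (bo_mul_le_left (f * g) g'))).toLinearMap.rTensor _ d = 0 := by
    refine (TensorProduct.finsuppScalarRight A A _ M).injective (Finsupp.ext fun i => ?_)
    rw [key, map_zero, Finsupp.zero_apply]
    by_cases hi : i ∈ (TensorProduct.finsuppScalarRight A A _ M d).support
    · rw [← resR_resR π (bo_mul_le_left (f * g) g') h1, hzero i hi, map_zero]
    · rw [Finsupp.notMem_support_iff.1 hi, map_zero]
  refine ⟨g * g', by rw [← mul_assoc]; exact hg', ?_⟩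
  have hsplit : (resR π (bo_mul_le_left f g)).toLinearMap.rTensor _ y = d + (LinearMap.ker p).subtype.lTensor _ v :=
    (sub_add_cancel _ _).symm
  rw [← rTensor_resR M (bo_mul_le_left f g) (h1.trans (bo_mul_le_left (f * g) g')), hcomm, hsplit, map_add,
    ← LinearMap.lTensor_comp_apply, show p.comp (LinearMap.ker p).subtype = 0 from LinearMap.comp_ker_subtype p,
    LinearMap.lTensor_zero, LinearMap.zero_apply, add_zero, hcomm, hd0, map_zero]

variable (M : ModuleCat.{u} A)

theorem theta_eq_zero {f : A} (x : Sec π (D f) ⊗[A] M) (hx : theta π M (D f) x = 0) : x = 0 := by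
  let ι := {z : X // π.base z ∈ D f}
  have h0 : ∀ z : ι, (germR π (D f) z.1 z.2).toLinearMap.rTensor M x = 0 := fun z =>
    (bijective_beta π M z.1).1 (by rw [← germN_theta, hx, germN_zero, map_zero])
  choose g hg hgx using fun z : ι => exists_vanish_stage hX M z.1 f z.2 x (h0 z)
  exact (tensor_sheaf_condition M I f g (fun p hp hIp hf => by
      obtain ⟨z, hz⟩ : (⟨p, hp⟩ : PrimeSpectrum A) ∈ Set.range π.base := hX.2.1.symm ▸ hIp
      have hzf : π.base z ∈ D f := by rw [hz]; exact hf
      refine ⟨⟨z, hzf⟩, ?_⟩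
      have := bo_mul_le_right f _ (hg ⟨z, hzf⟩)
      rw [hz] at this
      exact this)
    (Sec π (D f)) (hX.2.2 f) (fun z => Sec π (D (f * g z))) (fun z => hX.2.2 _)
    (fun a b => Sec π (D (f * (g a * g b)))) (fun a b => hX.2.2 _)
    (fun z => resR π (bo_mul_le_left f (g z)))
    (fun a b => resR π (by rw [← mul_assoc]; exact bo_mul_le_left _ _))
    (fun a b => resR π (by rw [show f * (g a * g b) = f * g b * g a from by ring]; exact bo_mul_le_left _ _))).1 x hgx

theorem exists_germ_stage {f : A} (s : NSec π M (D f)) (z : X) (hz : π.base z ∈ D f) :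
    ∃ (g : A) (hg : π.base z ∈ D (f * g)) (y : Sec π (D (f * g)) ⊗[A] M),
      theta π M _ y = resN π M (bo_mul_le_left f g) s := by
  obtain ⟨w, hw⟩ := (bijective_beta π M z).2 (germN π M _ z hz s)
  obtain ⟨g, hg, v, hv⟩ := exists_lift_stage hX M z f hz w
  have h : germN π M _ z hg (theta π M _ v) = germN π M _ z hg (resN π M (bo_mul_le_left f g) s) := by
    rw [germN_theta, hv, hw, germN_resN]
  obtain ⟨W, hzW, iU, iV, hW⟩ := germP_eq_iff (x := z) (N π M).val hg hg _ _ h
  obtain ⟨g', hzg', hg'W⟩ := SphLib.exists_dOpen_le π hX.1 W z hzW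
  have h1 : D (f * (g * g')) ≤ D (f * g) := by rw [← mul_assoc]; exact bo_mul_le_left _ _
  refine ⟨g * g', mem_bo_mul hz (mem_bo_mul (bo_mul_le_right f g hg) hzg'),
    (resR π h1).toLinearMap.rTensor M v, ?_⟩
  have hle : pre π (D (f * (g * g'))) ≤ W := fun y hy => hg'W (bo_mul_le_right g g' (bo_mul_le_right f _ hy))
  have h2 : ∀ t : NSec π M (D (f * g)), resN π M h1 t = (N π M).val.map (homOfLE hle).op ((N π M).val.map iU.op t) := by
    intro t
    exact (PresheafOfModules.map_comp_apply (N π M).val iU.op (homOfLE hle).op t)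
  rw [← theta_res, h2, ← resN_resN π M (bo_mul_le_left f g) h1 s, h2]
  exact congrArg ((N π M).val.map (homOfLE hle).op) (hW.trans (by rw [Subsingleton.elim iV iU]; rfl))

/-- The sections formula. -/
theorem bijective_theta (f : A) : Function.Bijective (theta π M (D f)) := by
  refine ⟨(injective_iff_map_eq_zero (theta π M (D f))).2 fun x hx => theta_eq_zero hX M x hx, fun s => ?_⟩
  let ι := {z : X // π.base z ∈ D f}
  choose g hg y hy using fun z : ι => exists_germ_stage hX M s z.1 z.2
  have hL : ∀ a b, D (f * (g a * g b)) ≤ D (f * g a) := fun a b => by rw [← mul_assoc]; exact bo_mul_le_left _ _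
  have hR : ∀ a b, D (f * (g a * g b)) ≤ D (f * g b) := fun a b => by
    rw [show f * (g a * g b) = f * g b * g a from by ring]; exact bo_mul_le_left _ _
  obtain ⟨x, hxy⟩ := (tensor_sheaf_condition M I f g (fun p hp hIp hf => by
      obtain ⟨z, hz⟩ : (⟨p, hp⟩ : PrimeSpectrum A) ∈ Set.range π.base := hX.2.1.symm ▸ hIp
      have hzf : π.base z ∈ D f := by rw [hz]; exact hf
      refine ⟨⟨z, hzf⟩, ?_⟩
      have := bo_mul_le_right f _ (hg ⟨z, hzf⟩)
      rw [hz] at this
      exact this)
    (Sec π (D f)) (hX.2.2 f) (fun z => Sec π (D (f * g z))) (fun z => hX.2.2 _)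
    (fun a b => Sec π (D (f * (g a * g b)))) (fun a b => hX.2.2 _)
    (fun z => resR π (bo_mul_le_left f (g z))) (fun a b => resR π (hL a b)) (fun a b => resR π (hR a b))).2 y
    (fun a b => sub_eq_zero.1 (theta_eq_zero hX M _ (by
      rw [map_sub, ← theta_res, ← theta_res, hy, hy, resN_resN, resN_resN, sub_self])))
  refine ⟨x, ?_⟩
  refine TopCat.Presheaf.section_ext ⟨absP (N π M).val, (N π M).isSheaf⟩ (pre π (D f))
    (theta π M (D f) x) s fun z hz => ?_
  have h := congrArg (germN π M _ z (hg ⟨z, hz⟩))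
    ((theta_res π M (bo_mul_le_left f (g ⟨z, hz⟩)) x).trans ((congrArg _ (hxy ⟨z, hz⟩)).trans (hy ⟨z, hz⟩)))
  rw [germN_resN, germN_resN] at h
  exact h

end Groth.Agent.SphLib.SphT
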