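import Groth.Agent.SphLib.ModSky

/-!
# Maps of modules bijective on a basis are isomorphisms
-/

set_option autoImplicit false
set_option linter.all false
set_option backward.isDefEq.respectTransparency false
set_option backward.isDefEq.respectTransparency.types false
set_option backward.defeqAttrib.useBackward true

universe u

open CategoryTheory CategoryTheory.Limits AlgebraicGeometry Opposite TopologicalSpace

namespace Groth.Agent.SphLib.ModSky

variable {X : LocallyRingedSpace.{u}}

theorem isIso_of_bijective_basis {M N : ModSite.Mod X.sheaf} (f : M ⟶ N) (P : Opens X.toTopCat → Prop)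
    (hP : ∀ (O : Opens X.toTopCat) (x : X), x ∈ O → ∃ U, P U ∧ x ∈ U ∧ U ≤ O)
    (hb : ∀ U, P U → Function.Bijective (f.val.app (op U))) : IsIso f := by
  let FM : TopCat.Sheaf AddCommGrpCat.{u} X.toTopCat := ⟨absP M.val, M.isSheaf⟩
  let FN : TopCat.Sheaf AddCommGrpCat.{u} X.toTopCat := ⟨absP N.val, N.isSheaf⟩
  let f' : FM ⟶ FN := ⟨(PresheafOfModules.toPresheaf _).map f.val⟩
  have hstalk : ∀ x : X, Function.Bijective ((TopCat.Presheaf.stalkFunctor AddCommGrpCat.{u} x).map f'.hom) := by
    intro x
    refine ⟨fun a b hab => ?_, fun b => ?_⟩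
    · obtain ⟨U, hU, s, rfl⟩ := exists_germP_eq M.val a
      obtain ⟨V, hV, t, rfl⟩ := exists_germP_eq M.val b
      have h1 : germP x N.val U hU (f.val.app (op U) s) = germP x N.val V hV (f.val.app (op V) t) :=
        ((stalkP_map_germP f.val U hU s).symm.trans hab).trans (stalkP_map_germP f.val V hV t)
      obtain ⟨W, hW, iU, iV, he⟩ := germP_eq_iff N.val hU hV _ _ h1
      obtain ⟨W', hW', hxW', hle⟩ := hP W x hW
      have h2 : M.val.map (homOfLE hle ≫ iU).op s = M.val.map (homOfLE hle ≫ iV).op t := by
        refine (hb W' hW').1 ?_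
        rw [PresheafOfModules.naturality_apply f.val, PresheafOfModules.naturality_apply f.val, op_comp, op_comp,
          PresheafOfModules.map_comp_apply, PresheafOfModules.map_comp_apply]
        exact congrArg _ he
      exact ((germP_res M.val (homOfLE hle ≫ iU) hxW' s).symm.trans
        ((congrArg (germP x M.val W' hxW') h2).trans (germP_res M.val (homOfLE hle ≫ iV) hxW' t)))
    · obtain ⟨U, hU, s, rfl⟩ := exists_germP_eq N.val b
      obtain ⟨W, hW, hxW, hle⟩ := hP U x hU
      obtain ⟨t, ht⟩ := (hb W hW).2 (N.val.map (homOfLE hle).op s)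
      exact ⟨germP x M.val W hxW t, (stalkP_map_germP f.val W hxW t).trans
        ((congrArg (germP x N.val W hxW) ht).trans (germP_res N.val (homOfLE hle) hxW s))⟩
  have happ : ∀ U, IsIso (((PresheafOfModules.toPresheaf _).map f.val).app (op U)) := fun U =>
    (ConcreteCategory.isIso_iff_bijective _).2
      (TopCat.Presheaf.app_bijective_of_stalkFunctor_map_bijective f' U fun x _ => hstalk x)
  have : ∀ U, IsIso (f.val.app U) := fun U => by
    rw [ConcreteCategory.isIso_iff_bijective]
    exact (ConcreteCategory.isIso_iff_bijective (((PresheafOfModules.toPresheaf _).map f.val).app U)).1 (happ U.unop)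
  let e := PresheafOfModules.isoMk (fun U => asIso (f.val.app U)) (fun U V i => f.val.naturality i)
  have : IsIso ((SheafOfModules.forget.{u} (ModSite.ringSh X.sheaf)).map f) := by
    show IsIso f.val
    rw [show f.val = e.hom from PresheafOfModules.hom_ext fun U => rfl]
    infer_instance
  exact isIso_of_reflects_iso f (SheafOfModules.forget.{u} (ModSite.ringSh X.sheaf))

end Groth.Agent.SphLib.ModSky
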