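import Groth.Agent.SphLib.TildePush
import Groth.Agent.SphLib.ModBasis

/-!
# `M~` and direct images along finite maps of henselian pairs
-/

set_option autoImplicit false
set_option linter.all false
set_option backward.isDefEq.respectTransparency false
set_option backward.isDefEq.respectTransparency.types false
set_option backward.defeqAttrib.useBackward true

universe u

open CategoryTheory CategoryTheory.Limits AlgebraicGeometry Opposite TopologicalSpace
open scoped TensorProduct

namespace Groth.Agent.SphLib.SphT

open ModSky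

/-- Restriction of scalars. -/
noncomputable abbrev resA (A : Type u) {B : Type u} [CommRing A] [CommRing B] [Algebra A B] (N' : ModuleCat.{u} B) :
    ModuleCat.{u} A :=
  (ModuleCat.restrictScalars (algebraMap A B)).obj N'

variable {A B : Type u} [CommRing A] [CommRing B] [Algebra A B] [Algebra.IsIntegral A B] {I : Ideal A}
  {X Y : LocallyRingedSpace.{u}} {πA : X ⟶ HensSch.specLRS A} {πB : Y ⟶ HensSch.specLRS B} {φ : Y ⟶ X}
  (hφ : φ ≫ πA = πB ≫ (Spec.map (CommRingCat.ofHom (algebraMap A B))).toLRSHom) (N' : ModuleCat.{u} B)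

include hφ

/-- Canonical elements in the global sections of the direct image. -/
noncomputable def toPushΓ : (resA A N') ⟶ (moduleSpecΓFunctor (R := CommRingCat.of A)).obj
    ((HensSch.pushMod πA).obj ((HensSch.pushMod φ).obj (HensSch.sphTilde πB N'))) :=
  ModuleCat.ofHom (X := (resA A N')) (Y := (moduleSpecΓFunctor (R := CommRingCat.of A)).obj
      ((HensSch.pushMod πA).obj ((HensSch.pushMod φ).obj (HensSch.sphTilde πB N'))))
    { toFun := fun n => eta πB N' n
      map_add' := fun n m => eta_add πB N' n m
      map_smul' := fun a n => by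
        refine (eta_smul πB N' (algebraMap A B a) n).trans ?_
        show (show Sec πB ⊤ from HensSch.secMap πB ⊤ (algebraMap A B a)) • eta πB N' n =
          (show Sec πB ⊤ from φ.c.app (op (pre πA ⊤))
            (πA.c.app (op ⊤) ((Scheme.ΓSpecIso (CommRingCat.of A)).inv.hom a))) • eta πB N' n
        congr 1
        refine Eq.trans ?_ (congrArg (φ.c.app (op (pre πA ⊤))) (show HensSch.secMap πA ⊤ a =
            πA.c.app (op ⊤) ((Scheme.ΓSpecIso (CommRingCat.of A)).inv.hom a) by
          show X.presheaf.map ((Opens.map πA.base).map (homOfLE (le_top : (⊤ : Opens (PrimeSpectrum A)) ≤ ⊤))).op _ = _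
          rw [show ((Opens.map πA.base).map (homOfLE (le_top : (⊤ : Opens (PrimeSpectrum A)) ≤ ⊤))).op = 𝟙 _ from rfl,
            X.presheaf.map_id]
          rfl))
        refine (pullF_algebraMap hφ ⊤ a).symm.trans ?_
        show Y.presheaf.map _ _ = _
        exact ConcreteCategory.congr_hom (Y.presheaf.map_id _) _ }

/-- The natural map. -/
noncomputable def pushNat : HensSch.sphTilde πA (resA A N') ⟶ (HensSch.pushMod φ).obj (HensSch.sphTilde πB N') :=
  (((tilde.adjunction (R := CommRingCat.of A)).comp (HensSch.pullPushAdj πA)).homEquiv _ _).symm (toPushΓ hφ N')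

theorem pushNat_eta (n : N') : (pushNat hφ N').val.app (op (pre πA ⊤)) (eta πA (resA A N') n) = eta πB N' n := by
  have h := congrArg (fun k => k.hom n)
    ((((tilde.adjunction (R := CommRingCat.of A)).comp (HensSch.pullPushAdj πA)).homEquiv _ _).apply_symm_apply
      (toPushΓ hφ N'))
  simp only [Adjunction.homEquiv_unit, Adjunction.comp_unit_app] at h
  exact h

set_option maxHeartbeats 800000 in
/-- The natural map over an open, with values in sections over the preimage. -/
noncomputable def pushG (U : Opens (PrimeSpectrum A)) (x : NSec πA (resA A N') U) : NSec πB N' (comapO A B U) :=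
  ((HensSch.sphTilde πB N').val.map (eqToHom (pre_comapO hφ U).symm).op).hom
    ((pushNat hφ N').val.app (op (pre πA U)) x)

theorem pushG_add (U : Opens (PrimeSpectrum A)) (x y : NSec πA (resA A N') U) :
    pushG hφ N' U (x + y) = pushG hφ N' U x + pushG hφ N' U y :=
  (congrArg _ (map_add ((pushNat hφ N').val.app (op (pre πA U))).hom x y)).trans
    (map_add ((HensSch.sphTilde πB N').val.map (eqToHom (pre_comapO hφ U).symm).op).hom _ _)

theorem pushG_zero (U : Opens (PrimeSpectrum A)) : pushG hφ N' U 0 = 0 :=
  (congrArg _ (map_zero ((pushNat hφ N').val.app (op (pre πA U))).hom)).trans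
    (map_zero ((HensSch.sphTilde πB N').val.map (eqToHom (pre_comapO hφ U).symm).op).hom)

theorem pushG_smul (U : Opens (PrimeSpectrum A)) (r : Sec πA U) (x : NSec πA (resA A N') U) :
    pushG hφ N' U (r • x) = pullF hφ U r • pushG hφ N' U x :=
  (congrArg _ (map_smul ((pushNat hφ N').val.app (op (pre πA U))).hom r x)).trans
    (map_smul ((HensSch.sphTilde πB N').val.map (eqToHom (pre_comapO hφ U).symm).op).hom
      (φ.c.app (op (pre πA U)) r) _)

set_option maxHeartbeats 1000000 in
theorem pushG_res (U : Opens (PrimeSpectrum A)) (n : N') :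
    pushG hφ N' U (resN πA (resA A N') le_top (eta πA (resA A N') n)) = resN πB N' le_top (eta πB N' n) := by
  refine (congrArg _ ((PresheafOfModules.naturality_apply (pushNat hφ N').val
    ((Opens.map πA.base).map (homOfLE (le_top : U ≤ ⊤))).op (eta πA (resA A N') n)).trans
      (congrArg _ (pushNat_eta hφ N' n)))).trans ?_
  exact (PresheafOfModules.map_comp_apply (HensSch.sphTilde πB N').val _ _ _).symm

set_option maxHeartbeats 1600000 in
theorem bijective_pushG (hX : HensSch.IsSph A I X πA) (hY : HensSch.IsSph B (I.map (algebraMap A B)) Y πB) (f : A) :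
    Function.Bijective (pushG hφ N' (PrimeSpectrum.basicOpen f)) := by
  let U := PrimeSpectrum.basicOpen f
  letI : Module A N' := Module.compHom N' (algebraMap A B)
  haveI : IsScalarTower A B N' := ⟨fun a b n => by
    show (a • b) • n = algebraMap A B a • (b • n)
    rw [Algebra.smul_def, mul_smul]⟩
  let e2 := (TensorProduct.AlgebraTensorModule.cancelBaseChange A B B N' (Sec πA U)).symm
  let e3 : N' ⊗[B] (B ⊗[A] Sec πA U) ≃ₗ[B] N' ⊗[B] Sec πB (comapO A B U) :=
    TensorProduct.congr (LinearEquiv.refl B N') (LinearEquiv.ofBijective (bcF hφ U).toLinearMap (bijective_bcF hφ hX hY f))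
  let κ : Sec πA U ⊗[A] N' → Sec πB (comapO A B U) ⊗[B] N' := fun x =>
    TensorProduct.comm B N' _ (e3 (e2 (TensorProduct.comm A (Sec πA U) N' x)))
  have hκ : Function.Bijective κ := (TensorProduct.comm B N' _).bijective.comp (e3.bijective.comp
    (e2.bijective.comp (TensorProduct.comm A (Sec πA U) N').bijective))
  have hκadd : ∀ x y, κ (x + y) = κ x + κ y := fun x y => by simp only [κ, map_add]
  have hκt : ∀ (r : Sec πA U) (n : N'), κ (r ⊗ₜ n) = pullF hφ U r ⊗ₜ n := fun r n => by
    simp [κ, e2, e3, bcF_tmul]
  have hθ : Function.Bijective (fun x : Sec πA U ⊗[A] N' => theta πA (resA A N') U (x : Sec πA U ⊗[A] (resA A N'))) :=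
    bijective_theta hX (resA A N') f
  have hθ' : Function.Bijective (theta πB N' (comapO A B U)) := by
    rw [show comapO A B U = PrimeSpectrum.basicOpen (algebraMap A B f) from TopologicalSpace.Opens.ext rfl]
    exact bijective_theta hY N' _
  have hcomm : ∀ x : Sec πA U ⊗[A] N', pushG hφ N' U (theta πA (resA A N') U x) = theta πB N' (comapO A B U) (κ x) := by
    intro x
    induction x using TensorProduct.induction_on with
    | zero =>
      refine ((congrArg (pushG hφ N' U) (map_zero (theta πA (resA A N') U))).trans (pushG_zero hφ N' U)).trans ?_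
      have : κ 0 = 0 := by simp [κ]
      rw [this, map_zero]
    | tmul r n =>
      refine ((congrArg (pushG hφ N' U) (theta_tmul πA (resA A N') U r n)).trans (pushG_smul hφ N' U r _)).trans ?_
      rw [pushG_res, hκt, theta_tmul]
    | add x y hx hy =>
      refine ((congrArg (pushG hφ N' U) (map_add (theta πA (resA A N') U) x y)).trans (pushG_add hφ N' U _ _)).trans ?_
      exact (congrArg₂ (· + ·) hx hy).trans (by rw [hκadd, map_add])
  have : Function.Bijective (pushG hφ N' U ∘ fun x : Sec πA U ⊗[A] N' => theta πA (resA A N') U (x : Sec πA U ⊗[A] (resA A N'))) := by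
    rw [show (pushG hφ N' U ∘ fun x : Sec πA U ⊗[A] N' => theta πA (resA A N') U (x : Sec πA U ⊗[A] (resA A N'))) =
      theta πB N' (comapO A B U) ∘ κ from funext hcomm]
    exact hθ'.comp hκ
  exact (Function.Bijective.of_comp_iff _ hθ).1 this

theorem isIso_pushNat (hX : HensSch.IsSph A I X πA) (hY : HensSch.IsSph B (I.map (algebraMap A B)) Y πB) :
    IsIso (pushNat hφ N') := by
  refine isIso_of_bijective_basis _ (fun U => ∃ f : A, U = pre πA (PrimeSpectrum.basicOpen f)) (fun O x hx => ?_) ?_
  · obtain ⟨f, hxf, hf⟩ := SphLib.exists_dOpen_le πA hX.1 O x hx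
    exact ⟨_, ⟨f, rfl⟩, hxf, hf⟩
  · rintro _ ⟨f, rfl⟩
    have h := bijective_pushG hφ N' hX hY f
    refine ⟨fun a b hab => h.1 (congrArg ((HensSch.sphTilde πB N').val.map (eqToHom (pre_comapO hφ _).symm).op).hom hab),
      fun y => ?_⟩
    obtain ⟨a, ha⟩ := h.2 (((HensSch.sphTilde πB N').val.map (eqToHom (pre_comapO hφ _).symm).op).hom y)
    refine ⟨a, ?_⟩
    have e : ∀ {V W : Opens Y.toTopCat} (hVW : V = W) (s t : (HensSch.sphTilde πB N').val.obj (op W)),
        ((HensSch.sphTilde πB N').val.map (eqToHom hVW).op).hom s =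
          ((HensSch.sphTilde πB N').val.map (eqToHom hVW).op).hom t → s = t := by
      rintro V W rfl s t h
      rw [show (eqToHom rfl : V ⟶ V).op = 𝟙 _ from rfl, (HensSch.sphTilde πB N').val.map_id] at h
      exact h
    exact e _ _ _ ha

end Groth.Agent.SphLib.SphT
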