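import Groth.Agent.HenselLib.AbsIntHens
import Groth.Agent.HenselLib.Perm
import Groth.Prelude.Def_Hens2
import Mathlib.RingTheory.IntegralClosure.GoingDown
import Mathlib.RingTheory.Ideal.GoingUp

/-!
# Moving between primes of the integral closure of a Henselization
-/

set_option autoImplicit false
set_option linter.all false

universe u

namespace Groth.Agent.SphLib.Triangle

variable {P R K : Type u} [CommRing P] [CommRing R] [Field K] [Algebra P R] [Algebra P K] [Algebra R K]
  [IsScalarTower P R K] [IsAlgClosed K] (J : Ideal P)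

/-- The inclusion of integral closures. -/
def incl : integralClosure P K →+* integralClosure R K where
  toFun b := ⟨b.1, IsIntegral.tower_top b.2⟩
  map_one' := rfl
  map_mul' _ _ := rfl
  map_zero' := rfl
  map_add' _ _ := rfl

variable (hR : Hens2.IsPairHenselization P J R)

include hR

/-- Modulo the ideal the Henselization is the ring itself. -/
theorem exists_retraction :
    ∃ σ : R →+* P ⧸ J, σ.comp (algebraMap P R) = Ideal.Quotient.mk J ∧
      ∀ a : R, ∃ t : P, σ a = Ideal.Quotient.mk J t ∧ a - algebraMap P R t ∈ J.map (algebraMap P R) := by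
  haveI := HenselLib.henselianRing_bot (A := P ⧸ J)
  obtain ⟨σ, hσ, -⟩ := hR.2 (P ⧸ J) ⊥ (Ideal.Quotient.mk J) inferInstance (Ideal.map_quotient_self J).le
  refine ⟨σ, hσ, fun a => ?_⟩
  obtain ⟨t, ht⟩ := Ideal.Quotient.mk_surjective (σ a)
  refine ⟨t, ht.symm, ?_⟩
  let JR := J.map (algebraMap P R)
  haveI := HenselLib.henselianRing_bot (A := R ⧸ JR)
  obtain ⟨k, -, hk⟩ := hR.2 (R ⧸ JR) ⊥ ((Ideal.Quotient.mk JR).comp (algebraMap P R)) inferInstance
    (by rw [← Ideal.map_map]; exact (Ideal.map_quotient_self _).le)
  let θ : P ⧸ J →+* R ⧸ JR := Ideal.Quotient.lift J ((Ideal.Quotient.mk JR).comp (algebraMap P R))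
    fun x hx => Ideal.Quotient.eq_zero_iff_mem.2 (Ideal.mem_map_of_mem _ hx)
  have h1 : θ.comp σ = Ideal.Quotient.mk JR :=
    (hk _ (by beta_reduce; rw [RingHom.comp_assoc, hσ]; rfl)).trans (hk _ rfl).symm
  rw [← Ideal.Quotient.eq, ← RingHom.congr_fun h1 a, RingHom.comp_apply, ← ht]
  rfl

/-- Going up along the integral closure. -/
theorem exists_le_over (q : Ideal (integralClosure R K)) [q.IsPrime] (p' : Ideal P) [p'.IsPrime]
    (hJ : J ≤ q.comap (algebraMap P (integralClosure R K)))
    (hle : q.comap (algebraMap P (integralClosure R K)) ≤ p') :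
    ∃ q' : Ideal (integralClosure R K), q'.IsPrime ∧ q ≤ q' ∧ q'.comap (algebraMap P (integralClosure R K)) = p' := by
  obtain ⟨σ, hσ, hσ'⟩ := exists_retraction J hR
  have hker : RingHom.ker (Ideal.Quotient.mk J) ≤ p' := by
    rw [Ideal.mk_ker]; exact hJ.trans hle
  haveI : (p'.map (Ideal.Quotient.mk J)).IsPrime := Ideal.map_isPrime_of_surjective Ideal.Quotient.mk_surjective hker
  let r' : Ideal R := (p'.map (Ideal.Quotient.mk J)).comap σ
  have hr' : q.comap (algebraMap R (integralClosure R K)) ≤ r' := by
    intro a ha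
    obtain ⟨t, hat, hd⟩ := hσ' a
    show σ a ∈ p'.map (Ideal.Quotient.mk J)
    rw [hat]
    refine Ideal.mem_map_of_mem _ (hle ?_)
    have hd' : a - algebraMap P R t ∈ q.comap (algebraMap R (integralClosure R K)) := by
      refine Ideal.map_le_iff_le_comap.2 ?_ hd
      rw [Ideal.comap_comap, ← IsScalarTower.algebraMap_eq]
      exact hJ
    have := sub_mem ha hd'
    rw [sub_sub_cancel] at this
    show algebraMap P (integralClosure R K) t ∈ q
    rw [IsScalarTower.algebraMap_apply P R (integralClosure R K)]
    exact this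
  obtain ⟨q', hqq', hq', hq'r⟩ := Ideal.exists_ideal_over_prime_of_isIntegral r' q hr'
  refine ⟨q', hq', hqq', ?_⟩
  rw [IsScalarTower.algebraMap_eq P R (integralClosure R K), ← Ideal.comap_comap, hq'r]
  show Ideal.comap (algebraMap P R) (Ideal.comap σ _) = p'
  rw [Ideal.comap_comap, hσ, Ideal.comap_map_of_surjective _ Ideal.Quotient.mk_surjective]
  exact sup_eq_left.2 (by rwa [← RingHom.ker_eq_comap_bot])

/-- Every prime containing the ideal is a contraction. -/
theorem exists_over (hinj : Function.Injective (algebraMap R K)) (p : Ideal P) [p.IsPrime] (hJ : J ≤ p) :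
    ∃ q : Ideal (integralClosure R K), q.IsPrime ∧ q.comap (algebraMap P (integralClosure R K)) = p := by
  obtain ⟨σ, hσ, -⟩ := exists_retraction J hR
  haveI : (p.map (Ideal.Quotient.mk J)).IsPrime :=
    Ideal.map_isPrime_of_surjective Ideal.Quotient.mk_surjective (by rwa [Ideal.mk_ker])
  let r : Ideal R := (p.map (Ideal.Quotient.mk J)).comap σ
  have hinj' : Function.Injective (algebraMap R (integralClosure R K)) := fun a b h =>
    hinj (congrArg Subtype.val h)
  obtain ⟨q, -, hq, hqr⟩ := Ideal.exists_ideal_over_prime_of_isIntegral r (⊥ : Ideal (integralClosure R K))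
    (by rw [← RingHom.ker_eq_comap_bot, (RingHom.injective_iff_ker_eq_bot _).1 hinj']; exact bot_le)
  refine ⟨q, hq, ?_⟩
  rw [IsScalarTower.algebraMap_eq P R (integralClosure R K), ← Ideal.comap_comap, hqr]
  show Ideal.comap (algebraMap P R) (Ideal.comap σ _) = p
  rw [Ideal.comap_comap, hσ, Ideal.comap_map_of_surjective _ Ideal.Quotient.mk_surjective]
  exact sup_eq_left.2 (by rwa [← RingHom.ker_eq_comap_bot, Ideal.mk_ker])

/-- Near the ideal the integral closure is a localization of the integral closure of `P`. -/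
theorem exists_denom (q : Ideal (integralClosure R K)) [q.IsPrime]
    (hJ : J ≤ q.comap (algebraMap P (integralClosure R K))) (a : integralClosure R K) :
    ∃ s b : integralClosure P K, incl (R := R) s ∉ q ∧ s.1 * a.1 = b.1 := by
  let n : Ideal (integralClosure P K) := q.comap (incl (R := R))
  let L := Localization.AtPrime n
  let T := Localization.AtPrime q
  have hs : ∀ s : n.primeCompl, IsUnit (algebraMap (integralClosure P K) K s) := fun s =>
    isUnit_iff_ne_zero.2 fun h => s.2 (by
      have : (s : integralClosure P K) = 0 := Subtype.ext h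
      rw [this]; exact zero_mem _)
  have ht : ∀ s : q.primeCompl, IsUnit (algebraMap (integralClosure R K) K s) := fun s =>
    isUnit_iff_ne_zero.2 fun h => s.2 (by
      have : (s : integralClosure R K) = 0 := Subtype.ext h
      rw [this]; exact zero_mem _)
  let lK : L →+* K := IsLocalization.lift (M := n.primeCompl) hs
  let tK : T →+* K := IsLocalization.lift (M := q.primeCompl) ht
  letI : Algebra L K := lK.toAlgebra
  haveI : IsScalarTower (integralClosure P K) L K :=
    IsScalarTower.of_algebraMap_eq fun b => (IsLocalization.lift_eq hs b).symm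
  letI : Algebra T K := tK.toAlgebra
  haveI : IsScalarTower (integralClosure R K) T K :=
    IsScalarTower.of_algebraMap_eq fun b => (IsLocalization.lift_eq ht b).symm
  have hB : ∀ x : K, IsIntegral (integralClosure P K) x → x ∈ (algebraMap (integralClosure P K) K).range :=
    fun x hx => ⟨⟨x, isIntegral_trans x hx⟩, rfl⟩
  have hA : ∀ x : K, IsIntegral (integralClosure R K) x → x ∈ (algebraMap (integralClosure R K) K).range :=
    fun x hx => ⟨⟨x, isIntegral_trans x hx⟩, rfl⟩
  haveI : HenselianLocalRing L := HenselLib.AbsInt.henselianLocalRing n.primeCompl hB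
    ((IsLocalization.lift_injective_iff hs).2 fun x y => ⟨fun h => by
      have h' := congrArg lK h
      rwa [IsLocalization.lift_eq, IsLocalization.lift_eq] at h', fun h => congrArg _ (Subtype.ext h)⟩)
  haveI : HenselianLocalRing T := HenselLib.AbsInt.henselianLocalRing q.primeCompl hA
    ((IsLocalization.lift_injective_iff ht).2 fun x y => ⟨fun h => by
      have h' := congrArg tK h
      rwa [IsLocalization.lift_eq, IsLocalization.lift_eq] at h', fun h => congrArg _ (Subtype.ext h)⟩)
  let gL : P →+* L := (algebraMap (integralClosure P K) L).comp (algebraMap P (integralClosure P K))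
  let gT : P →+* T := (algebraMap (integralClosure R K) T).comp (algebraMap P (integralClosure R K))
  have hjL : J.map gL ≤ IsLocalRing.maximalIdeal L := by
    rw [Ideal.map_le_iff_le_comap]
    intro j hj
    exact (IsLocalization.AtPrime.to_map_mem_maximal_iff L n _).2
      (show algebraMap P (integralClosure R K) j ∈ q from hJ hj)
  have hjT : J.map gT ≤ IsLocalRing.maximalIdeal T := by
    rw [Ideal.map_le_iff_le_comap]
    intro j hj
    exact (IsLocalization.AtPrime.to_map_mem_maximal_iff T q _).2 (hJ hj)
  have hLh : HenselianRing L (J.map gL) :=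
    haveI := HenselLib.henselianRing_maximalIdeal L
    HenselLib.henselianRing_of_le hjL
  have hTh : HenselianRing T (J.map gT) :=
    haveI := HenselLib.henselianRing_maximalIdeal T
    HenselLib.henselianRing_of_le hjT
  obtain ⟨h, hh, -⟩ := hR.2 L _ gL hLh le_rfl
  let lr : L →+* T := Localization.localRingHom n q (incl (R := R)) rfl
  have e1 : lr.comp h = (algebraMap (integralClosure R K) T).comp (algebraMap R (integralClosure R K)) := by
    refine (hR.2 T _ gT hTh le_rfl).unique ?_ ?_
    · rw [RingHom.comp_assoc, hh]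
      exact RingHom.ext fun x => Localization.localRingHom_to_map n q (incl (R := R)) rfl _
    · rw [RingHom.comp_assoc, ← IsScalarTower.algebraMap_eq]
  have e2 : tK.comp lr = lK := IsLocalization.ringHom_ext n.primeCompl (RingHom.ext fun b => by
    show tK (lr (algebraMap _ L b)) = lK (algebraMap _ L b)
    rw [show lr (algebraMap _ L b) = algebraMap _ T (incl (R := R) b) from
      Localization.localRingHom_to_map n q (incl (R := R)) rfl b,
      IsLocalization.lift_eq, IsLocalization.lift_eq]
    rfl)
  have e3 : lK.comp h = (RingHom.id K).comp (algebraMap R K) := by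
    rw [← e2, RingHom.comp_assoc, e1]
    exact RingHom.ext fun r => IsLocalization.lift_eq ht _
  have hint : IsIntegral L a.1 := IsIntegral.map_of_comp_eq h (RingHom.id K) e3 a.2
  obtain ⟨x, hx⟩ := HenselLib.AbsInt.mem_range_of_isIntegral n.primeCompl hB hint
  obtain ⟨⟨b, s⟩, hbs⟩ := IsLocalization.surj n.primeCompl x
  refine ⟨s, b, s.2, ?_⟩
  have h1 := congrArg lK hbs
  rw [map_mul, IsLocalization.lift_eq, IsLocalization.lift_eq, show lK x = a.1 from hx] at h1
  rw [mul_comm]
  exact h1

/-- Going down inside the integral closure. -/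
theorem exists_le_under [IsDomain P] [IsIntegrallyClosed P] [FaithfulSMul P K]
    (q : Ideal (integralClosure R K)) [q.IsPrime] (p' : Ideal P) [p'.IsPrime]
    (hJ : J ≤ p') (hle : p' ≤ q.comap (algebraMap P (integralClosure R K))) :
    ∃ q' : Ideal (integralClosure R K), q'.IsPrime ∧ q' ≤ q ∧ q'.comap (algebraMap P (integralClosure R K)) = p' := by
  have hd := exists_denom J hR q (hJ.trans hle)
  let n : Ideal (integralClosure P K) := q.comap (incl (R := R))
  haveI : FaithfulSMul P (integralClosure P K) := (faithfulSMul_iff_algebraMap_injective _ _).2 fun x y h =>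
    FaithfulSMul.algebraMap_injective P K (congrArg Subtype.val h)
  haveI : n.LiesOver (q.comap (algebraMap P (integralClosure R K))) := ⟨rfl⟩
  obtain ⟨n', hn'n, hn', hn'o⟩ := Ideal.exists_ideal_le_liesOver_of_le (p := p')
    (q := q.comap (algebraMap P (integralClosure R K))) n hle
  let q' : Ideal (integralClosure R K) :=
    { carrier := {a | ∃ s b : integralClosure P K, incl (R := R) s ∉ q ∧ s.1 * a.1 = b.1 ∧ b ∈ n'}
      add_mem' := by
        rintro a c ⟨s, b, hs, e, hb⟩ ⟨t, d, ht, e', hd⟩
        refine ⟨s * t, t * b + s * d, ?_, ?_, add_mem (Ideal.mul_mem_left _ _ hb) (Ideal.mul_mem_left _ _ hd)⟩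
        · rw [map_mul]; exact fun h => (Ideal.IsPrime.mem_or_mem ‹q.IsPrime› h).elim hs ht
        · push_cast
          linear_combination t.1 * e + s.1 * e'
      zero_mem' := ⟨1, 0, by rw [map_one]; exact (Ideal.ne_top_iff_one q).1 (Ideal.IsPrime.ne_top ‹_›),
        by simp, zero_mem _⟩
      smul_mem' := by
        rintro c a ⟨s, b, hs, e, hb⟩
        obtain ⟨t, d, ht, e'⟩ := hd c
        refine ⟨s * t, d * b, ?_, ?_, Ideal.mul_mem_left _ _ hb⟩
        · rw [map_mul]; exact fun h => (Ideal.IsPrime.mem_or_mem ‹q.IsPrime› h).elim hs ht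
        · rw [smul_eq_mul]
          push_cast
          linear_combination t.1 * c.1 * e + b.1 * e' }
  have hqq : q' ≤ q := by
    rintro a ⟨s, b, hs, e, hb⟩
    have : incl (R := R) s * a ∈ q := by
      rw [show incl (R := R) s * a = incl (R := R) b from Subtype.ext e]
      exact hn'n hb
    exact ((Ideal.IsPrime.mem_or_mem ‹q.IsPrime›) this).resolve_left hs
  refine ⟨q', ⟨fun h => Ideal.IsPrime.ne_top ‹q.IsPrime› (top_le_iff.1 (h ▸ hqq)), ?_⟩, hqq, ?_⟩
  · rintro a c ⟨s, b, hs, e, hb⟩
    obtain ⟨s₁, b₁, hs₁, e₁⟩ := hd a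
    obtain ⟨s₂, b₂, hs₂, e₂⟩ := hd c
    have h0 : s * (b₁ * b₂) = s₁ * s₂ * b := by
      refine Subtype.ext ?_
      push_cast
      rw [← e₁, ← e₂, ← e]
      push_cast
      ring
    have hsn : s ∉ n' := fun h => hs (hn'n h)
    have : s * (b₁ * b₂) ∈ n' := h0 ▸ Ideal.mul_mem_left _ _ hb
    rcases hn'.mem_or_mem ((hn'.mem_or_mem this).resolve_left hsn) with h | h
    · exact Or.inl ⟨s₁, b₁, hs₁, e₁, h⟩
    · exact Or.inr ⟨s₂, b₂, hs₂, e₂, h⟩
  · refine Ideal.ext fun t => ?_
    constructor
    · rintro ⟨s, b, hs, e, hb⟩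
      have h1 : s * algebraMap P (integralClosure P K) t ∈ n' := by
        rw [show s * algebraMap P (integralClosure P K) t = b from Subtype.ext (by
          rw [← e, IsScalarTower.algebraMap_apply P R (integralClosure R K)]
          push_cast
          rw [IsScalarTower.algebraMap_apply P R K])]
        exact hb
      have h2 := (hn'.mem_or_mem h1).resolve_left fun h => hs (hn'n h)
      rw [hn'o.over]
      exact h2
    · intro ht
      refine ⟨1, algebraMap P (integralClosure P K) t, ?_, ?_, ?_⟩
      · rw [map_one]; exact (Ideal.ne_top_iff_one q).1 (Ideal.IsPrime.ne_top ‹_›)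
      · rw [IsScalarTower.algebraMap_apply P R (integralClosure R K)]
        push_cast
        rw [one_mul, IsScalarTower.algebraMap_apply P R K]
      · rw [hn'o.over] at ht
        exact ht

end Groth.Agent.SphLib.Triangle
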