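import Groth.Agent.SphLib.HensStalk
import Groth.Agent.SphLib.TriangleWalk
import Groth.Agent.SiteCoh.Space
import Groth.Agent.SiteCoh.CechFlasque
import Groth.Agent.HenselLib.PairHens

/-!
# Čech cocycles on three opens, and sections of a Henselian spectrum as functions
-/

set_option autoImplicit false
set_option linter.all false
set_option backward.isDefEq.respectTransparency false
set_option backward.isDefEq.respectTransparency.types false
set_option backward.defeqAttrib.useBackward true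

universe u

open CategoryTheory CategoryTheory.Limits AlgebraicGeometry Opposite TopologicalSpace

namespace Groth.Agent.SphLib.Triangle

section Cech

variable {Z : TopCat.{u}} (F : CohTop.Ab Z)

theorem sub_eq_zero_of_bot (G : CohTop.Ab Z) {W : Opens Z} (hW : W = ⊥) (a b : G.obj.obj (op W)) : a = b := by
  subst hW
  exact TopCat.Presheaf.section_ext G _ a b fun x hx => hx.elim

/-- If `H¹` vanishes, a cocycle on three opens without triple points is a coboundary. -/
theorem exists_cochain (h : Subsingleton (CohTop.H F 1)) (U₀ U₁ U₂ : Opens Z)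
    (hcov : ∀ x : Z, x ∈ U₀ ∨ x ∈ U₁ ∨ x ∈ U₂) (h3 : U₀ ⊓ U₁ ⊓ U₂ = ⊥) (c : F.obj.obj (op (U₀ ⊓ U₁))) :
    ∃ (g₀ : F.obj.obj (op U₀)) (g₁ : F.obj.obj (op U₁)) (g₂ : F.obj.obj (op U₂)),
      F.obj.map (homOfLE (inf_le_left : U₀ ⊓ U₁ ≤ U₀)).op g₀ -
          F.obj.map (homOfLE (inf_le_right : U₀ ⊓ U₁ ≤ U₁)).op g₁ = c ∧
      F.obj.map (homOfLE (inf_le_left : U₀ ⊓ U₂ ≤ U₀)).op g₀ =
          F.obj.map (homOfLE (inf_le_right : U₀ ⊓ U₂ ≤ U₂)).op g₂ ∧
      F.obj.map (homOfLE (inf_le_left : U₁ ⊓ U₂ ≤ U₁)).op g₁ =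
          F.obj.map (homOfLE (inf_le_right : U₁ ⊓ U₂ ≤ U₂)).op g₂ := by
  let S := SiteCoh.injEmbed F
  have hS : S.ShortExact := SiteCoh.injEmbed_shortExact F
  haveI : Injective S.X₂ := inferInstanceAs (Injective (Injective.under F))
  have hres : ∀ {G : CohTop.Ab Z} {A B C : Opens Z} (i : B ⟶ A) (j : C ⟶ B) (k : C ⟶ A) (x : G.obj.obj (op A)),
      G.obj.map j.op (G.obj.map i.op x) = G.obj.map k.op x := fun {G A B C} i j k x =>
    (ConcreteCategory.congr_hom (G.obj.map_comp i.op j.op) x).symm.trans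
      (congrArg (fun (m : op A ⟶ op C) => G.obj.map m x) (show i.op ≫ j.op = k.op from Subsingleton.elim _ _))
  have hnat : ∀ {G G' : CohTop.Ab Z} (φ : G ⟶ G') {A B : Opens Z} (i : B ⟶ A) (x : G.obj.obj (op A)),
      φ.hom.app (op B) (G.obj.map i.op x) = G'.obj.map i.op (φ.hom.app (op A) x) := fun φ _ _ i x =>
    ConcreteCategory.congr_hom (φ.hom.naturality i.op) x
  -- a section of the injective sheaf on `U₀`
  let V : Bool → Opens Z := fun b => bif b then U₀ ⊓ U₁ else U₀ ⊓ U₂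
  let sf : ∀ b, S.X₂.obj.obj (op (V b)) := fun b => Bool.casesOn (motive := fun b => S.X₂.obj.obj (op (V b))) b
    0 (S.f.hom.app (op (U₀ ⊓ U₁)) c)
  have compat : TopCat.Presheaf.IsCompatible S.X₂.obj V sf := by
    intro a b
    cases a <;> cases b
    · rfl
    · exact sub_eq_zero_of_bot _ (le_bot_iff.1 (h3 ▸ fun x hx => ⟨⟨hx.1.1, hx.2.2⟩, hx.1.2⟩)) _ _
    · exact sub_eq_zero_of_bot _ (le_bot_iff.1 (h3 ▸ fun x hx => ⟨⟨hx.1.1, hx.1.2⟩, hx.2.2⟩)) _ _
    · rfl
  obtain ⟨d, hd, -⟩ := TopCat.Sheaf.existsUnique_gluing' S.X₂ V ((U₀ ⊓ U₁) ⊔ (U₀ ⊓ U₂))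
    (fun b => homOfLE (by cases b <;> simp [V]))
    (fun x hx => hx.elim (fun hx => Opens.mem_iSup.2 ⟨true, hx⟩) (fun hx => Opens.mem_iSup.2 ⟨false, hx⟩)) sf compat
  have hle : (U₀ ⊓ U₁) ⊔ (U₀ ⊓ U₂) ≤ U₀ := sup_le inf_le_left inf_le_left
  haveI : Mono (homOfLE hle) := ⟨fun _ _ _ => Subsingleton.elim _ _⟩
  obtain ⟨e₀, he₀⟩ := SiteCoh.surjective_map_of_injective S.X₂ (homOfLE hle) d
  have h01 : S.X₂.obj.map (homOfLE (inf_le_left : U₀ ⊓ U₁ ≤ U₀)).op e₀ = S.f.hom.app (op (U₀ ⊓ U₁)) c :=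
    (hres (homOfLE hle) (homOfLE le_sup_left) _ e₀).symm.trans ((congrArg _ he₀).trans (hd true))
  have h02 : S.X₂.obj.map (homOfLE (inf_le_left : U₀ ⊓ U₂ ≤ U₀)).op e₀ = 0 :=
    (hres (homOfLE hle) (homOfLE le_sup_right) _ e₀).symm.trans ((congrArg _ he₀).trans (hd false))
  -- glue the images
  let W : Fin 3 → Opens Z := ![U₀, U₁, U₂]
  let q : ∀ i, S.X₃.obj.obj (op (W i)) := Fin.cons (S.g.hom.app (op U₀) e₀) (Fin.cons 0 (Fin.cons 0 finZeroElim))
  have hq01 : S.X₃.obj.map (homOfLE (inf_le_left : U₀ ⊓ U₁ ≤ U₀)).op (S.g.hom.app (op U₀) e₀) = 0 := by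
    rw [← hnat, h01]
    exact SiteCoh.sections_comp_eq_zero (S := S) _ c
  have hq02 : S.X₃.obj.map (homOfLE (inf_le_left : U₀ ⊓ U₂ ≤ U₀)).op (S.g.hom.app (op U₀) e₀) = 0 := by
    rw [← hnat, h02, map_zero]
  have hz : ∀ {A B : Opens Z} (i : B ⟶ A), S.X₃.obj.map i.op (0 : S.X₃.obj.obj (op A)) = 0 := fun i => map_zero _
  have hsymm : ∀ {A B : Opens Z} (x : S.X₃.obj.obj (op A)),
      S.X₃.obj.map (Opens.infLELeft A B).op x = 0 → S.X₃.obj.map (Opens.infLERight B A).op x = 0 := by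
    intro A B x hx
    refine (hres (Opens.infLELeft A B) (homOfLE (le_of_eq (inf_comm B A))) _ x).symm.trans ?_
    rw [hx, map_zero]
  have compat' : TopCat.Presheaf.IsCompatible S.X₃.obj W q := by
    intro i j
    fin_cases i <;> fin_cases j
    · rfl
    · exact hq01.trans (hz _).symm
    · exact hq02.trans (hz _).symm
    · exact (hz _).trans (hsymm _ hq01).symm
    · rfl
    · exact (hz _).trans (hz _).symm
    · exact (hz _).trans (hsymm _ hq02).symm
    · exact (hz _).trans (hz _).symm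
    · rfl
  obtain ⟨t, ht, -⟩ := TopCat.Sheaf.existsUnique_gluing' S.X₃ W ⊤ (fun i => homOfLE le_top)
    (fun x _ => (hcov x).elim (fun h => Opens.mem_iSup.2 ⟨0, h⟩) fun h =>
      h.elim (fun h => Opens.mem_iSup.2 ⟨1, h⟩) fun h => Opens.mem_iSup.2 ⟨2, h⟩) q compat'
  haveI : Subsingleton (CohTop.HU F 1 ⊤) := (SiteCoh.hUTopEquiv F 1).toEquiv.subsingleton
  obtain ⟨e, he⟩ := SiteCoh.surjective_sections_of_subsingleton hS ⊤ inferInstance t
  let E : ∀ U : Opens Z, S.X₂.obj.obj (op U) := fun U => S.X₂.obj.map (homOfLE le_top).op e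
  have hE : ∀ {U U' : Opens Z} (i : U' ⟶ U), S.X₂.obj.map i.op (E U) = E U' := fun i => hres _ _ _ e
  have hkill : ∀ i, S.g.hom.app (op (W i)) (E (W i)) = q i := fun i => by
    show S.g.hom.app (op (W i)) (S.X₂.obj.map _ e) = q i
    rw [hnat, he]
    exact ht i
  obtain ⟨g₀, hg₀⟩ := SiteCoh.sections_exact hS U₀ (e₀ - E U₀) (by
    rw [map_sub, sub_eq_zero]; exact (hkill 0).symm)
  obtain ⟨g₁, hg₁⟩ := SiteCoh.sections_exact hS U₁ (-E U₁) (by
    rw [map_neg, neg_eq_zero]; exact hkill 1)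
  obtain ⟨g₂, hg₂⟩ := SiteCoh.sections_exact hS U₂ (-E U₂) (by
    rw [map_neg, neg_eq_zero]; exact hkill 2)
  haveI := hS.mono_f
  refine ⟨g₀, g₁, g₂, ?_, ?_, ?_⟩
  · refine SiteCoh.sections_injective S.f _ ?_
    rw [map_sub, hnat, hnat, hg₀, hg₁, map_sub, map_neg, h01, hE, hE]
    abel
  · refine SiteCoh.sections_injective S.f _ ?_
    rw [hnat, hnat, hg₀, hg₂, map_sub, map_neg, h02, hE, hE, zero_sub]
  · refine SiteCoh.sections_injective S.f _ ?_
    rw [hnat, hnat, hg₁, hg₂, map_neg, map_neg, hE, hE]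

end Cech

section Value

variable {A : Type u} [CommRing A] {I : Ideal A} {X : LocallyRingedSpace.{u}} {π : X ⟶ HensSch.specLRS A}

theorem isSph_radical (h : HensSch.IsSph A I X π) : HensSch.IsSph A I.radical X π := by
  obtain ⟨he, hr, hd⟩ := h
  refine ⟨he, by rw [hr, PrimeSpectrum.zeroLocus_radical], fun f => ?_⟩
  obtain ⟨hu, hH, huniv⟩ := hd f
  let φ := HensSch.secMap π (PrimeSpectrum.basicOpen f)
  refine ⟨hu, ?_, fun C _ J g hC hJ hg => huniv C J g hC ((Ideal.map_mono Ideal.le_radical).trans hJ) hg⟩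
  haveI := hH
  haveI := HenselLib.henselianRing_radical (I.map φ)
  exact HenselLib.henselianRing_of_le (J := (I.map φ).radical) (Ideal.map_radical_le φ)

theorem isHenselizationAlong_sph (h : HensSch.IsSph A I X π) :
    HensSch.IsHenselizationAlong (Spec (CommRingCat.of A)) (PrimeSpectrum.zeroLocus (I : Set A)) X π := by
  refine ⟨PrimeSpectrum.isClosed_zeroLocus _, h.1, h.2.1, fun x _ => ?_⟩
  refine ⟨A, inferInstance, 𝟙 _, inferInstance, ⟨x, rfl⟩, X, 𝟙 X, inferInstance, π, ?_, ?_, ?_⟩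
  · rw [Scheme.Hom.id_base]
    simp
  · exact (Category.id_comp _).trans (Category.comp_id _).symm
  · have e : PrimeSpectrum.vanishingIdeal ((𝟙 (Spec (CommRingCat.of A)) : _ ⟶ _).base ⁻¹'
        PrimeSpectrum.zeroLocus (I : Set A)) = I.radical :=
      PrimeSpectrum.vanishingIdeal_zeroLocus_eq_radical I
    rw [e]
    exact isSph_radical h

variable (K : Type u) [Field K] [IsAlgClosed K] [Algebra A K] (hinj : Function.Injective (algebraMap A K))
  (hA : ∀ x : K, IsIntegral A x → x ∈ (algebraMap A K).range) (hX : HensSch.IsSph A I X π)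

/-- The image of a ring element in a local ring upstairs. -/
noncomputable def glob (π : X ⟶ HensSch.specLRS A) (z : X) : A →+* X.presheaf.stalk z :=
  (π.stalkMap z).hom.comp (StructureSheaf.toStalk A (π.base z)).hom

include hinj hA hX

/-- The local rings upstairs map to `K`. -/
theorem exists_kap (z : X) :
    ∃ κ : X.presheaf.stalk z →+* K, κ.comp (glob π z) = algebraMap A K ∧
      ∀ e, ∃ a h : A, h ∉ (π.base z).asIdeal ∧ e * glob π z h = glob π z a := by
  let y := π.base z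
  let Oy : Type u := (Spec (CommRingCat.of A)).presheaf.stalk y
  letI : CommRing Oy := inferInstanceAs (CommRing ((Spec (CommRingCat.of A)).presheaf.stalk y))
  letI : Algebra A Oy := (StructureSheaf.toStalk A y).hom.toAlgebra
  haveI : IsLocalization.AtPrime Oy y.asIdeal :=
    inferInstanceAs (IsLocalization.AtPrime ((Spec.structureSheaf A).presheaf.stalk y) y.asIdeal)
  haveI : IsLocalRing Oy := inferInstanceAs (IsLocalRing ((Spec (CommRingCat.of A)).presheaf.stalk y))
  have hs : ∀ s : y.asIdeal.primeCompl, IsUnit (algebraMap A K s) := fun s =>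
    isUnit_iff_ne_zero.2 fun h => s.2 (by
      have : (s : A) = 0 := hinj (h.trans (map_zero _).symm)
      rw [this]; exact zero_mem _)
  let ψ : Oy →+* K := IsLocalization.lift (M := y.asIdeal.primeCompl) hs
  letI : Algebra Oy K := ψ.toAlgebra
  haveI : IsScalarTower A Oy K := IsScalarTower.of_algebraMap_eq fun b => (IsLocalization.lift_eq hs b).symm
  haveI : HenselianLocalRing Oy := HenselLib.AbsInt.henselianLocalRing y.asIdeal.primeCompl hA
    ((IsLocalization.lift_injective_iff hs).2 fun x x' => ⟨fun h => by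
      have h' := congrArg ψ h
      rwa [IsLocalization.lift_eq, IsLocalization.lift_eq] at h', fun h => congrArg _ (hinj h)⟩)
  have hc := hasCharts (isHenselizationAlong_sph hX)
  obtain ⟨he, hr, hch⟩ := id hc
  have hzY : π.base z ∈ PrimeSpectrum.zeroLocus (I : Set A) := hr ▸ ⟨z, rfl⟩
  obtain ⟨U, hzU, hU⟩ := hch _ hzY
  let J : Ideal Oy := (chartI (PrimeSpectrum.zeroLocus (I : Set A)) U).map
    ((Spec (CommRingCat.of A)).presheaf.germ U y hzU).hom
  haveI := HenselLib.henselianRing_maximalIdeal Oy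
  haveI hJ : HenselianRing Oy J :=
    HenselLib.henselianRing_of_le (J := IsLocalRing.maximalIdeal Oy) (chartI_germ_le_maximal he hU z hzU hzY)
  letI : Algebra Oy (X.presheaf.stalk z) := (π.stalkMap z).hom.toAlgebra
  obtain ⟨k, hk⟩ := exists_surjection he hU z hzU hzY
  obtain ⟨hHh, hHu⟩ := HenselLib.isPairHull_pairH Oy J
  obtain ⟨ρ, hρ, -⟩ := hHu Oy J (RingHom.id Oy) hJ (Ideal.map_id J).le
  have hρ' : (algebraMap Oy (HenselLib.PairH Oy J)).comp ρ = RingHom.id _ :=
    (hHu _ _ (algebraMap Oy (HenselLib.PairH Oy J)) hHh le_rfl).unique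
      (by rw [RingHom.comp_assoc, hρ, RingHom.comp_id]) (RingHom.id_comp _)
  have hsurj : Function.Surjective (algebraMap Oy (X.presheaf.stalk z)) := fun e => by
    obtain ⟨w, rfl⟩ := hk e
    exact ⟨ρ w, (k.commutes _).symm.trans (congrArg k (RingHom.congr_fun hρ' w))⟩
  haveI : Module.Flat Oy (X.presheaf.stalk z) := hc.flat_stalkMap z
  haveI : IsLocalHom (algebraMap Oy (X.presheaf.stalk z)) := π.prop z
  haveI : Module.FaithfullyFlat Oy (X.presheaf.stalk z) := Module.FaithfullyFlat.of_flat_of_isLocalHom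
  have hinj' : Function.Injective (algebraMap Oy (X.presheaf.stalk z)) := FaithfulSMul.algebraMap_injective _ _
  let φ := RingEquiv.ofBijective (algebraMap Oy (X.presheaf.stalk z)) ⟨hinj', hsurj⟩
  refine ⟨ψ.comp φ.symm.toRingHom, RingHom.ext fun a => ?_, fun e => ?_⟩
  · show ψ (φ.symm (φ (algebraMap A Oy a))) = algebraMap A K a
    rw [RingEquiv.symm_apply_apply]
    exact IsLocalization.lift_eq hs a
  · obtain ⟨⟨a, h⟩, hah⟩ := IsLocalization.surj y.asIdeal.primeCompl (φ.symm e)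
    refine ⟨a, h, h.2, ?_⟩
    have := congrArg φ hah
    rw [map_mul, RingEquiv.apply_symm_apply] at this
    exact this

/-- The value in `K` of a germ. -/
noncomputable def kap (z : X) : X.presheaf.stalk z →+* K := (exists_kap K hinj hA hX z).choose

theorem kap_glob (z : X) (a : A) : kap K hinj hA hX z (glob π z a) = algebraMap A K a :=
  RingHom.congr_fun (exists_kap K hinj hA hX z).choose_spec.1 a

omit hinj hA hX in
theorem glob_eq_germ (U : Opens X) (z : X) (hz : z ∈ U) (a : A) :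
    glob π z a = X.presheaf.germ U z hz
      (pullRes π ⊤ U (fun x hx => trivial) ((Scheme.ΓSpecIso (CommRingCat.of A)).inv a)) :=
  ((X.presheaf.germ_res_apply _ z hz _).trans
    (LocallyRingedSpace.stalkMap_germ_apply π ⊤ z trivial _).symm).symm

/-- The value in `K` of a section is locally constant. -/
theorem exists_nbhd_kap_eq (U : Opens X) (s : X.presheaf.obj (op U)) (z : X) (hz : z ∈ U) :
    ∃ (W : Opens X) (hWU : W ≤ U), z ∈ W ∧ ∀ w (hw : w ∈ W),
      kap K hinj hA hX w (X.presheaf.germ U w (hWU hw) s) = kap K hinj hA hX z (X.presheaf.germ U z hz s) := by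
  obtain ⟨a, h, hh, e⟩ := (exists_kap K hinj hA hX z).choose_spec.2 (X.presheaf.germ U z hz s)
  let r : A →+* X.presheaf.obj (op U) :=
    (pullRes π ⊤ U (fun x hx => trivial)).comp (Scheme.ΓSpecIso (CommRingCat.of A)).inv.hom
  have hr : ∀ (w : X) (hw : w ∈ U) (b : A), glob π w b = X.presheaf.germ U w hw (r b) :=
    fun w hw b => glob_eq_germ U w hw b
  rw [hr z hz, hr z hz, ← map_mul] at e
  obtain ⟨W, hzW, i₁, i₂, he⟩ := TopCat.Presheaf.germ_eq X.presheaf z hz hz _ _ e
  refine ⟨W ⊓ HensSch.dOpen π h, inf_le_left.trans i₁.le, ⟨hzW, hh⟩, fun w hw => ?_⟩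
  have hwU : w ∈ U := i₁.le hw.1
  have e' : X.presheaf.germ U w hwU (s * r h) = X.presheaf.germ U w hwU (r a) :=
    (X.presheaf.germ_res_apply i₁ w hw.1 _).symm.trans
      ((congrArg (X.presheaf.germ W w hw.1) he).trans (X.presheaf.germ_res_apply i₂ w hw.1 _))
  have h1 : ∀ (v : X) (hv : v ∈ U), X.presheaf.germ U v hv (s * r h) = X.presheaf.germ U v hv (r a) →
      kap K hinj hA hX v (X.presheaf.germ U v hv s) * algebraMap A K h = algebraMap A K a := fun v hv ev => by
    rw [← kap_glob K hinj hA hX v h, ← kap_glob K hinj hA hX v a, hr v hv, hr v hv, ← map_mul, ← map_mul, ev]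
  have hne : algebraMap A K h ≠ 0 := fun h0 => hh (by
    have : h = 0 := hinj (h0.trans (map_zero _).symm)
    rw [this]; exact zero_mem _)
  exact mul_right_cancel₀ hne ((h1 w hwU e').trans (h1 z hz e).symm)

end Value

end Groth.Agent.SphLib.Triangle
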