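import Mathlib
import Groth.Prelude.Def_HensSch
import Groth.Agent.HenselLib.Pair
import Groth.Agent.HenselLib.Perm

/-!
# Sections vanishing at every point and affine Henselian spectra
-/

set_option autoImplicit false
set_option linter.all false
set_option backward.isDefEq.respectTransparency.types false
set_option backward.isDefEq.respectTransparency false

universe u

open CategoryTheory Opposite TopologicalSpace AlgebraicGeometry

namespace Groth.Agent.SphLib

section Ring

variable {A A' B B' : Type u} [CommRing A] [CommRing A'] [CommRing B] [CommRing B']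

theorem henselianRing_congr (e : B ≃+* B') {J : Ideal B} {J' : Ideal B'} (h : ∀ b, e b ∈ J' ↔ b ∈ J)
    [HenselianRing B J] : HenselianRing B' J' := by
  have hJ : ∀ b', e.symm b' ∈ J ↔ b' ∈ J' := fun b' => by rw [← h, e.apply_symm_apply]
  refine ⟨fun b' hb' => Ideal.mem_jacobson_bot.2 fun c => ?_, fun f hf a₀ h1 h2 => ?_⟩
  · have := Ideal.mem_jacobson_bot.1 (HenselianRing.jac ((hJ b').2 hb')) (e.symm c)
    simpa using this.map e
  · have he : ∀ (P : Polynomial B') (x : B), e ((P.map e.symm.toRingHom).eval x) = P.eval (e x) := fun P x => by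
      rw [← RingEquiv.coe_toRingHom, ← Polynomial.eval_map_apply, Polynomial.map_map]
      simp
    have h2' : IsUnit (Ideal.Quotient.mk J ((f.map e.symm.toRingHom).derivative.eval (e.symm a₀))) := by
      let θ : B' ⧸ J' →+* B ⧸ J := Ideal.quotientMap J e.symm.toRingHom fun b' hb' => (hJ b').2 hb'
      have := h2.map θ
      rw [Ideal.quotientMap_mk] at this
      rw [Polynomial.derivative_map]
      convert! this using 2
      apply e.injective
      rw [he, e.apply_symm_apply]
      exact (e.apply_symm_apply _).symm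
    obtain ⟨a, ha, haa⟩ := HenselianRing.is_henselian (R := B) (I := J) (f.map e.symm.toRingHom) (hf.map _)
      (e.symm a₀) (by rw [← h, he, e.apply_symm_apply]; exact h1) h2'
    refine ⟨e a, ?_, ?_⟩
    · show f.eval (e a) = 0
      rw [← he, ha.eq_zero, map_zero]
    · rw [← h] at haa
      simpa using haa

/-- Transport of Henselizations along isomorphisms. -/
theorem isHensAway_congr {I : Ideal A} {f : A} {φ : A →+* B} (h : HensSch.IsHensAway A I f B φ)
    (eA : A ≃+* A') (eB : B ≃+* B') (I' : Ideal A') (hI : ∀ a, eA a ∈ I' ↔ a ∈ I) (φ' : A' →+* B')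
    (hφ : ∀ a, φ' (eA a) = eB (φ a)) : HensSch.IsHensAway A' I' (eA f) B' φ' := by
  obtain ⟨hu, hH, huniv⟩ := h
  have hI' : I' = I.map eA.toRingHom := by
    refine le_antisymm (fun a ha => ?_) (Ideal.map_le_iff_le_comap.2 fun a ha => (hI a).2 ha)
    rw [← eA.apply_symm_apply a] at ha ⊢
    exact Ideal.mem_map_of_mem _ ((hI _).1 ha)
  have hcomp : φ'.comp eA.toRingHom = eB.toRingHom.comp φ := RingHom.ext hφ
  refine ⟨by rw [hφ]; exact hu.map eB, ?_, fun C _ J g hC hIg hgu => ?_⟩
  · haveI := hH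
    refine henselianRing_congr eB (J := I.map φ) fun b => ?_
    rw [hI', Ideal.map_map, hcomp, ← Ideal.map_map]
    exact ⟨fun hb => by
      obtain ⟨b', hb', hbb⟩ := (Ideal.mem_map_iff_of_surjective eB.toRingHom eB.surjective).1 hb
      rwa [← eB.injective hbb], fun hb => Ideal.mem_map_of_mem eB.toRingHom hb⟩
  · obtain ⟨k, hk, hkuniq⟩ := huniv C J (g.comp eA.toRingHom) hC
      (by rw [← Ideal.map_map, ← hI']; exact hIg) hgu
    refine ⟨k.comp eB.symm.toRingHom, RingHom.ext fun a => ?_, fun m hm => RingHom.ext fun b => ?_⟩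
    · rw [← eA.apply_symm_apply a]
      show k (eB.symm (φ' (eA (eA.symm a)))) = g (eA (eA.symm a))
      rw [hφ, eB.symm_apply_apply]
      exact RingHom.congr_fun hk _
    · have := hkuniq (m.comp eB.toRingHom) (RingHom.ext fun a => by
        show m (eB (φ a)) = g (eA a)
        rw [← hφ]
        exact RingHom.congr_fun hm _)
      show m b = k (eB.symm b)
      rw [← this]
      exact congrArg m (eB.apply_symm_apply b).symm

/-- Modulo the ideal, the Henselization is the localization. -/
theorem exists_sub_mem {I : Ideal A} {f : A} {φ : A →+* B} (h : HensSch.IsHensAway A I f B φ) (b : B) :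
    ∃ (a : A) (n : ℕ), φ f ^ n * b - φ a ∈ I.map φ := by
  obtain ⟨hu, hH, huniv⟩ := h
  let L := Localization.Away f
  let IL := I.map (algebraMap A L)
  let C := L ⧸ IL
  let gC : A →+* C := (Ideal.Quotient.mk IL).comp (algebraMap A L)
  haveI : HenselianRing C (⊥ : Ideal C) := HenselLib.henselianRing_of_nilpotent _ fun x hx => by
    rw [Ideal.mem_bot] at hx; exact hx ▸ IsNilpotent.zero
  have hgI : I.map gC ≤ ⊥ := Ideal.map_le_iff_le_comap.2 fun a ha =>
    Ideal.Quotient.eq_zero_iff_mem.2 (Ideal.mem_map_of_mem _ ha)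
  have hgu : IsUnit (gC f) := (IsLocalization.Away.algebraMap_isUnit (S := L) f).map (Ideal.Quotient.mk IL)
  obtain ⟨k, hk, -⟩ := huniv C ⊥ gC inferInstance hgI hgu
  let J := I.map φ
  haveI : HenselianRing (B ⧸ J) (⊥ : Ideal (B ⧸ J)) := HenselLib.henselianRing_of_nilpotent _ fun x hx => by
    rw [Ideal.mem_bot] at hx; exact hx ▸ IsNilpotent.zero
  let q := (Ideal.Quotient.mk J).comp φ
  have hqu : IsUnit (q f) := hu.map (Ideal.Quotient.mk J)
  have hqI : I.map q ≤ ⊥ := Ideal.map_le_iff_le_comap.2 fun a ha =>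
    Ideal.Quotient.eq_zero_iff_mem.2 (Ideal.mem_map_of_mem _ ha)
  obtain ⟨-, -, hquniq⟩ := huniv (B ⧸ J) ⊥ q inferInstance hqI hqu
  let l : L →+* B ⧸ J := IsLocalization.Away.lift f hqu
  let lC : C →+* B ⧸ J := Ideal.Quotient.lift IL l fun x hx => by
    have : IL ≤ RingHom.ker l := Ideal.map_le_iff_le_comap.2 fun a ha => by
      show l (algebraMap A L a) = 0
      rw [IsLocalization.Away.lift_eq]
      exact Ideal.Quotient.eq_zero_iff_mem.2 (Ideal.mem_map_of_mem _ ha)
    exact this hx
  have hlC : ∀ a, lC (gC a) = q a := fun a => IsLocalization.Away.lift_eq f hqu a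
  have hmk : lC.comp k = Ideal.Quotient.mk J := by
    obtain ⟨m, -, hm⟩ := (huniv (B ⧸ J) ⊥ q inferInstance hqI hqu)
    exact (hm (lC.comp k) (RingHom.ext fun a => by
      show lC (k (φ a)) = q a
      rw [← hlC]; exact congrArg lC (RingHom.congr_fun hk a))).trans (hm (Ideal.Quotient.mk J) rfl).symm
  obtain ⟨x, hx⟩ := Ideal.Quotient.mk_surjective (k b)
  obtain ⟨⟨a, ⟨_, n, rfl⟩⟩, hx'⟩ := IsLocalization.surj (Submonoid.powers f) x
  refine ⟨a, n, ?_⟩
  rw [← Ideal.Quotient.eq, map_mul, map_pow, ← RingHom.congr_fun hmk b]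
  show q f ^ n * lC (k b) = q a
  rw [← hx, ← hlC, ← hlC, ← map_pow, ← map_mul]
  refine congrArg lC ?_
  show gC f ^ n * Ideal.Quotient.mk IL x = gC a
  rw [← map_pow]
  show Ideal.Quotient.mk IL (algebraMap A L (f ^ n)) * Ideal.Quotient.mk IL x = _
  rw [← map_mul, mul_comm, hx']
  rfl

end Ring

section Van

variable {X Y : LocallyRingedSpace.{u}}

/-- The sections vanishing at every point. -/
noncomputable def vanI (X : LocallyRingedSpace.{u}) (U : Opens X) : Ideal (X.presheaf.obj (op U)) :=
  ⨅ x : U, (IsLocalRing.maximalIdeal (X.presheaf.stalk x.1)).comap (X.presheaf.germ U x.1 x.2).hom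

theorem mem_vanI {U : Opens X} {s : X.presheaf.obj (op U)} :
    s ∈ vanI X U ↔ X.toRingedSpace.basicOpen s = ⊥ := by
  simp only [vanI, Ideal.mem_iInf, Ideal.mem_comap, IsLocalRing.mem_maximalIdeal, mem_nonunits_iff,
    Subtype.forall]
  constructor
  · intro h
    rw [eq_bot_iff]
    rintro x ⟨hx, hu⟩
    exact (h x hx hu).elim
  · intro h x hx hu
    have : x ∈ X.toRingedSpace.basicOpen s := ⟨hx, hu⟩
    rw [h] at this
    exact this.elim

theorem vanI_le_jacobson (U : Opens X) : vanI X U ≤ Ideal.jacobson ⊥ := fun s hs =>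
  Ideal.mem_jacobson_bot.2 fun c => by
    refine X.toRingedSpace.isUnit_of_isUnit_germ U _ fun x hx => ?_
    have hm : X.presheaf.germ U x hx s ∈ IsLocalRing.maximalIdeal (X.presheaf.stalk x) := by
      have := hs
      simp only [vanI, Ideal.mem_iInf] at this
      exact this ⟨x, hx⟩
    rw [map_add, map_mul, map_one]
    by_contra hu
    have h1 : (1 : X.presheaf.stalk x) ∈ IsLocalRing.maximalIdeal (X.presheaf.stalk x) := by
      have := (IsLocalRing.maximalIdeal (X.presheaf.stalk x)).sub_mem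
        ((IsLocalRing.mem_maximalIdeal _).2 hu) (Ideal.mul_mem_right (X.presheaf.germ U x hx c) _ hm)
      rwa [add_sub_cancel_left] at this
    exact (IsLocalRing.mem_maximalIdeal _).1 h1 isUnit_one

theorem vanI_map (f : X ⟶ Y) {U : Opens Y} {s : Y.presheaf.obj (op U)} (hs : s ∈ vanI Y U) :
    f.c.app (op U) s ∈ vanI X ((Opens.map f.base).obj U) := by
  rw [mem_vanI] at hs ⊢
  exact (LocallyRingedSpace.preimage_basicOpen f s).symm.trans (by rw [hs]; rfl)

theorem vanI_res {U V : Opens X} (h : V ≤ U) {s : X.presheaf.obj (op U)} (hs : s ∈ vanI X U) :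
    X.presheaf.map (homOfLE h).op s ∈ vanI X V := by
  rw [mem_vanI] at hs ⊢
  refine (RingedSpace.basicOpen_res X.toRingedSpace (homOfLE h).op s).trans ?_
  show V ⊓ X.toRingedSpace.basicOpen s = ⊥
  rw [hs, inf_bot_eq]

theorem isUnit_germ_iff_of_sub_mem {U : Opens X} {s t : X.presheaf.obj (op U)} (h : s - t ∈ vanI X U)
    {x : X} (hx : x ∈ U) : IsUnit (X.presheaf.germ U x hx s) ↔ IsUnit (X.presheaf.germ U x hx t) := by
  have hm : X.presheaf.germ U x hx (s - t) ∈ IsLocalRing.maximalIdeal (X.presheaf.stalk x) := by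
    simp only [vanI, Ideal.mem_iInf] at h
    exact h ⟨x, hx⟩
  rw [← not_iff_not, ← mem_nonunits_iff, ← mem_nonunits_iff, ← IsLocalRing.mem_maximalIdeal,
    ← IsLocalRing.mem_maximalIdeal]
  rw [map_sub] at hm
  exact ⟨fun hs => by simpa using (IsLocalRing.maximalIdeal (X.presheaf.stalk x)).sub_mem hs hm,
    fun ht => by simpa using (IsLocalRing.maximalIdeal (X.presheaf.stalk x)).add_mem hm ht⟩

end Van

section Away

variable {X : LocallyRingedSpace.{u}} {A : Type u} [CommRing A] {U : Opens X}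
  {φ : A →+* X.presheaf.obj (op U)} {I : Ideal A} {f : A}

theorem map_le_vanI (hI : ∀ a ∈ I, X.toRingedSpace.basicOpen (φ a) = ⊥) : I.map φ ≤ vanI X U :=
  Ideal.map_le_iff_le_comap.2 fun a ha => mem_vanI.2 (hI a ha)

theorem exists_sub_mem_vanI (h : HensSch.IsHensAway A I f (X.presheaf.obj (op U)) φ)
    (hI : ∀ a ∈ I, X.toRingedSpace.basicOpen (φ a) = ⊥) (b : X.presheaf.obj (op U)) :
    ∃ (a : A) (n : ℕ), φ f ^ n * b - φ a ∈ vanI X U :=
  let ⟨a, n, hb⟩ := exists_sub_mem h b
  ⟨a, n, map_le_vanI hI hb⟩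

/-- The sections vanishing everywhere are Henselian. -/
theorem henselianRing_vanI (h : HensSch.IsHensAway A I f (X.presheaf.obj (op U)) φ)
    (hI : ∀ a ∈ I, X.toRingedSpace.basicOpen (φ a) = ⊥)
    (hK : ∀ a, X.toRingedSpace.basicOpen (φ a) = ⊥ → f * a ∈ I.radical) :
    HenselianRing (X.presheaf.obj (op U)) (vanI X U) := by
  haveI := h.2.1
  haveI := HenselLib.henselianRing_radical (I.map φ)
  refine HenselLib.henselianRing_of_le (J := (I.map φ).radical) fun b hb => ?_
  obtain ⟨a, n, hab⟩ := exists_sub_mem h b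
  have hr : I.map φ ≤ (I.map φ).radical := Ideal.le_radical
  have ha : φ a ∈ vanI X U := by
    have := (vanI X U).sub_mem ((vanI X U).mul_mem_left (φ f ^ n) hb) (map_le_vanI hI hab)
    rwa [sub_sub_cancel] at this
  have h1 : φ (f * a) ∈ (I.map φ).radical := Ideal.map_radical_le φ (Ideal.mem_map_of_mem φ (hK a (mem_vanI.1 ha)))
  have h2 : φ a ∈ (I.map φ).radical := by
    rw [map_mul] at h1
    exact (Ideal.unit_mul_mem_iff_mem _ h.1).1 h1
  have h3 : φ f ^ n * b ∈ (I.map φ).radical := by
    have := (I.map φ).radical.add_mem (hr hab) h2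
    rwa [sub_add_cancel] at this
  exact (Ideal.unit_mul_mem_iff_mem _ (h.1.pow n)).1 h3

end Away

section Hens

variable (X : LocallyRingedSpace.{u})

/-- All rings of sections are Henselian along the sections vanishing at every point. -/
def HensOpens : Prop := ∀ U : Opens X, HenselianRing (X.presheaf.obj (op U)) (vanI X U)

/-- It suffices to check this on small opens. -/
theorem hensOpens_of_basis (h : ∀ (U : Opens X) (x : X), x ∈ U →
    ∃ V, x ∈ V ∧ V ≤ U ∧ HenselianRing (X.presheaf.obj (op V)) (vanI X V)) : HensOpens X := by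
  intro U
  refine ⟨vanI_le_jacobson U, fun p hp a₀ h1 h2 => ?_⟩
  choose V hxV hVU hV using fun x : U => h U x.1 x.2
  let r : ∀ x, X.presheaf.obj (op U) →+* X.presheaf.obj (op (V x)) := fun x =>
    (X.presheaf.map (homOfLE (hVU x)).op).hom
  have hu : IsUnit (p.derivative.eval a₀) := HenselLib.isUnit_of_isUnit_mk (vanI_le_jacobson U) h2
  have hroot : ∀ x, ∃ a, (p.map (r x)).IsRoot a ∧ a - r x a₀ ∈ vanI X (V x) := fun x =>
    haveI := hV x
    HenselianRing.is_henselian (R := X.presheaf.obj (op (V x))) (p.map (r x)) (hp.map _) (r x a₀)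
      (by rw [Polynomial.eval_map_apply]; exact vanI_res (hVU x) h1)
      (by rw [Polynomial.derivative_map, Polynomial.eval_map_apply]; exact (hu.map _).map _)
  choose a ha haa using hroot
  have hcov : U ≤ iSup V := fun x hx => Opens.mem_iSup.2 ⟨⟨x, hx⟩, hxV ⟨x, hx⟩⟩
  have hcomp : TopCat.Presheaf.IsCompatible X.presheaf V a := fun x y => by
    let W := V x ⊓ V y
    let rW : X.presheaf.obj (op U) →+* X.presheaf.obj (op W) :=
      (X.presheaf.map (homOfLE (inf_le_left.trans (hVU x))).op).hom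
    have hz : ∀ z (hz : W ≤ V z), (p.map rW).IsRoot (X.presheaf.map (homOfLE hz).op (a z)) ∧
        X.presheaf.map (homOfLE hz).op (a z) - rW a₀ ∈ vanI X W := by
      intro z hz
      have hc : (X.presheaf.map (homOfLE hz).op).hom.comp (r z) = rW := by
        rw [← CommRingCat.hom_comp, ← Functor.map_comp]; rfl
      refine ⟨?_, ?_⟩
      · have := (ha z).map (f := (X.presheaf.map (homOfLE hz).op).hom)
        rwa [Polynomial.map_map, hc] at this
      · have := vanI_res hz (haa z)
        rw [map_sub] at this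
        rw [← hc]
        exact this
    obtain ⟨rx, dx⟩ := hz x inf_le_left
    obtain ⟨ry, dy⟩ := hz y inf_le_right
    show X.presheaf.map (homOfLE (inf_le_left : W ≤ V x)).op (a x) = X.presheaf.map (homOfLE (inf_le_right : W ≤ V y)).op (a y)
    refine HenselLib.root_unique (vanI_le_jacobson W) (p.map rW) rx ry ?_ ?_
    · simpa using (vanI X W).sub_mem dy dx
    · obtain ⟨c, hc⟩ := Polynomial.sub_dvd_eval_sub (X.presheaf.map (homOfLE (inf_le_left : W ≤ V x)).op (a x))
        (rW a₀) (p.map rW).derivative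
      have : Ideal.Quotient.mk (vanI X W) ((p.map rW).derivative.eval
          (X.presheaf.map (homOfLE (inf_le_left : W ≤ V x)).op (a x))) =
          Ideal.Quotient.mk (vanI X W) (rW (p.derivative.eval a₀)) := by
        rw [Ideal.Quotient.eq, ← Polynomial.eval_map_apply, ← Polynomial.derivative_map, hc]
        exact Ideal.mul_mem_right _ _ dx
      rw [this]
      exact (hu.map rW).map _
  obtain ⟨g₀, hg, -⟩ := X.sheaf.existsUnique_gluing' V U (fun x => homOfLE (hVU x)) hcov a hcomp
  let g : X.presheaf.obj (op U) := g₀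
  refine ⟨g, X.sheaf.eq_of_locally_eq' V U (fun x => homOfLE (hVU x)) hcov _ _ fun x => ?_, ?_⟩
  · show r x (p.eval g) = r x 0
    rw [← Polynomial.eval_map_apply, show r x g = a x from hg x, map_zero]
    exact ha x
  · rw [vanI, Ideal.mem_iInf]
    intro x
    rw [Ideal.mem_comap]
    have h3 := haa x
    simp only [vanI, Ideal.mem_iInf] at h3
    have h4 := h3 ⟨x.1, hxV x⟩
    rw [show a x = r x g from (hg x).symm, ← map_sub, Ideal.mem_comap] at h4
    exact (X.presheaf.germ_res_apply (homOfLE (hVU x)) x.1 (hxV x) (g - a₀)) ▸ h4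

end Hens

end Groth.Agent.SphLib
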