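import Groth.Agent.SphLib.FormalCompareStalk
import Groth.Agent.SphLib.ModBasis
import Groth.Agent.Coherent.SupportPullback

/-!
# Modules killed by a power of the ideal, and separatedness of inverse images
-/

set_option autoImplicit false
set_option linter.all false
set_option backward.isDefEq.respectTransparency false
set_option backward.isDefEq.respectTransparency.types false
set_option backward.defeqAttrib.useBackward true

universe u

open CategoryTheory CategoryTheory.Limits AlgebraicGeometry Opposite TopologicalSpace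
open scoped TensorProduct

namespace Groth.Agent.SphLib.FormalCompare

open ModSky PullStalk Groth.Agent.Coherent Groth.Agent.Coherent.Existence

section Gen

variable {Z : LocallyRingedSpace.{u}}

theorem sec_eq_of_germP (M : ModSite.Mod Z.sheaf) (U : Opens Z.toTopCat) (a b : M.val.obj (op U))
    (h : ∀ x (hx : x ∈ U), germP x M.val U hx a = germP x M.val U hx b) : a = b :=
  TopCat.Presheaf.section_ext (F := (⟨absP M.val, M.isSheaf⟩ : TopCat.Sheaf AddCommGrpCat.{u} Z.toTopCat)) U a b h

/-- Restricting twice. -/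
theorem res2 (P : PMod Z) {U V W : Opens Z.toTopCat} (i : V ⟶ U) (j : W ⟶ V) (k : W ⟶ U) (s : P.obj (op U)) :
    P.map j.op (P.map i.op s) = P.map k.op s :=
  (PresheafOfModules.map_comp_apply P i.op j.op s).symm.trans
    (congrArg (fun (m : op U ⟶ op W) => P.map m s) (show i.op ≫ j.op = k.op from Subsingleton.elim _ _))

/-- Naturality. -/
theorem nat2 {P Q : PMod Z} (f : P ⟶ Q) {U V : Opens Z.toTopCat} (i : V ⟶ U) (s : P.obj (op U)) :
    f.app (op V) (P.map i.op s) = Q.map i.op (f.app (op U) s) :=
  PresheafOfModules.naturality_apply f i.op s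

/-- An injective and locally surjective morphism is bijective on sections. -/
theorem bijective_app_of_local {M N : ModSite.Mod Z.sheaf} (f : M ⟶ N)
    (hinj : ∀ U, Function.Injective (f.val.app (op U)))
    (hsurj : ∀ (U : Opens Z.toTopCat) (s : N.val.obj (op U)) (x : Z), x ∈ U →
      ∃ (W : Opens Z.toTopCat) (hW : W ≤ U), x ∈ W ∧ ∃ t, f.val.app (op W) t = N.val.map (homOfLE hW).op s)
    (U : Opens Z.toTopCat) : Function.Bijective (f.val.app (op U)) := by
  refine ⟨hinj U, fun s => ?_⟩
  choose W hWU hxW t ht using fun x : U => hsurj U s x.1 x.2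
  let FM : TopCat.Sheaf AddCommGrpCat.{u} Z.toTopCat := ⟨absP M.val, M.isSheaf⟩
  have compat : TopCat.Presheaf.IsCompatible (absP M.val) W fun x => t x := by
    intro x y
    change M.val.map (Opens.infLELeft (W x) (W y)).op (t x) = M.val.map (Opens.infLERight (W x) (W y)).op (t y)
    refine hinj (W x ⊓ W y) (a₁ := M.val.map (Opens.infLELeft (W x) (W y)).op (t x))
      (a₂ := M.val.map (Opens.infLERight (W x) (W y)).op (t y)) ?_
    let l := Opens.infLELeft (W x) (W y)
    let r := Opens.infLERight (W x) (W y)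
    let k : W x ⊓ W y ⟶ U := l ≫ homOfLE (hWU x)
    have hl : f.val.app (op (W x ⊓ W y)) (M.val.map l.op (t x)) = N.val.map k.op s :=
      (nat2 f.val l (t x)).trans ((congrArg (N.val.map l.op) (ht x)).trans (res2 N.val _ l k s))
    have hr : f.val.app (op (W x ⊓ W y)) (M.val.map r.op (t y)) = N.val.map k.op s :=
      (nat2 f.val r (t y)).trans ((congrArg (N.val.map r.op) (ht y)).trans (res2 N.val _ r k s))
    exact hl.trans hr.symm
  obtain ⟨g, hg, -⟩ := TopCat.Sheaf.existsUnique_gluing' FM W U (fun x => homOfLE (hWU x))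
    (fun x hx => Opens.mem_iSup.2 ⟨⟨x, hx⟩, hxW ⟨x, hx⟩⟩) _ compat
  refine ⟨g, sec_eq_of_germP N U _ _ fun x hx => ?_⟩
  let i : W ⟨x, hx⟩ ⟶ U := homOfLE (hWU ⟨x, hx⟩)
  have h1 : M.val.map i.op g = t ⟨x, hx⟩ := hg ⟨x, hx⟩
  refine (germP_res N.val i (hxW ⟨x, hx⟩) _).symm.trans (Eq.trans ?_ (germP_res N.val i (hxW ⟨x, hx⟩) s))
  refine congrArg (germP x N.val _ _) ?_
  exact (nat2 f.val i g).symm.trans ((congrArg (f.val.app (op (W ⟨x, hx⟩))) h1).trans (ht ⟨x, hx⟩))

end Gen

section Natural

variable {Z X : LocallyRingedSpace.{u}} (g : Z ⟶ X) (z : Z) {G G' : ModSite.Mod X.sheaf} (q : G ⟶ G')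

theorem gamma_natural (x : GStk g z G) :
    (stalkM z).map ((HensSch.pullMod g).map q) (gamma g z G x) = gamma g z G' ((stalkM (g.base z)).map q x) := by
  obtain ⟨U, hU, s, rfl⟩ := exists_germP_eq G.val x
  rw [gamma_germ]
  refine (stalkP_map_germP ((HensSch.pullMod g).map q).val _ hU _).trans ?_
  refine Eq.trans ?_ (congrArg (gamma g z G') (stalkP_map_germP q.val U hU s)).symm
  rw [gamma_germ]
  refine congrArg (germP z _ _ hU) ?_
  exact (congrArg (fun m : G ⟶ (HensSch.pushMod g).obj ((HensSch.pullMod g).obj G') => m.val.app (op U) s)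
    ((HensSch.pullPushAdj g).unit.naturality q)).symm

/-- The map induced on stalks downstairs. -/
noncomputable def stkMap : GStk g z G →ₗ[X.presheaf.stalk (g.base z)] GStk g z G' :=
  ((stalkM (g.base z)).map q).hom

/-- The map induced on stalks upstairs. -/
noncomputable def stkMapUp : NStk g z G →ₗ[StR g z] NStk g z G' :=
  ((stalkM z).map ((HensSch.pullMod g).map q)).hom

theorem beta_natural' (t : StR g z ⊗[X.presheaf.stalk (g.base z)] GStk g z G) :
    stkMapUp g z q (beta g z G t) = beta g z G' ((stkMap g z q).lTensor (StR g z) t) := by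
  induction t using TensorProduct.induction_on with
  | zero => simp only [map_zero]
  | add a b ha hb => simp only [map_add, ha, hb]
  | tmul o x =>
    rw [LinearMap.lTensor_tmul, beta_tmul, beta_tmul, map_smul]
    exact congrArg (o • ·) (gamma_natural g z q x)

theorem beta_natural (t : StR g z ⊗[X.presheaf.stalk (g.base z)] GStk g z G) :
    (stalkM z).map ((HensSch.pullMod g).map q) (beta g z G t) =
      beta g z G' ((stkMap g z q).lTensor (StR g z) t) :=
  beta_natural' g z q t

end Natural

section Main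

variable {A : Type u} [CommRing A] {X : Scheme.{u}} [X.Over (Spec (CommRingCat.of A))] (I : Ideal A)

theorem germP_baseHom_smul (M : X.Modules) (a : A) (U : X.Opens) (x : X) (hx : x ∈ U) (m : Γ(M, U)) :
    germP (X := X.toLocallyRingedSpace) x M.val U hx ((Formal.smulMod A M a).app U m) =
      toStalk x a • germP (X := X.toLocallyRingedSpace) x M.val U hx m := by
  rw [smulMod_app]
  refine (germP_smul (X := X.toLocallyRingedSpace) M.val U hx _ m).trans ?_
  exact congrArg (· • germP (X := X.toLocallyRingedSpace) x M.val U hx m) (germ_baseHom U x hx a)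

theorem pow_stalkI_smul_eq_zero {M : X.Modules} {n : ℕ} (hM : Formal.KilledBy (I ^ n) M) (x : X)
    (r : X.presheaf.stalk x) (hr : r ∈ stalkI I x ^ n) (m : stalkPObj (X := X.toLocallyRingedSpace) x M.val) :
    r • m = 0 := by
  rw [stalkI, ← Ideal.map_pow] at hr
  induction hr using Submodule.span_induction generalizing m with
  | mem r hr =>
    obtain ⟨a, ha, rfl⟩ := hr
    obtain ⟨U, hU, s, rfl⟩ := exists_germP_eq M.val m
    rw [← germP_baseHom_smul M a U x hU s, hM a ha]
    exact germP_zero M.val U hU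
  | zero => exact zero_smul _ _
  | add a b _ _ ha hb => rw [add_smul, ha, hb, add_zero]
  | smul c a _ ha => rw [smul_eq_mul, mul_smul, ha, smul_zero]

variable [IsLocallyNoetherian X] {Xh : LocallyRingedSpace.{u}} {ι : Xh ⟶ X.toLocallyRingedSpace}
  (hc : HasCharts ι (cutY I))

include hc

/-- The unit is bijective on modules killed by a power of `I`. -/
theorem bijective_unit (G : X.Modules) (n : ℕ) (hG : Formal.KilledBy (I ^ n) G) (U : X.Opens) :
    Function.Bijective (((HensSch.pullPushAdj ι).unit.app G).val.app (op U)) := by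
  let G' : ModSite.Mod X.toLocallyRingedSpace.sheaf := G
  let N := (HensSch.pullMod ι).obj G'
  let η := (HensSch.pullPushAdj ι).unit.app G'
  have hk : ∀ z, Function.Bijective (gamma ι z G') := fun z =>
    bijective_gamma_of_killed I hc z G n fun r hr m => pow_stalkI_smul_eq_zero I hG _ r hr m
  refine bijective_app_of_local η (fun U a b hab => sec_eq_of_germP G' U a b fun x hx => ?_) (fun U s x hx => ?_) U
  · by_cases hxY : x ∈ cutY I
    · obtain ⟨z, rfl⟩ : x ∈ Set.range ι.base := hc.2.1.symm ▸ hxY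
      refine (hk z).1 ?_
      rw [gamma_germ, gamma_germ]
      exact congrArg (germP z N.val _ hx) hab
    · obtain ⟨a₀, ha₀, hu⟩ := exists_isUnit_toStalk I hxY
      have hz : ∀ m : stalkPObj (X := X.toLocallyRingedSpace) x G.val, m = 0 := fun m =>
        (hu.pow n).smul_eq_zero.1 (pow_stalkI_smul_eq_zero I hG x _
          (Ideal.pow_mem_pow (Ideal.mem_map_of_mem _ ha₀) n) m)
      exact (hz _).trans (hz _).symm
  · by_cases hxY : x ∈ cutY I
    · obtain ⟨z, rfl⟩ : x ∈ Set.range ι.base := hc.2.1.symm ▸ hxY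
      obtain ⟨m, hm⟩ := (hk z).2 (germP z N.val ((Opens.map ι.base).obj U) hx s)
      obtain ⟨W, hW, t, rfl⟩ := exists_germP_eq G'.val m
      rw [gamma_germ] at hm
      obtain ⟨V, hzV, iW, iU, hV⟩ := germP_eq_iff N.val hW hx _ _ hm
      obtain ⟨V', hV'o, hV'⟩ := hc.1.isInducing.isOpen_iff.1 V.2
      let W' : X.Opens := W ⊓ U ⊓ ⟨V', hV'o⟩
      have hzW' : ι.base z ∈ W' := ⟨⟨hW, hx⟩, hV'.ge hzV⟩
      have hle : (Opens.map ι.base).obj W' ≤ V := fun y hy => hV'.le hy.2
      refine ⟨W', inf_le_left.trans inf_le_right, hzW',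
        G'.val.map (homOfLE (inf_le_left.trans inf_le_left : W' ≤ W)).op t, ?_⟩
      let i₁ : W' ⟶ W := homOfLE (inf_le_left.trans inf_le_left)
      let i₂ : (Opens.map ι.base).obj W' ⟶ (Opens.map ι.base).obj W := (Opens.map ι.base).map i₁
      let i₃ : (Opens.map ι.base).obj W' ⟶ (Opens.map ι.base).obj U :=
        (Opens.map ι.base).map (homOfLE (inf_le_left.trans inf_le_right))
      let b : N.val.obj (op ((Opens.map ι.base).obj W)) := η.val.app (op W) t
      let s' : N.val.obj (op ((Opens.map ι.base).obj U)) := s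
      have h2 : N.val.map i₂.op b = N.val.map i₃.op s' :=
        (res2 N.val iW (homOfLE hle) i₂ b).symm.trans
          ((congrArg (N.val.map (homOfLE hle).op) hV).trans (res2 N.val iU (homOfLE hle) i₃ s'))
      exact (nat2 η.val i₁ t).trans h2
    · refine ⟨U ⊓ ⟨(cutY I)ᶜ, (isClosed_cutY I).isOpen_compl⟩, inf_le_left, ⟨hx, hxY⟩, 0, ?_⟩
      refine sec_eq_of_germP N ((Opens.map ι.base).obj _) _ _ fun y hy => ?_
      exact absurd (base_mem I hc y) hy.2

omit hc in
theorem exists_germP_affine {M : X.Modules} {x : X} (m : stalkPObj (X := X.toLocallyRingedSpace) x M.val) :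
    ∃ (W : X.Opens) (_ : IsAffineOpen W) (hx : x ∈ W) (s : Γ(M, W)),
      germP (X := X.toLocallyRingedSpace) x M.val W hx s = m := by
  obtain ⟨U, hU, s, rfl⟩ := exists_germP_eq M.val m
  obtain ⟨W, hW, hxW, hWU⟩ := Opens.isBasis_iff_nbhd.mp X.isBasis_affineOpens hU
  exact ⟨W, hW, hxW, M.val.map (homOfLE hWU).op s, germP_res M.val (homOfLE hWU) hxW s⟩

variable [IsNoetherianRing A]

omit hc in
theorem mem_pow_smul_of_stkMap_eq_zero {M : X.Modules} (hM : Coh.IsCoh M) (n : ℕ) (z : Xh)
    (m : GStk ι z M) (hm : stkMap ι z (Formal.modPowπ I n M) m = 0) :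
    m ∈ stalkI I (ι.base z) ^ n • (⊤ : Submodule (X.presheaf.stalk (ι.base z)) (GStk ι z M)) := by
  obtain ⟨U, hU, s, rfl⟩ := exists_germP_eq M.val m
  have h1 : germP (X := X.toLocallyRingedSpace) (ι.base z) (Formal.modPow I n M).val U hU
      ((Formal.modPowπ I n M).app U s) = germP _ (Formal.modPow I n M).val U hU 0 :=
    ((stalkP_map_germP (Formal.modPowπ I n M).val U hU s).symm.trans hm).trans (germP_zero _ U hU).symm
  obtain ⟨V, hV, iV, iV', he⟩ := germP_eq_iff _ hU hU _ _ h1
  obtain ⟨W, hW, hzW, hWV⟩ := Opens.isBasis_iff_nbhd.mp X.isBasis_affineOpens hV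
  let j : W ⟶ U := homOfLE hWV ≫ iV
  have h2 : (Formal.modPowπ I n M).app W (M.val.map j.op s) = 0 := by
    refine (nat2 (Z := X.toLocallyRingedSpace) (Formal.modPowπ I n M).val j s).trans ?_
    refine (res2 (Z := X.toLocallyRingedSpace) (Formal.modPow I n M).val iV (homOfLE hWV) j _).symm.trans ?_
    exact (congrArg ((Formal.modPow I n M).val.map (homOfLE hWV).op)
      (he.trans (map_zero _))).trans (map_zero _)
  rw [modPowπ_app_eq_zero_iff I hM n hW] at h2
  rw [← germP_res M.val j hzW s]
  refine Submodule.smul_induction_on h2 (fun r hr k _ => ?_) (fun a b ha hb => ?_)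
  · rw [show germP (ι.base z) M.val W hzW (r • k) = _ from germP_smul M.val W hzW r k]
    refine Submodule.smul_mem_smul ?_ trivial
    rw [← map_openIdeal I W (ι.base z) hzW, ← Ideal.map_pow]
    exact Ideal.mem_map_of_mem _ hr
  · rw [show germP (ι.base z) M.val W hzW (a + b) = _ from germP_add M.val W hzW a b]
    exact Submodule.add_mem _ ha hb

omit hc in
theorem finite_GStk {M : X.Modules} (hM : Coh.IsCoh M) (z : Xh) :
    Module.Finite (X.presheaf.stalk (ι.base z)) (GStk ι z M) := by
  classical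
  have := hM.1
  obtain ⟨V, hV, hxV, -⟩ := Opens.isBasis_iff_nbhd.mp X.isBasis_affineOpens (Opens.mem_top (ι.base z))
  obtain ⟨-, hfM⟩ := (isCoh_iff_finite_sections M).1 hM
  obtain ⟨S, hS⟩ := (hfM V hV).fg_top
  refine ⟨S.image fun s => (germP (ι.base z) M.val V hxV s : GStk ι z M), ?_⟩
  refine Submodule.eq_top_iff'.2 fun a => ?_
  obtain ⟨g, m, hg, hm⟩ := QCohLoc.exists_smul_stalk_eq_germ M hV hxV a
  have hu := (Scheme.mem_basicOpen _ _ _ hxV).1 hg
  rw [← Submodule.smul_mem_iff_of_isUnit _ hu]
  have key : ∀ n, n ∈ Submodule.span Γ(X, V) (S : Set Γ(M, V)) →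
      (germP (ι.base z) M.val V hxV n : GStk ι z M) ∈ Submodule.span
        (X.presheaf.stalk (ι.base z))
        ((S.image fun s => (germP (ι.base z) M.val V hxV s : GStk ι z M)) : Set _) := by
    intro n hn
    induction hn using Submodule.span_induction with
    | mem z' hz => exact Submodule.subset_span (Finset.mem_image_of_mem _ hz)
    | zero => rw [show germP (ι.base z) M.val V hxV (0 : Γ(M, V)) = 0 from germP_zero M.val V hxV]; exact Submodule.zero_mem _
    | add b c _ _ hb hc =>
      rw [show germP (ι.base z) M.val V hxV (b + c) = _ from germP_add M.val V hxV b c]; exact Submodule.add_mem _ hb hc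
    | smul r b _ hb =>
      rw [show germP (ι.base z) M.val V hxV (r • b) = _ from germP_smul M.val V hxV r b]; exact Submodule.smul_mem _ _ hb
  exact (show _ • a = _ from hm) ▸ key m (hS.ge trivial)

/-- Inverse images of coherent modules are separated. -/
theorem eq_zero_of_forall_map_eq_zero {M : X.Modules} (hM : Coh.IsCoh M) (V : Opens Xh.toTopCat)
    (e : ((HensSch.pullMod ι).obj M).val.obj (op V))
    (he : ∀ n, ((HensSch.pullMod ι).map (Formal.modPowπ I (n + 1) M)).val.app (op V) e = 0) : e = 0 := by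
  let M' : ModSite.Mod X.toLocallyRingedSpace.sheaf := M
  refine sec_eq_of_germP ((HensSch.pullMod ι).obj M') V e 0 fun z hz => ?_
  rw [germP_zero]
  let R := X.presheaf.stalk (ι.base z)
  haveI : Module.Flat R (StR ι z) := hc.flat_stalkMap z
  haveI : IsLocalRing (StR ι z) := inferInstanceAs (IsLocalRing (Xh.presheaf.stalk z))
  haveI : IsNoetherianRing (StR ι z) := isNoetherianRing_stalk' I hc z
  haveI : IsLocalHom (algebraMap R (StR ι z)) := ι.prop z
  haveI := finite_GStk hM z (ι := ι)
  let J : Ideal (StR ι z) := (stalkI I (ι.base z)).map (algebraMap R (StR ι z))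
  have hJ : J ≠ ⊤ := by
    refine ne_top_of_le_ne_top (IsLocalRing.maximalIdeal.isMaximal (StR ι z)).ne_top ?_
    refine (Ideal.map_mono (stalkI_le_maximal I (base_mem I hc z))).trans ?_
    rw [Ideal.map_le_iff_le_comap]
    intro a ha
    rw [Ideal.mem_comap, IsLocalRing.mem_maximalIdeal]
    exact fun hu => (IsLocalRing.mem_maximalIdeal a).1 ha (IsLocalHom.map_nonunit a hu)
  obtain ⟨t, ht⟩ := (bijective_beta ι z M').2 (germP z ((HensSch.pullMod ι).obj M').val V hz e)
  suffices ht0 : t = 0 by
    rw [← ht, ht0]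
    exact map_zero _
  have key : ∀ n, t ∈ J ^ n • (⊤ : Submodule (StR ι z) (StR ι z ⊗[R] GStk ι z M')) := by
    intro n
    rcases n with _ | n
    · rw [pow_zero, Ideal.one_eq_top, Submodule.top_smul]; trivial
    let q : M' ⟶ (Formal.modPow I (n + 1) M) := Formal.modPowπ I (n + 1) M
    have h0 : (stkMap ι z q).lTensor (StR ι z) t = 0 := by
      refine (bijective_beta ι z _).1 ?_
      rw [← beta_natural, ht, map_zero]
      refine (stalkP_map_germP ((HensSch.pullMod ι).map q).val V hz e).trans ?_
      exact (congrArg (germP z _ V hz) (he n)).trans (germP_zero _ V hz)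
    obtain ⟨w, rfl⟩ := (Module.Flat.lTensor_exact (StR ι z) (f := (LinearMap.ker (stkMap ι z q)).subtype)
      (g := stkMap ι z q) (LinearMap.exact_subtype_ker_map _) t).1 h0
    clear ht h0
    induction w using TensorProduct.induction_on with
    | zero => rw [map_zero]; exact Submodule.zero_mem _
    | add a b ha hb => rw [map_add]; exact Submodule.add_mem _ ha hb
    | tmul o k =>
      rw [LinearMap.lTensor_tmul]
      suffices hx : ∀ x ∈ stalkI I (ι.base z) ^ (n + 1) • (⊤ : Submodule R (GStk ι z M')),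
          o ⊗ₜ[R] x ∈ J ^ (n + 1) • (⊤ : Submodule (StR ι z) (StR ι z ⊗[R] GStk ι z M')) from
        hx k.1 (mem_pow_smul_of_stkMap_eq_zero I hM (n + 1) z k.1 k.2)
      intro x hx
      refine Submodule.smul_induction_on hx (fun a ha m _ => ?_) (fun a b ha hb => ?_)
      · rw [show o ⊗ₜ[R] (a • m) = algebraMap R (StR ι z) a • (o ⊗ₜ[R] m) by
          rw [algebraMap_smul, TensorProduct.tmul_smul]]
        refine Submodule.smul_mem_smul ?_ trivial
        rw [← Ideal.map_pow]
        exact Ideal.mem_map_of_mem _ ha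
      · rw [TensorProduct.tmul_add]; exact Submodule.add_mem _ ha hb
  have : t ∈ (⨅ n : ℕ, J ^ n • (⊤ : Submodule (StR ι z) (StR ι z ⊗[R] GStk ι z M'))) := Submodule.mem_iInf _ |>.2 key
  rwa [Ideal.iInf_pow_smul_eq_bot_of_isLocalRing _ hJ, Submodule.mem_bot] at this

end Main

end Groth.Agent.SphLib.FormalCompare
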