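import Groth.Agent.SphLib.ModPull
import Mathlib.LinearAlgebra.TensorProduct.Tower
import Mathlib.RingTheory.TensorProduct.Basic

/-!
# The stalk of an inverse image, explicitly

For `g : Z ⟶ X` and an `O_X`-module `G`, the map `O_z ⊗ G_{g z} → (g^* G)_z` induced by
`germ x ↦ germ (unit x)` is bijective.
-/

set_option autoImplicit false
set_option linter.all false
set_option backward.isDefEq.respectTransparency false
set_option backward.isDefEq.respectTransparency.types false
set_option backward.defeqAttrib.useBackward true

universe u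

open CategoryTheory CategoryTheory.Limits AlgebraicGeometry Opposite TopologicalSpace
open scoped TensorProduct

namespace Groth.Agent.SphLib.PullStalk

open ModSky

variable {Z X : LocallyRingedSpace.{u}} (g : Z ⟶ X) (z : Z)

/-- The local ring upstairs, as an algebra over the local ring downstairs. -/
def StR {Z X : LocallyRingedSpace.{u}} (_g : Z ⟶ X) (z : Z) : Type u := Z.presheaf.stalk z

noncomputable instance : CommRing (StR g z) := inferInstanceAs (CommRing (Z.presheaf.stalk z))

noncomputable instance : Algebra (X.presheaf.stalk (g.base z)) (StR g z) := RingHom.toAlgebra (g.stalkMap z).hom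

variable (G : ModSite.Mod X.sheaf)

/-- The stalk of the inverse image. -/
def NStk : Type u := (stalkM z).obj ((HensSch.pullMod g).obj G)

noncomputable instance : AddCommGroup (NStk g z G) :=
  inferInstanceAs (AddCommGroup ((stalkM z).obj ((HensSch.pullMod g).obj G)))

noncomputable instance : Module (StR g z) (NStk g z G) :=
  inferInstanceAs (Module (Z.presheaf.stalk z) ((stalkM z).obj ((HensSch.pullMod g).obj G)))

noncomputable instance : Module (X.presheaf.stalk (g.base z)) (NStk g z G) :=
  Module.compHom _ (algebraMap (X.presheaf.stalk (g.base z)) (StR g z))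

instance : IsScalarTower (X.presheaf.stalk (g.base z)) (StR g z) (NStk g z G) :=
  ⟨fun a r x => by
    show (a • r) • x = algebraMap (X.presheaf.stalk (g.base z)) (StR g z) a • (r • x)
    rw [Algebra.smul_def, mul_smul]⟩

/-- The stalk downstairs. -/
noncomputable abbrev GStk : ModuleCat.{u} (X.presheaf.stalk (g.base z)) := (stalkM (g.base z)).obj G

/-- The unit composed with restriction of scalars of the stalk upstairs. -/
noncomputable def gammaHom :
    GStk g z G ⟶ (ModuleCat.restrictScalars (g.stalkMap z).hom).obj ((stalkM z).obj ((HensSch.pullMod g).obj G)) :=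
  ((stalkAdj (g.base z)).homEquiv G _).symm ((HensSch.pullPushAdj g).unit.app G ≫
    (HensSch.pushMod g).map ((stalkAdj z).unit.app ((HensSch.pullMod g).obj G)) ≫ (skyPushIso g z).hom.app _)

theorem stalkAdj_symm_app {x : X} {F : ModSite.Mod X.sheaf} {P : ModuleCat.{u} (X.presheaf.stalk x)}
    (φ : F ⟶ (sky x).obj P) (U : Opens X.toTopCat) (hx : x ∈ U) (s : F.val.obj (op U)) :
    ((stalkAdj x).homEquiv F P).symm φ (germP x F.val U hx s) = sval (A := P) (U := U) (φ.val.app (op U) s) hx := by
  obtain ⟨f, rfl⟩ := ((stalkAdj x).homEquiv F P).surjective φ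
  rw [Equiv.symm_apply_apply, Adjunction.homEquiv_unit]
  rfl

/-- The canonical map on stalks. -/
noncomputable def gamma : GStk g z G →ₗ[X.presheaf.stalk (g.base z)] NStk g z G where
  toFun x := (gammaHom g z G).hom x
  map_add' := map_add (gammaHom g z G).hom
  map_smul' := map_smul (gammaHom g z G).hom

set_option maxHeartbeats 1600000 in
theorem gamma_germ (U : Opens X.toTopCat) (h : g.base z ∈ U) (x : G.val.obj (op U)) :
    gamma g z G (germP (g.base z) G.val U h x) =
      germP z ((HensSch.pullMod g).obj G).val ((Opens.map g.base).obj U) h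
        (((HensSch.pullPushAdj g).unit.app G).val.app (op U) x) :=
  (stalkAdj_symm_app _ U h x).trans rfl

/-- The comparison map. -/
noncomputable def beta : StR g z ⊗[X.presheaf.stalk (g.base z)] GStk g z G →ₗ[StR g z] NStk g z G :=
  (gamma g z G).liftBaseChange (StR g z)

theorem beta_tmul (o : StR g z) (x : GStk g z G) : beta g z G (o ⊗ₜ x) = o • gamma g z G x :=
  LinearMap.liftBaseChange_tmul _ _ _ _

/-- Maps out of the stalk of the inverse image. -/
noncomputable def homEquivStk (P : ModuleCat.{u} (Z.presheaf.stalk z)) :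
    ((stalkM z).obj ((HensSch.pullMod g).obj G) ⟶ P) ≃
      (GStk g z G ⟶ (ModuleCat.restrictScalars (g.stalkMap z).hom).obj P) :=
  (((stalkAdj z).homEquiv _ P).trans ((HensSch.pullPushAdj g).homEquiv G _)).trans
    ((Iso.homCongr (Iso.refl G) ((skyPushIso g z).app P)).trans ((stalkAdj (g.base z)).homEquiv G _).symm)

set_option maxHeartbeats 1600000 in
theorem homEquivStk_gamma {P : ModuleCat.{u} (Z.presheaf.stalk z)}
    (f : (stalkM z).obj ((HensSch.pullMod g).obj G) ⟶ P) (x : GStk g z G) :
    (homEquivStk g z G P f).hom x = f (gamma g z G x) := by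
  obtain ⟨U, hU, s, rfl⟩ := exists_germP_eq G.val x
  rw [gamma_germ]
  simp only [homEquivStk, Equiv.trans_apply]
  refine (stalkAdj_symm_app _ U hU s).trans ?_
  erw [Adjunction.homEquiv_unit, Adjunction.homEquiv_unit]
  rfl

theorem stalk_hom_ext {P : ModuleCat.{u} (Z.presheaf.stalk z)}
    {f f' : (stalkM z).obj ((HensSch.pullMod g).obj G) ⟶ P}
    (h : ∀ x, f (gamma g z G x) = f' (gamma g z G x)) : f = f' :=
  (homEquivStk g z G P).injective (ModuleCat.hom_ext (LinearMap.ext fun x =>
    (homEquivStk_gamma g z G f x).trans ((h x).trans (homEquivStk_gamma g z G f' x).symm)))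

theorem bijective_beta : Function.Bijective (beta g z G) := by
  let P : ModuleCat.{u} (Z.presheaf.stalk z) :=
    (ModuleCat.of (StR g z) (StR g z ⊗[X.presheaf.stalk (g.base z)] GStk g z G) : ModuleCat.{u} (StR g z))
  let u : GStk g z G →ₗ[X.presheaf.stalk (g.base z)] StR g z ⊗[X.presheaf.stalk (g.base z)] GStk g z G :=
    (TensorProduct.mk _ (StR g z) (GStk g z G)) 1
  let v : GStk g z G ⟶ (ModuleCat.restrictScalars (g.stalkMap z).hom).obj P :=
    ModuleCat.ofHom (X := GStk g z G) (Y := (ModuleCat.restrictScalars (g.stalkMap z).hom).obj P)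
      { toFun := fun x => u x
        map_add' := map_add u
        map_smul' := fun a x => (map_smul u a x).trans (algebraMap_smul (StR g z) a (u x)).symm }
  let f := (homEquivStk g z G P).symm v
  have hf : ∀ x, f (gamma g z G x) = u x := fun x => by
    rw [← homEquivStk_gamma g z G f x, Equiv.apply_symm_apply]
    rfl
  let fl : NStk g z G →ₗ[StR g z] StR g z ⊗[X.presheaf.stalk (g.base z)] GStk g z G := f.hom
  have h1 : fl.comp (beta g z G) = LinearMap.id := by
    refine TensorProduct.AlgebraTensorModule.ext fun r x => ?_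
    show fl (beta g z G (r ⊗ₜ x)) = r ⊗ₜ x
    rw [beta_tmul, map_smul, show fl (gamma g z G x) = u x from hf x, TensorProduct.mk_apply,
      TensorProduct.smul_tmul', smul_eq_mul, mul_one]
  have h2 : (beta g z G).comp fl = LinearMap.id := by
    have := stalk_hom_ext g z G (P := (stalkM z).obj ((HensSch.pullMod g).obj G))
      (f := (ModuleCat.ofHom (X := ((stalkM z).obj ((HensSch.pullMod g).obj G) : Type u))
        (Y := ((stalkM z).obj ((HensSch.pullMod g).obj G) : Type u))
        ((beta g z G).comp fl) : (stalkM z).obj ((HensSch.pullMod g).obj G) ⟶ (stalkM z).obj ((HensSch.pullMod g).obj G)))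
      (f' := 𝟙 _) (fun x => by
        show beta g z G (fl (gamma g z G x)) = gamma g z G x
        rw [show fl (gamma g z G x) = u x from hf x]
        exact (beta_tmul g z G 1 x).trans (one_smul _ _))
    exact congrArg ModuleCat.Hom.hom this
  exact ⟨Function.LeftInverse.injective (g := fl) fun x => LinearMap.congr_fun h1 x,
    fun y => ⟨fl y, LinearMap.congr_fun h2 y⟩⟩

end Groth.Agent.SphLib.PullStalk
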