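import Groth.Agent.CAlgMisc2.Nbhd
import Groth.Agent.HenselLib.HullFlat
import Groth.Agent.HenselLib.Perm
import Mathlib.RingTheory.Localization.Away.Basic
import Groth.Prelude.Def_Hens2

/-!
# Algebraic facts on henselizations of pairs along basic opens

`B` is a henselization of `(R, IR)` where `R` is an epimorphic `A`-algebra (a localization of `A`).
-/

set_option autoImplicit false
set_option linter.unusedSectionVars false

universe u

open TensorProduct

namespace Groth.Agent.SphSheaf

open HenselLib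

variable {A : Type u} [CommRing A] (I : Ideal A)

section

variable {R : Type u} [CommRing R] [Algebra A R] {B : Type u} [CommRing B] [Algebra R B] [Algebra A B]
  [IsScalarTower A R B] (hB : Hens2.IsPairHenselization R (I.map (algebraMap A R)) B)

include hB

theorem exists_algHom {D : Type u} [CommRing D] [Algebra A D] (J : Ideal D) [hJ : HenselianRing D J]
    (hI : I.map (algebraMap A D) ≤ J) (f : R →ₐ[A] D) : Nonempty (B →ₐ[A] D) := by
  obtain ⟨g, hg, -⟩ := hB.2 D J f.toRingHom hJ ((Ideal.map_map _ _).trans_le (le_of_eq_of_le (congrArg (Ideal.map · I)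
    (RingHom.ext f.commutes)) hI))
  refine ⟨AlgHom.mk g fun a => ?_⟩
  exact (congrArg g (IsScalarTower.algebraMap_apply A R B a)).trans
    ((RingHom.congr_fun hg _).trans (f.commutes a))

theorem algHom_unique {D : Type u} [CommRing D] [Algebra A D] (hR : Subsingleton (R →ₐ[A] D))
    (J : Ideal D) [hJ : HenselianRing D J]
    (hI : I.map (algebraMap A D) ≤ J) (g g' : B →ₐ[A] D) : g = g' := by
  have h : g.comp (IsScalarTower.toAlgHom A R B) = g'.comp (IsScalarTower.toAlgHom A R B) :=
    Subsingleton.elim _ _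
  obtain ⟨k, hk, huniq⟩ := hB.2 D J (g.comp (IsScalarTower.toAlgHom A R B)).toRingHom hJ
    ((Ideal.map_map _ _).trans_le (le_of_eq_of_le (congrArg (Ideal.map · I)
      (RingHom.ext (g.comp (IsScalarTower.toAlgHom A R B)).commutes)) hI))
  refine AlgHom.coe_ringHom_injective ((huniq g.toRingHom rfl).trans (huniq g'.toRingHom ?_).symm)
  exact congrArg AlgHom.toRingHom h.symm

theorem map_le_jacobson : I.map (algebraMap A B) ≤ Ideal.jacobson ⊥ := by
  have := hB.1.jac
  rwa [Ideal.map_map, ← IsScalarTower.algebraMap_eq] at this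

theorem flat [Module.Flat A R] : Module.Flat A B := by
  obtain ⟨e⟩ := IsPairHull.equiv_pairH (show IsPairHull R (I.map (algebraMap A R)) B from hB)
  have : Module.Flat R B := Module.Flat.of_linearEquiv e.symm.toLinearEquiv
  exact Module.Flat.trans A R B

theorem exists_rep [Algebra.Etale A R] (s : B) :
    ∃ (C : Type u) (_ : CommRing C) (_ : Algebra A C) (_ : Algebra.Etale A C) (_ : R →ₐ[A] C)
      (φ : C →ₐ[A] B) (t : C), φ t = s := by
  obtain ⟨e⟩ := IsPairHull.equiv_pairH (show IsPairHull R (I.map (algebraMap A R)) B from hB)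
  obtain ⟨P, x, hx⟩ := HenselLib.exists_rep (e.symm s)
  refine ⟨P.Ring, inferInstance, inferInstance, Algebra.Etale.comp A R P.Ring,
    IsScalarTower.toAlgHom A R P.Ring, (e.toAlgHom.comp (ι P)).restrictScalars A, x, ?_⟩
  show e (ι P x) = s
  rw [hx, e.apply_symm_apply]

/-- The kernel of a map to the reduction. -/
theorem ker_le {Q : Type u} [CommRing Q] [Algebra A Q] (π : B →ₐ[A] Q)
    (hR : Subsingleton (R →ₐ[A] B ⧸ I.map (algebraMap A B))) (f : Q →ₐ[A] B ⧸ I.map (algebraMap A B)) :
    RingHom.ker π ≤ I.map (algebraMap A B) := by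
  intro x hx
  have : HenselianRing (B ⧸ I.map (algebraMap A B)) ⊥ := HenselLib.henselianRing_bot
  have h : f.comp π = Ideal.Quotient.mkₐ A (I.map (algebraMap A B)) := by
    refine algHom_unique I hB hR ⊥ (le_of_eq ?_) _ _
    rw [IsScalarTower.algebraMap_eq A B (B ⧸ I.map (algebraMap A B)), ← Ideal.map_map]
    exact Ideal.map_quotient_self _
  rw [← Ideal.Quotient.eq_zero_iff_mem]
  have := AlgHom.congr_fun h x
  rw [AlgHom.comp_apply, RingHom.mem_ker.1 hx, map_zero] at this
  exact this.symm

theorem isUnit_of_eq_one {Q : Type u} [CommRing Q] [Algebra A Q] (π : B →ₐ[A] Q)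
    (hR : Subsingleton (R →ₐ[A] B ⧸ I.map (algebraMap A B))) (f : Q →ₐ[A] B ⧸ I.map (algebraMap A B))
    {x : B} (hx : π x = 1) : IsUnit x := by
  have h1 : x - 1 ∈ I.map (algebraMap A B) :=
    ker_le I hB π hR f (RingHom.mem_ker.2 (by rw [map_sub, hx, map_one, sub_self]))
  have h2 := Ideal.mem_jacobson_bot.1 (map_le_jacobson I hB h1) 1
  rwa [mul_one, sub_add_cancel] at h2

/-- An element of an etale algebra vanishing in the henselization is killed by an element which is `1`
in the reduction. -/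
theorem exists_annihilator [Module.Flat A R] {C : Type u} [CommRing C] [Algebra A C] [Algebra.Etale A C]
    (φ : C →ₐ[A] B) (d : C) (hd : φ d = 0) {Q : Type u} [CommRing Q] [Algebra A Q] (π : B →ₐ[A] Q)
    (hs : Function.Surjective (π.comp φ)) : ∃ c : C, c * d = 0 ∧ π (φ c) = 1 := by
  let : Algebra C B := φ.toRingHom.toAlgebra
  have : IsScalarTower A C B := .of_algebraMap_eq fun a => (φ.commutes a).symm
  have := flat I hB
  have : Module.Flat C B := HenselLib.flat_of_flat_of_etale (R := A)
  obtain ⟨k, a, y, hay, ha⟩ := Module.Flat.isTrivialRelation_of_sum_smul_eq_zero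
    (R := C) (M := B) (f := fun _ : Fin 1 => d) (x := fun _ => 1) (by
      simpa [Algebra.smul_def, RingHom.algebraMap_toAlgebra] using hd)
  choose b hb using fun j => hs (π (y j))
  refine ⟨∑ j, a 0 j * b j, ?_, ?_⟩
  · rw [Finset.sum_mul]
    refine Finset.sum_eq_zero fun j _ => ?_
    have h := ha j
    simp only [Fin.sum_univ_one, smul_eq_mul] at h
    rw [mul_right_comm, mul_comm _ d, h, zero_mul]
  · have h := congrArg π (hay 0)
    rw [map_one, map_sum] at h
    rw [map_sum, map_sum, h]
    refine Finset.sum_congr rfl fun j _ => ?_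
    rw [map_mul, map_mul, show π (φ (b j)) = π (y j) from hb j, Algebra.smul_def, map_mul]
    rfl

end

end Groth.Agent.SphSheaf

namespace Groth.Agent.SphSheaf

open HenselLib

variable {A : Type u} [CommRing A] (I : Ideal A) (g : A)

/-- The reduction of the basic open of `g`. -/
abbrev Qg : Type u := Localization.Away (Ideal.Quotient.mk I g)

theorem qg_map_bot : I.map (algebraMap A (Qg I g)) = ⊥ := by
  rw [IsScalarTower.algebraMap_eq A (A ⧸ I) (Qg I g), ← Ideal.map_map,
    show I.map (algebraMap A (A ⧸ I)) = ⊥ from Ideal.map_quotient_self I, Ideal.map_bot]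

theorem isUnit_qg : IsUnit (algebraMap A (Qg I g) g) := by
  rw [IsScalarTower.algebraMap_apply A (A ⧸ I) (Qg I g)]
  exact IsLocalization.Away.algebraMap_isUnit (Ideal.Quotient.mk I g)

theorem qg_surj (z : Qg I g) : ∃ (a : A) (n : ℕ), z * algebraMap A _ (g ^ n) = algebraMap A _ a := by
  obtain ⟨n, a, h⟩ := IsLocalization.Away.surj (Ideal.Quotient.mk I g) z
  obtain ⟨a, rfl⟩ := Ideal.Quotient.mk_surjective a
  exact ⟨a, n, by
    rw [map_pow, IsScalarTower.algebraMap_apply A (A ⧸ I) (Qg I g) g,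
      IsScalarTower.algebraMap_apply A (A ⧸ I) (Qg I g) a]
    exact h⟩

theorem qg_algHom {D : Type u} [CommRing D] [Algebra A D] (hI : I.map (algebraMap A D) = ⊥)
    (hg : IsUnit (algebraMap A D g)) : Nonempty (Qg I g →ₐ[A] D) := by
  let f : A ⧸ I →+* D := Ideal.Quotient.lift I (algebraMap A D) fun a ha =>
    Ideal.mem_bot.1 (hI ▸ Ideal.mem_map_of_mem (algebraMap A D) ha)
  refine ⟨AlgHom.mk (IsLocalization.Away.lift (Ideal.Quotient.mk I g) (g := f)
    (show IsUnit (f (Ideal.Quotient.mk I g)) from hg)) fun a => ?_⟩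
  rw [IsScalarTower.algebraMap_apply A (A ⧸ I) (Qg I g)]
  exact IsLocalization.Away.lift_eq _ _ _

theorem qg_hom_ext {D : Type u} [CommRing D] [Algebra A D] (f f' : Qg I g →ₐ[A] D) : f = f' := by
  refine AlgHom.ext fun z => ?_
  obtain ⟨a, n, h⟩ := qg_surj I g z
  have hu : IsUnit (algebraMap A D (g ^ n)) := by
    have := ((isUnit_qg I g).map f).pow n
    rwa [f.commutes, ← map_pow] at this
  refine hu.mul_left_injective ?_
  have h1 := congrArg f h
  have h2 := congrArg f' h
  rw [map_mul, f.commutes, f.commutes] at h1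
  rw [map_mul, f'.commutes, f'.commutes] at h2
  exact h1.trans h2.symm

/-- An algebra map to the reduction of a basic open is surjective if `g` is a unit at the source. -/
theorem surjective_to_qg {C : Type u} [CommRing C] [Algebra A C] (hg : IsUnit (algebraMap A C g))
    (ψ : C →ₐ[A] Qg I g) : Function.Surjective ψ := by
  intro z
  obtain ⟨a, n, h⟩ := qg_surj I g z
  obtain ⟨v, hv⟩ := (hg.pow n)
  refine ⟨algebraMap A C a * ↑v⁻¹, ?_⟩
  have hu : IsUnit (algebraMap A (Qg I g) (g ^ n)) := by
    rw [map_pow]; exact (isUnit_qg I g).pow n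
  refine hu.mul_left_injective ?_
  show ψ (algebraMap A C a * ↑v⁻¹) * algebraMap A (Qg I g) (g ^ n) = z * algebraMap A (Qg I g) (g ^ n)
  rw [h, ← ψ.commutes (g ^ n), map_pow (algebraMap A C), ← hv, ← map_mul, mul_assoc, Units.inv_mul,
    mul_one, ψ.commutes]

theorem qg_loc_hom (g : A) : Nonempty (Localization.Away g →ₐ[A] Qg I g) :=
  ⟨AlgHom.mk (IsLocalization.Away.lift g (g := algebraMap A (Qg I g)) (isUnit_qg I g))
    fun a => IsLocalization.Away.lift_eq _ _ a⟩

section

variable {B : Type u} [CommRing B] [Algebra (Localization.Away g) B] [Algebra A B]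
  [IsScalarTower A (Localization.Away g) B]
  (hB : Hens2.IsPairHenselization (Localization.Away g) (I.map (algebraMap A (Localization.Away g))) B)

include hB

theorem isUnit_away : IsUnit (algebraMap A B g) := by
  rw [IsScalarTower.algebraMap_apply A (Localization.Away g) B]
  exact (IsLocalization.Away.algebraMap_isUnit g).map _

theorem exists_red : Nonempty (B →ₐ[A] Qg I g) := by
  have : HenselianRing (Qg I g) ⊥ := HenselLib.henselianRing_bot
  obtain ⟨f⟩ := qg_loc_hom I g
  exact exists_algHom I hB ⊥ (qg_map_bot I g).le f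

theorem hom_to_qg_ext {h : A} (f f' : B →ₐ[A] Qg I h) : f = f' := by
  have : HenselianRing (Qg I h) ⊥ := HenselLib.henselianRing_bot
  exact algHom_unique I hB ⟨fun _ _ => IsLocalization.algHom_ext (Submonoid.powers g) (Algebra.ext_id _ _ _)⟩ ⊥
    (qg_map_bot I h).le f f'

theorem isUnit_of_red_eq_one (π : B →ₐ[A] Qg I g) {x : B} (hx : π x = 1) : IsUnit x := by
  obtain ⟨f⟩ := qg_algHom I g (D := B ⧸ I.map (algebraMap A B))
    (by rw [IsScalarTower.algebraMap_eq A B (B ⧸ I.map (algebraMap A B)), ← Ideal.map_map]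
        exact Ideal.map_quotient_self _)
    (by rw [IsScalarTower.algebraMap_apply A B (B ⧸ I.map (algebraMap A B))]
        exact (isUnit_away I g hB).map _)
  exact isUnit_of_eq_one I hB π ⟨fun _ _ => IsLocalization.algHom_ext (Submonoid.powers g) (Algebra.ext_id _ _ _)⟩ f hx

end

section

variable {H : Type u} [CommRing H] [Algebra A H] (hH : Hens2.IsPairHenselization A I H)

include hH

theorem hH' : Hens2.IsPairHenselization A (I.map (algebraMap A A)) H := by
  rwa [show I.map (algebraMap A A) = I from Ideal.map_id I]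

theorem exists_red_top : ∃ π : H →ₐ[A] A ⧸ I, Function.Surjective π ∧
    RingHom.ker π = I.map (algebraMap A H) := by
  have : HenselianRing (A ⧸ I) ⊥ := HenselLib.henselianRing_bot
  obtain ⟨π⟩ := exists_algHom I (hH' I hH) ⊥ (Ideal.map_quotient_self I).le (Algebra.ofId A (A ⧸ I))
  refine ⟨π, fun z => ?_, le_antisymm ?_ ?_⟩
  · obtain ⟨a, rfl⟩ := Ideal.Quotient.mk_surjective z
    exact ⟨algebraMap A H a, π.commutes a⟩
  · refine ker_le I (hH' I hH) π ⟨fun _ _ => Algebra.ext_id _ _ _⟩ (Ideal.Quotient.liftₐ I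
      (Algebra.ofId A (H ⧸ I.map (algebraMap A H))) fun a ha => ?_)
    exact Ideal.Quotient.eq_zero_iff_mem.2 (Ideal.mem_map_of_mem _ ha)
  · rw [Ideal.map_le_iff_le_comap]
    intro a ha
    rw [Ideal.mem_comap, RingHom.mem_ker, π.commutes]
    exact Ideal.Quotient.eq_zero_iff_mem.2 ha

theorem hom_top_ext {h : A} (f f' : H →ₐ[A] Qg I h) : f = f' := by
  have : HenselianRing (Qg I h) ⊥ := HenselLib.henselianRing_bot
  exact algHom_unique I (hH' I hH) ⟨fun _ _ => Algebra.ext_id _ _ _⟩ ⊥ (qg_map_bot I h).le f f'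

/-- Injectivity of the restriction to a covering. -/
theorem eq_zero_of_restrict {ι : Type u} (g : ι → A) (hcov : I ⊔ Ideal.span (Set.range g) = ⊤)
    (Hi : ι → Type u) [∀ i, CommRing (Hi i)] [∀ i, Algebra (Localization.Away (g i)) (Hi i)]
    [∀ i, Algebra A (Hi i)] [∀ i, IsScalarTower A (Localization.Away (g i)) (Hi i)]
    (hHi : ∀ i, Hens2.IsPairHenselization (Localization.Away (g i))
      (I.map (algebraMap A (Localization.Away (g i)))) (Hi i))
    (ρ : ∀ i, H →ₐ[A] Hi i) (x : H) (hx : ∀ i, ρ i x = 0) : x = 0 := by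
  classical
  obtain ⟨C, _, _, _, -, φ, t, rfl⟩ := exists_rep I (hH' I hH) x
  obtain ⟨π, hπ, hker⟩ := exists_red_top I hH
  have hs : Function.Surjective (π.comp φ) := fun z => by
    obtain ⟨a, rfl⟩ := Ideal.Quotient.mk_surjective z
    exact ⟨algebraMap A C a, (π.comp φ).commutes a⟩
  let K : Ideal C := LinearMap.ker (LinearMap.mulRight C t)
  let J : Ideal (A ⧸ I) := K.map (π.comp φ).toRingHom
  have hJ : J = ⊤ := by
    have hgen : Ideal.span (Set.range fun i => Ideal.Quotient.mk I (g i)) = ⊤ := by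
      rw [Set.range_comp' (Ideal.Quotient.mk I) g, ← Ideal.map_span]
      have := congrArg (Ideal.map (Ideal.Quotient.mk I)) hcov
      rwa [Ideal.map_sup, Ideal.map_quotient_self, bot_sup_eq, Ideal.map_top] at this
    by_contra hne
    obtain ⟨M, hM, hJM⟩ := Ideal.exists_le_maximal J hne
    have : ¬Ideal.span (Set.range fun i => Ideal.Quotient.mk I (g i)) ≤ M := fun h =>
      hM.ne_top (top_le_iff.1 (hgen ▸ h))
    simp only [Ideal.span_le, Set.range_subset_iff, SetLike.mem_coe, not_forall] at this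
    obtain ⟨i, hi⟩ := this
    let C' := Localization.Away (algebraMap A C (g i))
    have : Algebra.Etale C C' := Algebra.Etale.of_isLocalizationAway (algebraMap A C (g i))
    have : Algebra.Etale A C' := Algebra.Etale.comp A C C'
    have hu' : IsUnit (algebraMap A C' (g i)) := by
      rw [IsScalarTower.algebraMap_apply A C C']
      exact IsLocalization.Away.algebraMap_isUnit _
    let φ' : C' →ₐ[A] Hi i := AlgHom.mk (IsLocalization.Away.lift (algebraMap A C (g i))
      (g := ((ρ i).comp φ).toRingHom) (by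
        show IsUnit ((ρ i).comp φ (algebraMap A C (g i)))
        rw [AlgHom.commutes]; exact isUnit_away I (g i) (hHi i))) fun a => by
      rw [IsScalarTower.algebraMap_apply A C C']
      exact (IsLocalization.Away.lift_eq _ _ _).trans (((ρ i).comp φ).commutes a)
    obtain ⟨πi⟩ := exists_red I (g i) (hHi i)
    have hφ' : ∀ c, φ' (algebraMap C C' c) = ρ i (φ c) := fun c =>
      IsLocalization.Away.lift_eq (algebraMap A C (g i)) (g := ((ρ i).comp φ).toRingHom) (by
        show IsUnit ((ρ i).comp φ (algebraMap A C (g i)))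
        rw [AlgHom.commutes]; exact isUnit_away I (g i) (hHi i)) c
    obtain ⟨c, hc, hc1⟩ := exists_annihilator I (hHi i) φ' (algebraMap C C' t)
      (by rw [hφ', hx i]) πi (surjective_to_qg I (g i) hu' _)
    obtain ⟨n, c₀, hc₀⟩ := IsLocalization.Away.surj (algebraMap A C (g i)) c
    have h2 : algebraMap C C' (c₀ * t) = 0 := by
      rw [map_mul, ← hc₀, mul_right_comm, hc, zero_mul]
    obtain ⟨⟨-, m, rfl⟩, h3⟩ := (IsLocalization.map_eq_zero_iff (Submonoid.powers (algebraMap A C (g i))) C' _).1 h2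
    have h4 : π (φ ((algebraMap A C (g i)) ^ m * c₀)) ∈ J := Ideal.mem_map_of_mem (π.comp φ).toRingHom (by
      show (algebraMap A C (g i)) ^ m * c₀ * t = 0
      rw [mul_assoc]; exact h3)
    let res : A ⧸ I →ₐ[A] Qg I (g i) := IsScalarTower.toAlgHom A (A ⧸ I) _
    have h5 : res (π (φ c₀)) = πi (φ' c) * πi (φ' (algebraMap C C' (algebraMap A C (g i) ^ n))) := by
      rw [← map_mul πi, ← map_mul φ', map_pow (algebraMap C C'), hc₀, hφ']
      exact AlgHom.congr_fun (hom_top_ext I hH (res.comp π) (πi.comp (ρ i))) (φ c₀)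
    rw [hc1, one_mul, hφ', map_pow φ, φ.commutes, map_pow (ρ i), (ρ i).commutes, map_pow πi, πi.commutes,
      IsScalarTower.algebraMap_apply A (A ⧸ I) (Qg I (g i)), ← map_pow (algebraMap (A ⧸ I) (Qg I (g i)))] at h5
    obtain ⟨⟨-, k, rfl⟩, h6⟩ :=
      (IsLocalization.eq_iff_exists (Submonoid.powers (Ideal.Quotient.mk I (g i))) (Qg I (g i))).1 h5
    refine hi (hM.isPrime.mem_of_pow_mem (m + (k + n)) ?_)
    have h7 := J.mul_mem_left (Ideal.Quotient.mk I (g i) ^ k) h4
    rw [map_mul φ, map_mul π, map_pow φ, φ.commutes, map_pow π, π.commutes, mul_left_comm] at h7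
    rw [show Ideal.Quotient.mk I (g i) ^ k * π (φ c₀) = Ideal.Quotient.mk I (g i) ^ k * Ideal.Quotient.mk I (g i) ^ n
      from h6, ← pow_add, show algebraMap A (A ⧸ I) (g i) = Ideal.Quotient.mk I (g i) from rfl, ← pow_add] at h7
    exact hJM h7
  obtain ⟨c, hc, hc1⟩ := (Ideal.mem_map_iff_of_surjective _ hs).1
    (show (1 : A ⧸ I) ∈ J from hJ ▸ Submodule.mem_top)
  have hu : IsUnit (φ c) := isUnit_of_eq_one I (hH' I hH) π ⟨fun _ _ => Algebra.ext_id _ _ _⟩
    (Ideal.Quotient.liftₐ I (Algebra.ofId A (H ⧸ I.map (algebraMap A H))) fun a ha =>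
      Ideal.Quotient.eq_zero_iff_mem.2 (Ideal.mem_map_of_mem _ ha)) hc1
  refine hu.mul_right_eq_zero.1 ?_
  rw [← map_mul, show c * t = 0 from hc, map_zero]

end

end Groth.Agent.SphSheaf
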