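import Groth.Agent.S17606
import Groth.Agent.SphLib.Basic

/-!
# The sheaf condition for henselizations along basic opens, in terms of `IsHensAway`
-/

set_option autoImplicit false
set_option linter.unusedSectionVars false

universe u

namespace Groth.Agent.SphLib

variable {A : Type u} [CommRing A]

theorem isPairHenselization_of_isHensAway {I : Ideal A} {f : A} {B : Type u} [CommRing B] {φ : A →+* B}
    (h : HensSch.IsHensAway A I f B φ) (L : Type u) [CommRing L] [Algebra A L] [IsLocalization.Away f L]
    [Algebra L B] (hφ : (algebraMap L B).comp (algebraMap A L) = φ) :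
    Hens2.IsPairHenselization L (I.map (algebraMap A L)) B := by
  obtain ⟨hu, hH, huniv⟩ := h
  refine ⟨by rwa [Ideal.map_map, hφ], fun C _ J g hC hg => ?_⟩
  obtain ⟨k, hk, hkuniq⟩ := huniv C J (g.comp (algebraMap A L)) hC (by rwa [← Ideal.map_map])
    ((IsLocalization.Away.algebraMap_isUnit (S := L) f).map g)
  refine ⟨k, IsLocalization.ringHom_ext (Submonoid.powers f) ?_, fun k' hk' => hkuniq k' ?_⟩
  · rw [RingHom.comp_assoc, hφ, hk]
  · show k'.comp φ = g.comp (algebraMap A L)
    rw [← hk', RingHom.comp_assoc, hφ]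

theorem sheaf_condition (I : Ideal A) (f : A) {ι : Type u} (g : ι → A)
    (hcov : ∀ p : Ideal A, p.IsPrime → I ≤ p → f ∉ p → ∃ a, g a ∉ p)
    {B : Type u} [CommRing B] {φ : A →+* B} (h : HensSch.IsHensAway A I f B φ)
    {Bi : ι → Type u} [∀ a, CommRing (Bi a)] {φi : ∀ a, A →+* Bi a}
    (hi : ∀ a, HensSch.IsHensAway A I (f * g a) (Bi a) (φi a))
    {Bij : ι → ι → Type u} [∀ a b, CommRing (Bij a b)] {φij : ∀ a b, A →+* Bij a b}
    (hij : ∀ a b, HensSch.IsHensAway A I (f * (g a * g b)) (Bij a b) (φij a b))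
    (ρ : ∀ a, B →+* Bi a) (hρ : ∀ a, (ρ a).comp φ = φi a)
    (σ : ∀ a b, Bi a →+* Bij a b) (hσ : ∀ a b, (σ a b).comp (φi a) = φij a b)
    (τ : ∀ a b, Bi b →+* Bij a b) (hτ : ∀ a b, (τ a b).comp (φi b) = φij a b) :
    (∀ x y : B, (∀ a, ρ a x = ρ a y) → x = y) ∧
    ∀ s : ∀ a, Bi a, (∀ a b, σ a b (s a) = τ a b (s b)) → ∃ x : B, ∀ a, ρ a x = s a := by
  let L := Localization.Away f
  let l : L →+* B := IsLocalization.Away.lift f h.1
  have hl : l.comp (algebraMap A L) = φ := RingHom.ext fun a => IsLocalization.Away.lift_eq f h.1 a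
  let : Algebra L B := l.toAlgebra
  let g' : ι → L := fun a => algebraMap A L (g a)
  let La : ι → Type u := fun a => Localization.Away (g' a)
  let Lab : ι → ι → Type u := fun a b => Localization.Away (g' a * g' b)
  have hAa : ∀ a, IsLocalization.Away (f * g a) (La a) := fun a =>
    IsLocalization.Away.mul' L (Localization.Away (g' a)) f (g a)
  have hAab : ∀ a b, IsLocalization.Away (f * (g a * g b)) (Lab a b) := fun a b => by
    have : IsLocalization.Away (algebraMap A L (g a * g b)) (Lab a b) := by
      rw [map_mul]; exact inferInstanceAs (IsLocalization.Away (g' a * g' b) (Localization.Away (g' a * g' b)))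
    exact IsLocalization.Away.mul' L (Lab a b) f (g a * g b)
  let la : ∀ a, Localization.Away (g' a) →+* Bi a := fun a => IsLocalization.Away.lift (f * g a) (S := La a) (hi a).1
  let lab : ∀ a b, Localization.Away (g' a * g' b) →+* Bij a b := fun a b =>
    IsLocalization.Away.lift (f * (g a * g b)) (S := Lab a b) (hij a b).1
  have hla : ∀ a, (la a).comp (algebraMap A (La a)) = φi a := fun a =>
    RingHom.ext fun x => IsLocalization.Away.lift_eq (f * g a) (hi a).1 x
  have hlab : ∀ a b, (lab a b).comp (algebraMap A (Lab a b)) = φij a b := fun a b =>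
    RingHom.ext fun x => IsLocalization.Away.lift_eq (f * (g a * g b)) (hij a b).1 x
  let (a : ι) : Algebra (Localization.Away (g' a)) (Bi a) := (la a).toAlgebra
  let (a b : ι) : Algebra (Localization.Away (g' a * g' b)) (Bij a b) := (lab a b).toAlgebra
  let (a : ι) : Algebra L (Bi a) := ((la a).comp (algebraMap L (Localization.Away (g' a)))).toAlgebra
  let (a b : ι) : Algebra L (Bij a b) :=
    ((lab a b).comp (algebraMap L (Localization.Away (g' a * g' b)))).toAlgebra
  have (a : ι) : IsScalarTower L (Localization.Away (g' a)) (Bi a) :=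
    IsScalarTower.of_algebraMap_eq (R := L) (S := Localization.Away (g' a)) (A := Bi a) fun _ => rfl
  have (a b : ι) : IsScalarTower L (Localization.Away (g' a * g' b)) (Bij a b) :=
    IsScalarTower.of_algebraMap_eq (R := L) (S := Localization.Away (g' a * g' b)) (A := Bij a b) fun _ => rfl
  have hAi : ∀ a, (algebraMap L (Bi a)).comp (algebraMap A L) = φi a := fun a => by
    rw [← hla a]
    show ((la a).comp (algebraMap L _)).comp _ = _
    rw [RingHom.comp_assoc, ← IsScalarTower.algebraMap_eq]
  have hAij : ∀ a b, (algebraMap L (Bij a b)).comp (algebraMap A L) = φij a b := fun a b => by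
    rw [← hlab a b]
    show ((lab a b).comp (algebraMap L _)).comp _ = _
    rw [RingHom.comp_assoc, ← IsScalarTower.algebraMap_eq]
  have hcov' : I.map (algebraMap A L) ⊔ Ideal.span (Set.range g') = ⊤ := by
    by_contra hne
    obtain ⟨M, hM, hle⟩ := Ideal.exists_le_maximal _ hne
    have := hM.isPrime
    obtain ⟨a, ha⟩ := hcov (M.comap (algebraMap A L)) inferInstance
      (Ideal.map_le_iff_le_comap.1 (le_sup_left.trans hle))
      (fun hf => hM.ne_top (Ideal.eq_top_of_isUnit_mem _ hf (IsLocalization.Away.algebraMap_isUnit f)))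
    exact ha (hle (Ideal.mem_sup_right (Ideal.subset_span ⟨a, rfl⟩)))
  have comm : ∀ {C C' : Type u} [CommRing C] [CommRing C'] [Algebra L C] [Algebra L C'] (u : C →+* C'),
      (u.comp (algebraMap L C)).comp (algebraMap A L) = (algebraMap L C').comp (algebraMap A L) →
        ∀ x, u (algebraMap L C x) = algebraMap L C' x := fun u h x =>
    RingHom.congr_fun (IsLocalization.ringHom_ext (Submonoid.powers f) h) x
  let ρ' : ∀ a, B →ₐ[L] Bi a := fun a => AlgHom.mk (ρ a) (comm _ (by
    rw [RingHom.comp_assoc, hAi a, show (algebraMap L B).comp (algebraMap A L) = φ from hl, hρ a]))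
  let σ' : ∀ a b, Bi a →ₐ[L] Bij a b := fun a b => AlgHom.mk (σ a b) (comm _ (by
    rw [RingHom.comp_assoc, hAi a, hAij a b, hσ a b]))
  let τ' : ∀ a b, Bi b →ₐ[L] Bij a b := fun a b => AlgHom.mk (τ a b) (comm _ (by
    rw [RingHom.comp_assoc, hAi b, hAij a b, hτ a b]))
  have hmap : ∀ (L' : Type u) [CommRing L'] [Algebra A L'] [Algebra L L'] [IsScalarTower A L L'],
      (I.map (algebraMap A L)).map (algebraMap L L') = I.map (algebraMap A L') := fun L' _ _ _ _ => by
    rw [Ideal.map_map, ← IsScalarTower.algebraMap_eq]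
  exact S17606.result L (I.map (algebraMap A L)) ι g' hcov' B
    (isPairHenselization_of_isHensAway h L hl) Bi
    (fun a => by rw [hmap]; exact isPairHenselization_of_isHensAway (hi a) (La a) (hla a)) Bij
    (fun a b => by rw [hmap]; exact isPairHenselization_of_isHensAway (hij a b) (Lab a b) (hlab a b)) ρ' σ' τ'

end Groth.Agent.SphLib
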