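import Groth.Agent.SphLib.TildeTop
import Groth.Agent.SphLib.Basic
import Mathlib.RingTheory.TensorProduct.Finite

/-!
# Henselization along basic opens commutes with finite base change
-/

set_option autoImplicit false
set_option linter.all false
set_option backward.isDefEq.respectTransparency false
set_option backward.isDefEq.respectTransparency.types false
set_option backward.defeqAttrib.useBackward true

universe u

open CategoryTheory CategoryTheory.Limits AlgebraicGeometry Opposite TopologicalSpace
open scoped TensorProduct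

namespace Groth.Agent.SphLib

section Ring

variable {A : Type u} [CommRing A] (B : Type u) [CommRing B] [Algebra A B] [Algebra.IsIntegral A B]

theorem isHensAway_baseChange {I : Ideal A} {f : A} {S : Type u} [CommRing S] [Algebra A S]
    (h : HensSch.IsHensAway A I f S (algebraMap A S)) :
    HensSch.IsHensAway B (I.map (algebraMap A B)) (algebraMap A B f) (B ⊗[A] S)
      (algebraMap B (B ⊗[A] S)) := by
  obtain ⟨hu, hH, huniv⟩ := h
  refine ⟨?_, ?_, fun C _ J g hJ hgI hgu => ?_⟩
  · rw [← IsScalarTower.algebraMap_apply A B (B ⊗[A] S)]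
    have := hu.map (Algebra.TensorProduct.includeRight : S →ₐ[A] B ⊗[A] S)
    rwa [AlgHom.commutes] at this
  · let : Algebra S (B ⊗[A] S) := Algebra.TensorProduct.rightAlgebra
    have : Algebra.IsIntegral S (S ⊗[A] B) := inferInstance
    let e : S ⊗[A] B ≃+* B ⊗[A] S := (Algebra.TensorProduct.comm A S B).toRingEquiv
    have : HenselianRing (S ⊗[A] B) ((I.map (algebraMap A S)).map (algebraMap S (S ⊗[A] B))) :=
      HenselLib.henselianRing_of_isIntegral (I.map (algebraMap A S)) (S ⊗[A] B)
    refine henselianRing_congr e (J := (I.map (algebraMap A S)).map (algebraMap S (S ⊗[A] B))) fun b => ?_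
    rw [Ideal.map_map, ← IsScalarTower.algebraMap_eq, Ideal.map_map, ← IsScalarTower.algebraMap_eq,
      ← Ideal.mem_comap]
    have hmap : (I.map (algebraMap A (S ⊗[A] B))).map e.toRingHom = I.map (algebraMap A (B ⊗[A] S)) := by
      rw [Ideal.map_map]
      exact congrArg (Ideal.map · I) (RingHom.ext fun a => (Algebra.TensorProduct.comm A S B).commutes a)
    rw [← hmap]
    exact Iff.of_eq (congrArg (b ∈ ·) (Ideal.comap_map_of_bijective e.toRingHom e.bijective))
  · obtain ⟨k, hk, hkuniq⟩ := huniv C J (g.comp (algebraMap A B)) hJ (by rwa [← Ideal.map_map]) hgu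
    let : Algebra A C := (g.comp (algebraMap A B)).toAlgebra
    let g' : B →ₐ[A] C := AlgHom.mk g fun _ => rfl
    let k' : S →ₐ[A] C := AlgHom.mk k fun a => RingHom.congr_fun hk a
    let G : B ⊗[A] S →ₐ[A] C := Algebra.TensorProduct.lift g' k' fun _ _ => Commute.all _ _
    refine ⟨G.toRingHom, RingHom.ext fun b => ?_, fun G' hG' => ?_⟩
    · show G (b ⊗ₜ 1) = g b
      simp [G, g']
    · have h1 : G'.comp (Algebra.TensorProduct.includeRight : S →ₐ[A] B ⊗[A] S).toRingHom = k :=
        hkuniq _ (RingHom.ext fun a => by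
          show G' (Algebra.TensorProduct.includeRight (algebraMap A S a)) = g (algebraMap A B a)
          rw [AlgHom.commutes, IsScalarTower.algebraMap_apply A B (B ⊗[A] S)]
          exact RingHom.congr_fun hG' _)
      refine RingHom.ext fun x => ?_
      induction x using TensorProduct.induction_on with
      | zero => rw [map_zero, map_zero]
      | tmul b r =>
        rw [show b ⊗ₜ[A] r = algebraMap B (B ⊗[A] S) b * ((1 : B) ⊗ₜ r) by
          simp, map_mul, map_mul, show G' (algebraMap B (B ⊗[A] S) b) = g b from RingHom.congr_fun hG' b,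
          show G' ((1 : B) ⊗ₜ r) = k r from RingHom.congr_fun h1 r]
        simp [G, g', k']
      | add x y hx hy => rw [map_add, map_add, hx, hy]

end Ring

namespace SphT

variable {A B : Type u} [CommRing A] [CommRing B] [Algebra A B] [Algebra.IsIntegral A B] {I : Ideal A}
  {X Y : LocallyRingedSpace.{u}} {πA : X ⟶ HensSch.specLRS A} {πB : Y ⟶ HensSch.specLRS B} {φ : Y ⟶ X}

variable (A B) in
/-- The preimage of an open of `Spec A` in `Spec B`. -/
noncomputable abbrev comapO (U : Opens (PrimeSpectrum A)) : Opens (PrimeSpectrum B) :=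
  (Opens.map (Spec.map (CommRingCat.ofHom (algebraMap A B))).toLRSHom.base).obj U

variable (hφ : φ ≫ πA = πB ≫ (Spec.map (CommRingCat.ofHom (algebraMap A B))).toLRSHom)

include hφ

theorem pre_comapO (U : Opens (PrimeSpectrum A)) :
    (Opens.map φ.base).obj (pre πA U) = pre πB (comapO A B U) :=
  congrArg (fun k : Y ⟶ HensSch.specLRS A => (Opens.map k.base).obj U) hφ

/-- Functions pulled back along `φ`. -/
noncomputable def pullF (U : Opens (PrimeSpectrum A)) : Sec πA U →+* Sec πB (comapO A B U) :=
  (φ.c.app (op (pre πA U)) ≫ Y.presheaf.map (eqToHom (pre_comapO hφ U).symm).op).hom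

theorem pullF_algebraMap (U : Opens (PrimeSpectrum A)) (a : A) :
    pullF hφ U (algebraMap A (Sec πA U) a) = algebraMap B (Sec πB (comapO A B U)) (algebraMap A B a) := by
  let g := (Spec.map (CommRingCat.ofHom (algebraMap A B))).toLRSHom
  have key : ∀ (p : Y ⟶ HensSch.specLRS A), p = πB ≫ g → ∀ (e : pre πB (comapO A B U) = (Opens.map p.base).obj U),
      Y.presheaf.map (eqToHom e).op (HensSch.secMap p U a) = HensSch.secMap πB (comapO A B U) (algebraMap A B a) := by
    rintro p rfl e
    rw [show (eqToHom e).op = 𝟙 _ from rfl, Y.presheaf.map_id]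
    show Y.presheaf.map _ (πB.c.app (op ⊤) (g.c.app (op ⊤) ((Scheme.ΓSpecIso (CommRingCat.of A)).inv a))) = _
    rw [show g.c.app (op ⊤) ((Scheme.ΓSpecIso (CommRingCat.of A)).inv a) =
      (Scheme.ΓSpecIso (CommRingCat.of B)).inv (algebraMap A B a) from
        (ConcreteCategory.congr_hom (Scheme.ΓSpecIso_inv_naturality (CommRingCat.ofHom (algebraMap A B))) a).symm]
    rfl
  refine Eq.trans ?_ (key (φ ≫ πA) hφ (pre_comapO hφ U).symm)
  show Y.presheaf.map _ (φ.c.app (op (pre πA U)) (X.presheaf.map ((Opens.map πA.base).map (homOfLE le_top)).op _)) = _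
  refine congrArg _ ?_
  exact ConcreteCategory.congr_hom (φ.c.naturality ((Opens.map πA.base).map (homOfLE (le_top : U ≤ ⊤))).op) _

/-- The base change map of functions. -/
noncomputable def bcF (U : Opens (PrimeSpectrum A)) : B ⊗[A] Sec πA U →ₐ[B] Sec πB (comapO A B U) :=
  let _ : Algebra A (Sec πB (comapO A B U)) :=
    ((algebraMap B (Sec πB (comapO A B U))).comp (algebraMap A B)).toAlgebra
  haveI : IsScalarTower A B (Sec πB (comapO A B U)) := .of_algebraMap_eq fun _ => rfl
  Algebra.TensorProduct.lift (Algebra.ofId B _) (AlgHom.mk (pullF hφ U) (pullF_algebraMap hφ U))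
    fun _ _ => Commute.all _ _

theorem bcF_tmul (U : Opens (PrimeSpectrum A)) (r : Sec πA U) :
    bcF hφ U ((1 : B) ⊗ₜ r) = pullF hφ U r := by
  simp [bcF]

theorem bijective_bcF (hX : HensSch.IsSph A I X πA) (hY : HensSch.IsSph B (I.map (algebraMap A B)) Y πB) (f : A) :
    Function.Bijective (bcF hφ (PrimeSpectrum.basicOpen f)) := by
  have h0 : HensSch.IsHensAway A I f (Sec πA (PrimeSpectrum.basicOpen f))
      (algebraMap A (Sec πA (PrimeSpectrum.basicOpen f))) := hX.2.2 f
  have h1 := isHensAway_baseChange B h0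
  have h2 : HensSch.IsHensAway B (I.map (algebraMap A B)) (algebraMap A B f)
      (Sec πB (comapO A B (PrimeSpectrum.basicOpen f))) (algebraMap B _) := by
    have key : ∀ U : Opens (PrimeSpectrum B), U = PrimeSpectrum.basicOpen (algebraMap A B f) →
        HensSch.IsHensAway B (I.map (algebraMap A B)) (algebraMap A B f) (Sec πB U) (algebraMap B _) := by
      rintro U rfl; exact hY.2.2 _
    exact key _ (TopologicalSpace.Opens.ext rfl)
  obtain ⟨k, hk, -⟩ := h2.2.2 _ _ (algebraMap B (B ⊗[A] Sec πA (PrimeSpectrum.basicOpen f))) h1.2.1 le_rfl h1.1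
  let F := (bcF hφ (PrimeSpectrum.basicOpen f)).toRingHom
  have hF : F.comp (algebraMap B _) = algebraMap B _ := RingHom.ext (bcF hφ (PrimeSpectrum.basicOpen f)).commutes
  have e1 : F.comp k = RingHom.id _ := (h2.2.2 _ _ _ h2.2.1 le_rfl h2.1).unique
    (by rw [RingHom.comp_assoc, hk, hF]) (RingHom.id_comp _)
  have e2 : k.comp F = RingHom.id _ := (h1.2.2 _ _ _ h1.2.1 le_rfl h1.1).unique
    (by rw [RingHom.comp_assoc, hF, hk]) (RingHom.id_comp _)
  exact Function.bijective_iff_has_inverse.2 ⟨k, RingHom.congr_fun e2, RingHom.congr_fun e1⟩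

end SphT

end Groth.Agent.SphLib
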