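import Groth.Agent.SphLib.ModPull
import Groth.Agent.SphLib.Charts
import Mathlib.LinearAlgebra.TensorProduct.Tower
import Mathlib.RingTheory.TensorProduct.Basic
import Mathlib.LinearAlgebra.TensorProduct.RightExactness

/-!
# Stalks and sections of `M~` on an affine henselian spectrum

Only a morphism `π : X ⟶ Spec A` of locally ringed spaces is used: the stalk of the inverse image of `M~`
at `z` is `O_z ⊗_A M`.
-/

set_option autoImplicit false
set_option linter.all false
set_option backward.isDefEq.respectTransparency false
set_option backward.isDefEq.respectTransparency.types false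
set_option backward.defeqAttrib.useBackward true

universe u

open CategoryTheory CategoryTheory.Limits AlgebraicGeometry Opposite TopologicalSpace
open scoped TensorProduct

namespace Groth.Agent.SphLib.SphT

open ModSky

variable {A : Type u} [CommRing A] {X : LocallyRingedSpace.{u}} (π : X ⟶ HensSch.specLRS A)

/-- The preimage of an open. -/
noncomputable abbrev pre (U : Opens (PrimeSpectrum A)) : Opens X := (Opens.map π.base).obj U

/-- Sections of the structure sheaf, as an `A`-algebra. -/
def Sec (U : Opens (PrimeSpectrum A)) : Type u := X.presheaf.obj (op (pre π U))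

noncomputable instance (U : Opens (PrimeSpectrum A)) : CommRing (Sec π U) :=
  inferInstanceAs (CommRing (X.presheaf.obj (op (pre π U))))

noncomputable instance (U : Opens (PrimeSpectrum A)) : Algebra A (Sec π U) :=
  RingHom.toAlgebra (HensSch.secMap π U)

/-- The local ring at a point, as an `A`-algebra. -/
def St {A : Type u} [CommRing A] {X : LocallyRingedSpace.{u}} (_π : X ⟶ HensSch.specLRS A) (z : X) : Type u :=
  X.presheaf.stalk z

noncomputable instance (z : X) : CommRing (St π z) := inferInstanceAs (CommRing (X.presheaf.stalk z))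

noncomputable instance (z : X) : Algebra A (St π z) :=
  RingHom.toAlgebra ((X.presheaf.germ (pre π ⊤) z trivial).hom.comp (HensSch.secMap π ⊤))

theorem secMap_res {U V : Opens (PrimeSpectrum A)} (h : V ≤ U) (a : A) :
    X.presheaf.map ((Opens.map π.base).map (homOfLE h)).op (HensSch.secMap π U a) = HensSch.secMap π V a := by
  show (X.presheaf.map ((Opens.map π.base).map (homOfLE le_top)).op ≫
    X.presheaf.map ((Opens.map π.base).map (homOfLE h)).op) _ = _
  rw [← Functor.map_comp, ← op_comp, ← Functor.map_comp]
  rfl

/-- Restriction of functions. -/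
noncomputable def resR {U V : Opens (PrimeSpectrum A)} (h : V ≤ U) : Sec π U →ₐ[A] Sec π V :=
  { (X.presheaf.map ((Opens.map π.base).map (homOfLE h)).op).hom with commutes' := secMap_res π h }

/-- Germs of functions. -/
noncomputable def germR (U : Opens (PrimeSpectrum A)) (z : X) (hz : π.base z ∈ U) : Sec π U →ₐ[A] St π z :=
  { (X.presheaf.germ (pre π U) z hz).hom with
    commutes' := fun a => by
      show X.presheaf.germ (pre π U) z hz (HensSch.secMap π U a) =
        X.presheaf.germ (pre π ⊤) z trivial (HensSch.secMap π ⊤ a)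
      rw [← secMap_res π (le_top : U ≤ ⊤) a]
      exact X.presheaf.germ_res_apply _ z hz _ }

theorem germR_resR {U V : Opens (PrimeSpectrum A)} (h : V ≤ U) (z : X) (hz : π.base z ∈ V) (x : Sec π U) :
    germR π V z hz (resR π h x) = germR π U z (h hz) x :=
  X.presheaf.germ_res_apply _ z hz _

theorem resR_resR {U V W : Opens (PrimeSpectrum A)} (h : V ≤ U) (h' : W ≤ V) (x : Sec π U) :
    resR π h' (resR π h x) = resR π (h'.trans h) x := by
  show (X.presheaf.map _ ≫ X.presheaf.map _) x = _
  rw [← Functor.map_comp, ← op_comp, ← Functor.map_comp]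
  rfl

variable (M : ModuleCat.{u} A)

/-- The module on the spectrum. -/
noncomputable abbrev N : ModSite.Mod X.sheaf := HensSch.sphTilde π M

/-- Sections of the module. -/
def NSec (U : Opens (PrimeSpectrum A)) : Type u := (N π M).val.obj (op (pre π U))

noncomputable instance (U : Opens (PrimeSpectrum A)) : AddCommGroup (NSec π M U) :=
  inferInstanceAs (AddCommGroup ((N π M).val.obj (op (pre π U))))

noncomputable instance modSec (U : Opens (PrimeSpectrum A)) : Module (Sec π U) (NSec π M U) :=
  inferInstanceAs (Module ((ModSite.ringSh X.sheaf).obj.obj (op (pre π U))) ((N π M).val.obj (op (pre π U))))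

noncomputable instance (U : Opens (PrimeSpectrum A)) : Module A (NSec π M U) :=
  Module.compHom _ (algebraMap A (Sec π U))

instance (U : Opens (PrimeSpectrum A)) : IsScalarTower A (Sec π U) (NSec π M U) :=
  ⟨fun a r x => by
    show (a • r) • x = algebraMap A (Sec π U) a • (r • x)
    rw [Algebra.smul_def, mul_smul]⟩

/-- The stalk of the module. -/
def NSt (z : X) : Type u := (stalkM z).obj (N π M)

noncomputable instance (z : X) : AddCommGroup (NSt π M z) :=
  inferInstanceAs (AddCommGroup ((stalkM z).obj (N π M)))

noncomputable instance modSt (z : X) : Module (St π z) (NSt π M z) :=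
  inferInstanceAs (Module (X.presheaf.stalk z) ((stalkM z).obj (N π M)))

noncomputable instance (z : X) : Module A (NSt π M z) :=
  Module.compHom _ (algebraMap A (St π z))

instance (z : X) : IsScalarTower A (St π z) (NSt π M z) :=
  ⟨fun a r x => by
    show (a • r) • x = algebraMap A (St π z) a • (r • x)
    rw [Algebra.smul_def, mul_smul]⟩

/-- The canonical global section attached to an element. -/
noncomputable def eta (m : M) : NSec π M ⊤ :=
  (((HensSch.pullPushAdj π).unit.app (tilde M)).val.app (op ⊤)).hom
    (((tilde.adjunction (R := CommRingCat.of A)).unit.app M).hom m)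

theorem eta_add (m m' : M) : eta π M (m + m') = eta π M m + eta π M m' :=
  (congrArg (((HensSch.pullPushAdj π).unit.app (tilde M)).val.app (op ⊤)).hom
    (map_add (((tilde.adjunction (R := CommRingCat.of A)).unit.app M).hom) m m')).trans
    (map_add (((HensSch.pullPushAdj π).unit.app (tilde M)).val.app (op ⊤)).hom _ _)

theorem eta_smul (a : A) (m : M) : eta π M (a • m) = a • eta π M m := by
  refine (congrArg (((HensSch.pullPushAdj π).unit.app (tilde M)).val.app (op ⊤)).hom
    (map_smul (((tilde.adjunction (R := CommRingCat.of A)).unit.app M).hom) a m)).trans ?_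
  refine (map_smul (((HensSch.pullPushAdj π).unit.app (tilde M)).val.app (op ⊤)).hom
    (((Scheme.ΓSpecIso (CommRingCat.of A)).inv).hom a) _).trans ?_
  show (show Sec π ⊤ from π.c.app (op ⊤) ((Scheme.ΓSpecIso (CommRingCat.of A)).inv.hom a)) • eta π M m =
    (show Sec π ⊤ from HensSch.secMap π ⊤ a) • eta π M m
  congr 1
  show _ = X.presheaf.map ((Opens.map π.base).map (homOfLE (le_top : (⊤ : Opens (PrimeSpectrum A)) ≤ ⊤))).op _
  rw [show ((Opens.map π.base).map (homOfLE (le_top : (⊤ : Opens (PrimeSpectrum A)) ≤ ⊤))).op = 𝟙 _ from rfl,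
    X.presheaf.map_id]
  rfl

/-- Restriction of sections of the module. -/
noncomputable def resN {U V : Opens (PrimeSpectrum A)} (h : V ≤ U) (x : NSec π M U) : NSec π M V :=
  ((N π M).val.map ((Opens.map π.base).map (homOfLE h)).op).hom x

theorem resN_add {U V : Opens (PrimeSpectrum A)} (h : V ≤ U) (x y : NSec π M U) :
    resN π M h (x + y) = resN π M h x + resN π M h y :=
  map_add ((N π M).val.map ((Opens.map π.base).map (homOfLE h)).op).hom x y

theorem resN_zero {U V : Opens (PrimeSpectrum A)} (h : V ≤ U) : resN π M h (0 : NSec π M U) = 0 :=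
  map_zero ((N π M).val.map ((Opens.map π.base).map (homOfLE h)).op).hom

theorem resN_smul {U V : Opens (PrimeSpectrum A)} (h : V ≤ U) (r : Sec π U) (x : NSec π M U) :
    resN π M h (r • x) = resR π h r • resN π M h x :=
  map_smul ((N π M).val.map ((Opens.map π.base).map (homOfLE h)).op).hom r x

theorem resN_resN {U V W : Opens (PrimeSpectrum A)} (h : V ≤ U) (h' : W ≤ V) (x : NSec π M U) :
    resN π M h' (resN π M h x) = resN π M (h'.trans h) x :=
  (PresheafOfModules.map_comp_apply (N π M).val
    ((Opens.map π.base).map (homOfLE h)).op ((Opens.map π.base).map (homOfLE h')).op x).symm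

/-- The canonical sections over an open. -/
noncomputable def thetaM (U : Opens (PrimeSpectrum A)) : M →ₗ[A] NSec π M U where
  toFun m := resN π M le_top (eta π M m)
  map_add' m m' := by rw [eta_add, resN_add]
  map_smul' a m := by
    rw [eta_smul, show a • eta π M m = algebraMap A (Sec π ⊤) a • eta π M m from rfl, resN_smul,
      AlgHom.commutes]
    rfl

/-- The comparison map. -/
noncomputable def theta (U : Opens (PrimeSpectrum A)) : Sec π U ⊗[A] M →ₗ[Sec π U] NSec π M U :=
  (thetaM π M U).liftBaseChange (Sec π U)

theorem theta_tmul (U : Opens (PrimeSpectrum A)) (r : Sec π U) (m : M) :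
    theta π M U (r ⊗ₜ m) = r • resN π M le_top (eta π M m) :=
  LinearMap.liftBaseChange_tmul _ _ _ _

theorem theta_res {U V : Opens (PrimeSpectrum A)} (h : V ≤ U) (x : Sec π U ⊗[A] M) :
    resN π M h (theta π M U x) = theta π M V ((resR π h).toLinearMap.rTensor M x) := by
  induction x using TensorProduct.induction_on with
  | zero => rw [map_zero, resN_zero, map_zero, map_zero]
  | tmul r m => rw [theta_tmul, resN_smul, resN_resN, LinearMap.rTensor_tmul, theta_tmul]; rfl
  | add x y hx hy => rw [map_add, resN_add, hx, hy, map_add, map_add]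

/-- Germs of sections of the module. -/
noncomputable def germN (U : Opens (PrimeSpectrum A)) (z : X) (hz : π.base z ∈ U) (x : NSec π M U) :
    NSt π M z :=
  germP z (N π M).val (pre π U) hz x

theorem germN_smul (U : Opens (PrimeSpectrum A)) (z : X) (hz : π.base z ∈ U) (r : Sec π U) (x : NSec π M U) :
    germN π M U z hz (r • x) = germR π U z hz r • germN π M U z hz x :=
  germP_smul (N π M).val (pre π U) hz r x

theorem germN_add (U : Opens (PrimeSpectrum A)) (z : X) (hz : π.base z ∈ U) (x y : NSec π M U) :
    germN π M U z hz (x + y) = germN π M U z hz x + germN π M U z hz y :=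
  germP_add (N π M).val (pre π U) hz x y

theorem germN_zero (U : Opens (PrimeSpectrum A)) (z : X) (hz : π.base z ∈ U) :
    germN π M U z hz (0 : NSec π M U) = 0 :=
  germP_zero (N π M).val (pre π U) hz

theorem germN_resN {U V : Opens (PrimeSpectrum A)} (h : V ≤ U) (z : X) (hz : π.base z ∈ V) (x : NSec π M U) :
    germN π M V z hz (resN π M h x) = germN π M U z (h hz) x :=
  germP_res (N π M).val ((Opens.map π.base).map (homOfLE h)) hz x

/-- The canonical elements of the stalk. -/
noncomputable def gen (z : X) : M →ₗ[A] NSt π M z where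
  toFun m := germN π M ⊤ z trivial (eta π M m)
  map_add' m m' := by rw [eta_add, germN_add]
  map_smul' a m := by
    rw [eta_smul, show a • eta π M m = algebraMap A (Sec π ⊤) a • eta π M m from rfl, germN_smul,
      AlgHom.commutes]
    rfl

/-- The comparison on stalks. -/
noncomputable def beta (z : X) : St π z ⊗[A] M →ₗ[St π z] NSt π M z :=
  (gen π M z).liftBaseChange (St π z)

theorem germN_theta (U : Opens (PrimeSpectrum A)) (z : X) (hz : π.base z ∈ U) (x : Sec π U ⊗[A] M) :
    germN π M U z hz (theta π M U x) = beta π M z ((germR π U z hz).toLinearMap.rTensor M x) := by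
  induction x using TensorProduct.induction_on with
  | zero => rw [map_zero, germN_zero, map_zero, map_zero]
  | tmul r m =>
    rw [theta_tmul, germN_smul, germN_resN, LinearMap.rTensor_tmul]
    exact (LinearMap.liftBaseChange_tmul (St π z) (gen π M z) _ m).symm
  | add x y hx hy => rw [map_add, germN_add, hx, hy, map_add, map_add]

/-- Maps out of the stalk correspond to maps out of `M`. -/
noncomputable def stalkHomEquiv (z : X) (P : ModuleCat.{u} (X.presheaf.stalk z)) :
    ((stalkM z).obj (N π M) ⟶ P) ≃ (M ⟶ (moduleSpecΓFunctor (R := CommRingCat.of A)).obj ((HensSch.pushMod π).obj ((sky z).obj P))) :=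
  ((stalkAdj z).homEquiv (N π M) P).trans (((HensSch.pullPushAdj π).homEquiv (tilde M) ((sky z).obj P)).trans
    ((tilde.adjunction (R := CommRingCat.of A)).homEquiv M _))

theorem stalkAdj_app (z : X) {F : ModSite.Mod X.sheaf} {P : ModuleCat.{u} (X.presheaf.stalk z)}
    (f : (stalkM z).obj F ⟶ P) (U : Opens X.toTopCat) (hz : z ∈ U) (s : F.val.obj (op U)) :
    sval (A := P) (U := U) (((stalkAdj z).homEquiv F P f).val.app (op U) s) hz = f (germP z F.val U hz s) := by
  rw [Adjunction.homEquiv_unit]
  rfl

theorem sval_stalkHomEquiv (z : X) {P : ModuleCat.{u} (X.presheaf.stalk z)}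
    (f : (stalkM z).obj (N π M) ⟶ P) (m : M) :
    sval (A := P) (U := pre π ⊤) ((stalkHomEquiv π M z P f).hom m) trivial = f (gen π M z m) := by
  refine Eq.trans ?_ (stalkAdj_app z f (pre π ⊤) trivial (eta π M m))
  simp only [stalkHomEquiv, Equiv.trans_apply]
  erw [Adjunction.homEquiv_unit, Adjunction.homEquiv_unit]
  rfl

theorem stalk_hom_ext (z : X) {P : ModuleCat.{u} (X.presheaf.stalk z)}
    {f g : (stalkM z).obj (N π M) ⟶ P} (h : ∀ m, f (gen π M z m) = g (gen π M z m)) : f = g := by
  refine (stalkHomEquiv π M z P).injective (ModuleCat.hom_ext (LinearMap.ext fun m =>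
    sval_ext (A := P) (U := pre π ⊤) fun hz => ?_))
  exact (sval_stalkHomEquiv π M z f m).trans ((h m).trans (sval_stalkHomEquiv π M z g m).symm)

theorem bijective_beta (z : X) : Function.Bijective (beta π M z) := by
  let P : ModuleCat.{u} (X.presheaf.stalk z) := (ModuleCat.of (St π z) (St π z ⊗[A] M) : ModuleCat.{u} (St π z))
  let u : M →ₗ[A] St π z ⊗[A] M := (TensorProduct.mk A (St π z) M) 1
  let v : M ⟶ (moduleSpecΓFunctor (R := CommRingCat.of A)).obj ((HensSch.pushMod π).obj ((sky z).obj P)) :=
    ModuleCat.ofHom (X := M) (Y := (moduleSpecΓFunctor (R := CommRingCat.of A)).obj ((HensSch.pushMod π).obj ((sky z).obj P)))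
      { toFun := fun m => (smk (A := P) (U := pre π ⊤) fun _ => u m)
        map_add' := fun m m' => sval_ext (A := P) (U := pre π ⊤) fun _ => map_add u m m'
        map_smul' := fun a m => sval_ext (A := P) (U := pre π ⊤) fun hz => by
          refine (map_smul u a m).trans ?_
          show a • u m = (show St π z from X.presheaf.germ (pre π ⊤) z hz
            (π.c.app (op ⊤) ((Scheme.ΓSpecIso (CommRingCat.of A)).inv.hom a))) • u m
          rw [← algebraMap_smul (St π z) a (u m)]
          show (show St π z from X.presheaf.germ (pre π ⊤) z trivial (HensSch.secMap π ⊤ a)) • u m = _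
          rw [HensSch.secMap, show ((Opens.map π.base).map (homOfLE (le_top : (⊤ : Opens (PrimeSpectrum A)) ≤ ⊤))).op
            = 𝟙 _ from rfl, X.presheaf.map_id]
          rfl }
  let f : (stalkM z).obj (N π M) ⟶ P := (stalkHomEquiv π M z P).symm v
  have hf : ∀ m, f (gen π M z m) = u m := fun m => by
    rw [← sval_stalkHomEquiv π M z f m, Equiv.apply_symm_apply]
    rfl
  let fl : NSt π M z →ₗ[St π z] St π z ⊗[A] M := f.hom
  have h1 : fl.comp (beta π M z) = LinearMap.id := by
    refine TensorProduct.AlgebraTensorModule.ext fun r m => ?_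
    show fl (beta π M z (r ⊗ₜ m)) = r ⊗ₜ m
    rw [show beta π M z (r ⊗ₜ m) = r • gen π M z m from LinearMap.liftBaseChange_tmul _ _ _ _, map_smul,
      show fl (gen π M z m) = u m from hf m, TensorProduct.mk_apply, TensorProduct.smul_tmul', smul_eq_mul, mul_one]
  have h2 : (beta π M z).comp fl = LinearMap.id := by
    have := stalk_hom_ext π M z (P := (stalkM z).obj (N π M))
      (f := (ModuleCat.ofHom (X := ((stalkM z).obj (N π M) : Type u)) (Y := ((stalkM z).obj (N π M) : Type u))
        ((beta π M z).comp fl) : (stalkM z).obj (N π M) ⟶ (stalkM z).obj (N π M)))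
      (g := 𝟙 _) (fun m => by
        show beta π M z (fl (gen π M z m)) = gen π M z m
        rw [show fl (gen π M z m) = u m from hf m]
        exact (LinearMap.liftBaseChange_tmul _ _ _ _).trans (one_smul _ _))
    exact congrArg ModuleCat.Hom.hom this
  exact ⟨Function.LeftInverse.injective (g := fl) fun x => LinearMap.congr_fun h1 x,
    fun y => ⟨fl y, LinearMap.congr_fun h2 y⟩⟩

end Groth.Agent.SphLib.SphT
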