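import Groth.Agent.SphLib.Basic

/-!
# The universal property of the Henselization along a closed subset
-/

set_option autoImplicit false
set_option linter.all false
set_option backward.isDefEq.respectTransparency.types false
set_option backward.isDefEq.respectTransparency false

universe u

open CategoryTheory Opposite TopologicalSpace AlgebraicGeometry

namespace Groth.Agent.SphLib

section PullRes

variable {X Y Z : LocallyRingedSpace.{u}}

/-- Pull back a section and restrict it. -/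
noncomputable def pullRes (p : Z ⟶ X) (P : Opens X) (W : Opens Z) (h : W ≤ (Opens.map p.base).obj P) :
    X.presheaf.obj (op P) →+* Z.presheaf.obj (op W) :=
  (Z.presheaf.map (homOfLE h).op).hom.comp (p.c.app (op P)).hom

theorem res_pullRes (p : Z ⟶ X) {P : Opens X} {W W' : Opens Z} (h : W ≤ (Opens.map p.base).obj P) (h' : W' ≤ W)
    (s : X.presheaf.obj (op P)) :
    Z.presheaf.map (homOfLE h').op (pullRes p P W h s) = pullRes p P W' (h'.trans h) s := by
  show (Z.presheaf.map _ ≫ Z.presheaf.map _) (p.c.app (op P) s) = _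
  rw [← Functor.map_comp]
  rfl

theorem pullRes_res (p : Z ⟶ X) {P P' : Opens X} {W : Opens Z} (hP : P' ≤ P) (h : W ≤ (Opens.map p.base).obj P')
    (h₀ : W ≤ (Opens.map p.base).obj P) (s : X.presheaf.obj (op P)) :
    pullRes p P' W h (X.presheaf.map (homOfLE hP).op s) = pullRes p P W h₀ s := by
  show Z.presheaf.map (homOfLE h).op ((X.presheaf.map (homOfLE hP).op ≫ p.c.app (op P')) s) = _
  rw [p.c.naturality]
  show (Z.presheaf.map _ ≫ Z.presheaf.map _) (p.c.app (op P) s) = _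
  rw [← Functor.map_comp]
  rfl

theorem pullRes_congr {p q : Z ⟶ X} (e : p = q) (P : Opens X) (W : Opens Z) (h : W ≤ (Opens.map p.base).obj P) :
    pullRes p P W h = pullRes q P W (e ▸ h) := by
  subst e; rfl

theorem pullRes_comp (p : Z ⟶ Y) (q : Y ⟶ X) {P : Opens X} {Q : Opens Y} {W : Opens Z}
    (hW : W ≤ (Opens.map p.base).obj Q) (hQ : Q ≤ (Opens.map q.base).obj P)
    (h : W ≤ (Opens.map (p ≫ q).base).obj P) (s : X.presheaf.obj (op P)) :
    pullRes (p ≫ q) P W h s = pullRes p Q W hW (pullRes q P Q hQ s) :=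
  (pullRes_res p hQ hW h (q.c.app (op P) s)).symm

theorem basicOpen_pullRes (p : Z ⟶ X) (P : Opens X) (W : Opens Z) (h : W ≤ (Opens.map p.base).obj P)
    (s : X.presheaf.obj (op P)) :
    Z.toRingedSpace.basicOpen (pullRes p P W h s) = W ⊓ (Opens.map p.base).obj (X.toRingedSpace.basicOpen s) := by
  refine (RingedSpace.basicOpen_res Z.toRingedSpace (homOfLE h).op (p.c.app (op P) s)).trans ?_
  rw [LocallyRingedSpace.preimage_basicOpen]

theorem hom_ext_pullRes {p q : Z ⟶ X} (hb : p.base = q.base)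
    (h : ∀ (P : Opens X) (hp : (Opens.map p.base).obj P ≤ (Opens.map q.base).obj P) (s : X.presheaf.obj (op P)),
      pullRes p P _ le_rfl s = pullRes q P _ hp s) : p = q := by
  obtain ⟨⟨b, c⟩, hp⟩ := p
  obtain ⟨⟨b', c'⟩, hq⟩ := q
  change b = b' at hb
  subst hb
  have hc : c = c' := by
    refine NatTrans.ext (funext fun P => CommRingCat.hom_ext (RingHom.ext fun s => ?_))
    have := h P.unop le_rfl s
    simp only [pullRes, RingHom.comp_apply] at this
    simpa using this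
  subst hc
  rfl

end PullRes

section Universal

variable {X : Scheme.{u}} {Xh : LocallyRingedSpace.{u}} (ι : Xh ⟶ X.toLocallyRingedSpace)

/-- The functions vanishing on `Y`. -/
noncomputable def chartI (Y : Set X) (U : X.Opens) : Ideal Γ(X, U) :=
  ⨅ x : {x : U // x.1 ∈ Y}, (IsLocalRing.maximalIdeal (X.presheaf.stalk x.1.1)).comap
    (X.presheaf.germ U x.1.1 x.1.2).hom

theorem mem_chartI {Y : Set X} {U : X.Opens} {a : Γ(X, U)} :
    a ∈ chartI Y U ↔ ∀ x ∈ Y, x ∉ X.basicOpen a := by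
  simp only [chartI, Ideal.mem_iInf, Ideal.mem_comap, IsLocalRing.mem_maximalIdeal, mem_nonunits_iff,
    Subtype.forall]
  constructor
  · intro h x hx hxa
    exact h x (X.basicOpen_le a hxa) hx ((X.mem_basicOpen a x (X.basicOpen_le a hxa)).1 hxa)
  · intro h x hxU hx hu
    exact h x hx ((X.mem_basicOpen a x hxU).2 hu)

/-- The preimage of a basic open. -/
noncomputable abbrev bOpen {U : X.Opens} (f : Γ(X, U)) : Opens Xh := (Opens.map ι.base).obj (X.basicOpen f)

theorem bOpen_le {U : X.Opens} (f : Γ(X, U)) : bOpen ι f ≤ (Opens.map ι.base).obj U :=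
  fun x hx => X.basicOpen_le f hx

/-- The chart map. -/
noncomputable abbrev chartMap (U : X.Opens) (f : Γ(X, U)) : Γ(X, U) →+* Xh.presheaf.obj (op (bOpen ι f)) :=
  pullRes ι U (bOpen ι f) (bOpen_le ι f)

/-- The sections over the basic opens of an affine open are Henselizations. -/
def IsChart (Y : Set X) (U : X.Opens) : Prop :=
  IsAffineOpen U ∧ ∀ f : Γ(X, U),
    HensSch.IsHensAway Γ(X, U) (chartI Y U) f (Xh.presheaf.obj (op (bOpen ι f))) (chartMap ι U f)

/-- Enough charts. -/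
def HasCharts (Y : Set X) : Prop :=
  Topology.IsEmbedding ι.base ∧ Set.range ι.base = Y ∧ ∀ x ∈ Y, ∃ U, x ∈ U ∧ IsChart ι Y U

variable {ι} {Y : Set X} {Z : LocallyRingedSpace.{u}} {g : Z ⟶ X.toLocallyRingedSpace}
  (hc : HasCharts ι Y) (hZ : HensOpens Z) (hg : Set.range g.base ⊆ Y)

include hg in
theorem basicOpen_pullRes_eq_bot {U : X.Opens} {a : Γ(X, U)} (ha : a ∈ chartI Y U) (W : Opens Z)
    (hW : W ≤ (Opens.map g.base).obj U) : Z.toRingedSpace.basicOpen (pullRes g U W hW a) = ⊥ := by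
  rw [basicOpen_pullRes, eq_bot_iff]
  rintro z ⟨-, hz⟩
  exact (mem_chartI.1 ha _ (hg ⟨z, rfl⟩) hz).elim

include hg hZ in
/-- The universal property of a chart. -/
theorem existsUnique_chart {U : X.Opens} (hU : IsChart ι Y U) (f : Γ(X, U)) (W : Opens Z)
    (hW : W ≤ (Opens.map g.base).obj (X.basicOpen f)) :
    ∃! h : Xh.presheaf.obj (op (bOpen ι f)) →+* Z.presheaf.obj (op W),
      h.comp (chartMap ι U f) = pullRes g U W (fun z hz => X.basicOpen_le f (hW hz)) := by
  refine (hU.2 f).2.2 _ (vanI Z W) _ (hZ W) (Ideal.map_le_iff_le_comap.2 fun a ha => ?_) ?_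
  · exact mem_vanI.2 (basicOpen_pullRes_eq_bot hg ha W _)
  · refine Z.toRingedSpace.isUnit_of_isUnit_germ W _ fun z hz => ?_
    refine (RingedSpace.mem_basicOpen Z.toRingedSpace _ z hz).1 ?_
    have e := basicOpen_pullRes g U W (fun z hz => X.basicOpen_le f (hW hz)) f
    exact e.symm ▸ (⟨hz, hW hz⟩ : z ∈ W ⊓ (Opens.map g.base).obj (X.basicOpen f))

include hg hZ in
theorem hom_ext_chart {U : X.Opens} (hU : IsChart ι Y U) (f : Γ(X, U)) (W : Opens Z)
    (hW : W ≤ (Opens.map g.base).obj (X.basicOpen f))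
    {h h' : Xh.presheaf.obj (op (bOpen ι f)) →+* Z.presheaf.obj (op W)}
    (e : ∀ a, h (chartMap ι U f a) = pullRes g U W (fun z hz => X.basicOpen_le f (hW hz)) a)
    (e' : ∀ a, h' (chartMap ι U f a) = pullRes g U W (fun z hz => X.basicOpen_le f (hW hz)) a) : h = h' := by
  obtain ⟨k, -, hk⟩ := existsUnique_chart hZ hg hU f W hW
  exact (hk h (RingHom.ext e)).trans (hk h' (RingHom.ext e')).symm

include hc in
/-- The underlying map of a lift. -/
theorem exists_base (hg : Set.range g.base ⊆ Y) :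
    ∃ γ : Z.toTopCat ⟶ Xh.toTopCat, ∀ z, ι.base (γ z) = g.base z := by
  obtain ⟨he, hr, -⟩ := hc
  choose γ hγ using fun z => (hr.symm ▸ hg ⟨z, rfl⟩ : g.base z ∈ Set.range ι.base)
  refine ⟨TopCat.ofHom ⟨γ, he.isInducing.continuous_iff.2 ?_⟩, hγ⟩
  rw [show ⇑ι.base ∘ γ = ⇑g.base from funext hγ]
  exact g.base.hom.continuous

variable (ι Y) in
/-- Indices of the basis. -/
def Idx : Type u := Σ U : {U : X.Opens // IsChart ι Y U}, Γ(X, U.1)

variable (ι) in
/-- The basis. -/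
noncomputable def bas (i : Idx ι Y) : Opens Xh := bOpen ι i.2

include hc in
theorem exists_bOpen_le (O : Opens Xh) (x : Xh) (hx : x ∈ O) :
    ∃ i : Idx ι Y, x ∈ bas ι i ∧ bas ι i ≤ O := by
  obtain ⟨he, hr, hch⟩ := hc
  obtain ⟨O', hO', hOe⟩ := he.isInducing.isOpen_iff.1 O.2
  obtain ⟨U, hxU, hU⟩ := hch (ι.base x) (hr ▸ ⟨x, rfl⟩)
  obtain ⟨f, hfO, hxf⟩ := hU.1.exists_basicOpen_le (V := (⟨O', hO'⟩ : X.Opens)) ⟨ι.base x, by
    have : x ∈ ι.base ⁻¹' O' := hOe ▸ hx
    exact this⟩ hxU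
  refine ⟨⟨⟨U, hU⟩, f⟩, hxf, fun y hy => ?_⟩
  have : y ∈ ι.base ⁻¹' O' := hfO hy
  rwa [hOe] at this

include hc in
theorem isBasis_bas : Opens.IsBasis (Set.range (bas ι : Idx ι Y → Opens Xh)) := by
  rw [Opens.isBasis_iff_nbhd]
  intro O x hx
  obtain ⟨i, hxi, hi⟩ := exists_bOpen_le hc O x hx
  exact ⟨_, ⟨i, rfl⟩, hxi, hi⟩

include hc hZ hg in
/-- The universal property. -/
theorem existsUnique_comp_eq : ∃! g' : Z ⟶ Xh, g' ≫ ι = g := by
  obtain ⟨γ, hγ⟩ := exists_base hc hg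
  let W : Idx ι Y → Opens Z := fun i => (Opens.map γ).obj (bas ι i)
  have hW : ∀ i, W i ≤ (Opens.map g.base).obj (X.basicOpen i.2) := fun i z hz => by
    show g.base z ∈ X.basicOpen i.2
    rw [← hγ]
    exact hz
  choose h hh using fun i : Idx ι Y => (existsUnique_chart hZ hg i.1.2 i.2 (W i) (hW i)).exists
  have hh' : ∀ i a, h i (chartMap ι i.1.1 i.2 a) =
      pullRes g i.1.1 (W i) (fun z hz => X.basicOpen_le i.2 (hW i hz)) a := fun i => RingHom.congr_fun (hh i)
  -- compatibility with all sections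
  have hnat₁ : ∀ (U : {U : X.Opens // IsChart ι Y U}) (f f' : Γ(X, U.1)) (hle : bOpen ι f' ≤ bOpen ι f)
      (b : Xh.presheaf.obj (op (bOpen ι f))),
      Z.presheaf.map (homOfLE (show W ⟨U, f'⟩ ≤ W ⟨U, f⟩ from fun z hz => hle hz)).op (h ⟨U, f⟩ b) =
        h ⟨U, f'⟩ (Xh.presheaf.map (homOfLE hle).op b) := by
    intro U f f' hle
    refine RingHom.congr_fun (hom_ext_chart hZ hg U.2 f (W ⟨U, f'⟩) (fun z hz => hW ⟨U, f⟩ (hle hz))
      (h := (Z.presheaf.map (homOfLE (show W ⟨U, f'⟩ ≤ W ⟨U, f⟩ from fun z hz => hle hz)).op).hom.comp (h ⟨U, f⟩))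
      (h' := (h ⟨U, f'⟩).comp (Xh.presheaf.map (homOfLE hle).op).hom) (fun a => ?_) fun a => ?_)
    · exact (congrArg _ (hh' ⟨U, f⟩ a)).trans (res_pullRes g _ _ a)
    · exact (congrArg _ (res_pullRes ι _ hle a)).trans (hh' ⟨U, f'⟩ a)
  have hcompat : ∀ (i : Idx ι Y) (P : X.Opens) (hP : bas ι i ≤ (Opens.map ι.base).obj P)
      (hP' : W i ≤ (Opens.map g.base).obj P) (s : Γ(X, P)),
      h i (pullRes ι P (bas ι i) hP s) = pullRes g P (W i) hP' s := by
    rintro ⟨U, f⟩ P hP hP' s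
    have loc : ∀ z : W ⟨U, f⟩, ∃ f' : Γ(X, U.1), X.basicOpen f' ≤ X.basicOpen f ⊓ P ∧ g.base z.1 ∈ X.basicOpen f' := by
      intro z
      have hz : ι.base (γ z.1) ∈ X.basicOpen f ⊓ P := ⟨z.2, hP z.2⟩
      rw [hγ] at hz
      exact U.2.1.exists_basicOpen_le ⟨g.base z.1, hz⟩ (X.basicOpen_le f hz.1)
    choose f' hf' hzf' using loc
    have hle : ∀ z, bOpen ι (f' z) ≤ bOpen ι f := fun z y hy => (hf' z hy).1
    refine Z.sheaf.eq_of_locally_eq' (fun z => W ⟨U, f' z⟩) (W ⟨U, f⟩)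
      (fun z => homOfLE fun y hy => hle z hy) (fun z hz => Opens.mem_iSup.2 ⟨⟨z, hz⟩, ?_⟩) _ _ fun z => ?_
    · show ι.base (γ z) ∈ X.basicOpen _
      rw [hγ]
      exact hzf' ⟨z, hz⟩
    show Z.presheaf.map (homOfLE _).op (h ⟨U, f⟩ _) = Z.presheaf.map (homOfLE _).op _
    rw [hnat₁ U f (f' z) (hle z)]
    refine (congrArg (h ⟨U, f' z⟩) (res_pullRes ι hP (hle z) s)).trans ?_
    refine Eq.trans ?_ (res_pullRes g hP' _ s).symm
    have hPz : X.basicOpen (f' z) ≤ P := fun y hy => (hf' z hy).2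
    haveI := U.2.1.isLocalization_basicOpen (f' z)
    have e : (h ⟨U, f' z⟩).comp (pullRes ι (X.basicOpen (f' z)) (bOpen ι (f' z)) le_rfl) =
        pullRes g (X.basicOpen (f' z)) (W ⟨U, f' z⟩) (hW ⟨U, f' z⟩) := by
      refine IsLocalization.ringHom_ext (Submonoid.powers (f' z)) (RingHom.ext fun a => ?_)
      show h ⟨U, f' z⟩ (pullRes ι _ _ _ (X.presheaf.map (homOfLE (X.basicOpen_le (f' z))).op a)) =
        pullRes g _ _ _ (X.presheaf.map (homOfLE (X.basicOpen_le (f' z))).op a)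
      exact (congrArg _ (pullRes_res ι (X.basicOpen_le (f' z)) _ (bOpen_le ι (f' z)) a)).trans
        ((hh' ⟨U, f' z⟩ a).trans (pullRes_res g (X.basicOpen_le (f' z)) _ _ a).symm)
    exact (congrArg _ (pullRes_res ι hPz le_rfl _ s).symm).trans
      ((RingHom.congr_fun e (X.presheaf.map (homOfLE hPz).op s)).trans (pullRes_res g hPz _ _ s))
  have hnat : ∀ (i i' : Idx ι Y) (hle : bas ι i' ≤ bas ι i) (b : Xh.presheaf.obj (op (bas ι i))),
      Z.presheaf.map (homOfLE (show W i' ≤ W i from fun z hz => hle hz)).op (h i b) =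
        h i' (Xh.presheaf.map (homOfLE hle).op b) := by
    intro i i' hle
    refine RingHom.congr_fun (hom_ext_chart hZ hg i.1.2 i.2 (W i') (fun z hz => hW i (hle hz))
      (h := (Z.presheaf.map (homOfLE (show W i' ≤ W i from fun z hz => hle hz)).op).hom.comp (h i))
      (h' := (h i').comp (Xh.presheaf.map (homOfLE hle).op).hom) (fun a => ?_) fun a => ?_)
    · exact (congrArg _ (hh' i a)).trans (res_pullRes g _ _ a)
    · exact (congrArg _ (res_pullRes ι _ hle a)).trans (hcompat i' i.1.1 _ _ a)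
  let T := (TopCat.Sheaf.pushforward CommRingCat γ).obj Z.sheaf
  have hb := isBasis_bas hc
  let α : (inducedFunctor (bas ι : Idx ι Y → Opens Xh)).op ⋙ Xh.presheaf ⟶
      (inducedFunctor (bas ι : Idx ι Y → Opens Xh)).op ⋙ T.1 :=
    { app := fun i => CommRingCat.ofHom (h i.unop)
      naturality := fun i i' k => CommRingCat.hom_ext (RingHom.ext fun b =>
        (hnat i.unop i'.unop (leOfHom k.unop.hom) b).symm) }
  let c : Xh.presheaf ⟶ T.1 := TopCat.Sheaf.restrictHomEquivHom Xh.presheaf T hb α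
  have hcapp : ∀ i b, c.app (op (bas ι i)) b = h i b := fun i b =>
    ConcreteCategory.congr_hom (TopCat.Sheaf.extend_hom_app Xh.presheaf T hb α i) b
  let pg : Z.toPresheafedSpace ⟶ Xh.toPresheafedSpace := ⟨γ, c⟩
  have hloc : ∀ z, IsLocalHom (pg.stalkMap z).hom := fun z => ⟨fun s hs => by
    obtain ⟨O, hzO, s₀, rfl⟩ := TopCat.Presheaf.germ_exist (x := γ z) Xh.presheaf s
    obtain ⟨i, hzi, hi⟩ := exists_bOpen_le hc O (γ z) hzO
    obtain ⟨b, hb'⟩ : ∃ b, b = Xh.presheaf.map (homOfLE hi).op s₀ := ⟨_, rfl⟩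
    have hg0 : Xh.presheaf.germ O (γ z) hzO s₀ = Xh.presheaf.germ (bas ι i) (γ z) hzi b := by
      rw [hb', TopCat.Presheaf.germ_res_apply]
    rw [hg0] at hs ⊢
    have hzW : z ∈ W i := hzi
    have hs' : IsUnit (Z.presheaf.germ (W i) z hzW (h i b)) := by
      rw [← hcapp]
      have := PresheafedSpace.stalkMap_germ_apply pg (bas ι i) z hzi b
      exact this ▸ hs
    have hI : ∀ a ∈ chartI Y i.1.1, Xh.toRingedSpace.basicOpen (chartMap ι i.1.1 i.2 a) = ⊥ := fun a ha => by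
      rw [basicOpen_pullRes, eq_bot_iff]
      rintro y ⟨-, hy⟩
      exact (mem_chartI.1 ha _ (hc.2.1 ▸ ⟨y, rfl⟩) hy).elim
    obtain ⟨a, n, hab⟩ := exists_sub_mem (i.1.2.2 i.2) b
    let φ := chartMap ι i.1.1 i.2
    let ψ := pullRes g i.1.1 (W i) fun z hz => X.basicOpen_le i.2 (hW i hz)
    have hab1 := map_le_vanI hI hab
    have hab2 : ψ i.2 ^ n * h i b - ψ a ∈ vanI Z (W i) := by
      have h1 := Ideal.mem_map_of_mem (h i) hab
      rw [Ideal.map_map, hh i] at h1
      have h2 := map_le_vanI (fun a ha => basicOpen_pullRes_eq_bot hg ha (W i) _) h1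
      rwa [map_sub, map_mul, map_pow, hh', hh'] at h2
    have hu1 : IsUnit (φ i.2) := (i.1.2.2 i.2).1
    have h3 : IsUnit (Z.presheaf.germ (W i) z hzW (ψ a)) := (isUnit_germ_iff_of_sub_mem hab2 hzW).1 (by
      rw [map_mul, map_pow]
      refine (IsUnit.pow n ?_).mul hs'
      have := hu1.map (h i)
      rw [hh'] at this
      exact this.map _)
    have h4 : g.base z ∈ X.basicOpen a := by
      have := (RingedSpace.mem_basicOpen Z.toRingedSpace _ z hzW).2 h3
      rw [basicOpen_pullRes] at this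
      exact this.2
    have h5 : IsUnit (Xh.presheaf.germ (bas ι i) (γ z) hzi (φ a)) :=
      (RingedSpace.mem_basicOpen Xh.toRingedSpace _ _ hzi).1 (by
        refine (basicOpen_pullRes ι i.1.1 (bOpen ι i.2) (bOpen_le ι i.2) a).symm.le ⟨hzi, ?_⟩
        show ι.base (γ z) ∈ X.basicOpen a
        rw [hγ]
        exact h4)
    have h6 := (isUnit_germ_iff_of_sub_mem hab1 hzi).2 h5
    rw [map_mul] at h6
    exact isUnit_of_mul_isUnit_right h6⟩
  let g' : Z ⟶ Xh := ⟨pg, hloc⟩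
  have hbase : (g' ≫ ι).base = g.base := by
    ext z
    exact hγ z
  have hg'ι : g' ≫ ι = g := by
    refine hom_ext_pullRes hbase fun P hp s => ?_
    let O : Opens Z := (Opens.map (g' ≫ ι).base).obj P
    have loc : ∀ z : O, ∃ i : Idx ι Y, γ z.1 ∈ bas ι i ∧ bas ι i ≤ (Opens.map ι.base).obj P := fun z =>
      exists_bOpen_le hc _ (γ z.1) z.2
    choose i hzi hi using loc
    refine Z.sheaf.eq_of_locally_eq' (fun z => W (i z)) O (fun z => homOfLE fun y hy => hi z hy)
      (fun z hz => Opens.mem_iSup.2 ⟨⟨z, hz⟩, hzi ⟨z, hz⟩⟩) _ _ fun z => ?_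
    show Z.presheaf.map (homOfLE _).op _ = Z.presheaf.map (homOfLE _).op _
    refine (res_pullRes (g' ≫ ι) _ _ s).trans ?_
    refine Eq.trans ?_ (res_pullRes g _ _ s).symm
    rw [pullRes_comp g' ι (Q := bas ι (i z)) (fun y hy => hy) (hi z)]
    refine Eq.trans ?_ (hcompat (i z) P (hi z) (fun y hy => hp (hi z hy)) s)
    show Z.presheaf.map (𝟙 _) (c.app (op (bas ι (i z))) _) = _
    rw [CategoryTheory.Functor.map_id]
    exact hcapp _ _
  refine ⟨g', hg'ι, fun q hq => ?_⟩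
  have hqb : q.base = γ := by
    ext z
    exact hc.1.injective ((congrArg (fun m : Z ⟶ X.toLocallyRingedSpace => m.base z) hq).trans (hγ z).symm)
  obtain ⟨⟨qb, qc⟩, hql⟩ := q
  change qb = γ at hqb
  subst hqb
  have hqc : qc = c := TopCat.Sheaf.hom_ext Xh.presheaf T hb fun i => CommRingCat.hom_ext <| by
    refine hom_ext_chart hZ hg i.1.2 i.2 (W i) (hW i) (fun a => ?_)
      (fun a => (hcapp i _).trans (hh' i a))
    have := pullRes_congr hq i.1.1 (W i) (fun y hy => X.basicOpen_le i.2 hy)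
    refine Eq.trans ?_ (RingHom.congr_fun this a)
    rw [pullRes_comp (⟨⟨qb, qc⟩, hql⟩ : Z ⟶ Xh) ι (Q := bas ι i) (fun y hy => hy) (bOpen_le ι i.2)]
    show _ = Z.presheaf.map (𝟙 _) (qc.app (op (bas ι i)) _)
    rw [CategoryTheory.Functor.map_id]
    rfl
  subst hqc
  rfl

end Universal

end Groth.Agent.SphLib
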